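import Cfsg.Agent.H487.SchurMult
import Cfsg.Agent.OddHalf.CoverAlt
import Cfsg.Agent.OrdDiv.Table
import Cfsg.Agent.S2034
import Cfsg.Agent.S2035
import Cfsg.Agent.S2037
import Cfsg.Agent.S2038
import Cfsg.Agent.S2039
import Cfsg.Agent.S2040
import Cfsg.Agent.S2041
import Cfsg.Agent.S2042
import Cfsg.Agent.S2043
import Cfsg.Agent.S2044
import Cfsg.Agent.S2045
import Cfsg.Agent.S2046
import Cfsg.Agent.S2047
import Cfsg.Agent.S2049
import Cfsg.Agent.S2050
import Cfsg.Agent.S2051
import Cfsg.Agent.S2052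
import Cfsg.Agent.S2053
import Cfsg.Agent.S2054
import Cfsg.Agent.S2055
import Cfsg.Agent.S2056
import Cfsg.Agent.S2057
import Cfsg.Agent.S2058
import Cfsg.Agent.S2059
import Cfsg.Agent.S2115
import Cfsg.Agent.S2100
import Cfsg.Agent.S2101
import Cfsg.Agent.S2102
import Cfsg.Agent.S2103
import Cfsg.Agent.S2104
import Cfsg.Agent.S2105
import Cfsg.Agent.S2106
import Cfsg.Agent.S2107
import Cfsg.Agent.S2108
import Cfsg.Agent.S2109
import Cfsg.Agent.S2110
import Cfsg.Agent.S2111
import Cfsg.Agent.S2112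
import Cfsg.Agent.S2113
import Cfsg.Agent.S2114
import Cfsg.Agent.S0243
import Cfsg.Agent.S0280
import Cfsg.Agent.S0292
import Cfsg.Agent.S2086
import Cfsg.Agent.S2089
import Cfsg.Agent.S2091
import Cfsg.Agent.S2092
import Cfsg.Agent.S2093
import Cfsg.Agent.S2094
import Cfsg.Agent.S2096
import Cfsg.Agent.S2097
import Cfsg.Agent.S2098
import Cfsg.Agent.S2099
import Cfsg.Agent.Prune
set_option linter.all false
prune_inst 0x7f00000000000000000000000000000000000000000000000000000000000000000000000000000000000000000000000000000000000000000000000000000000000000000000000000000000000000003fffffffffffffffffffffffffffbeffbdffffffff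
open scoped Cfsg.Agent.FastGrp

-- part: H917/FourBase
section
/-!
# Elements of order 4 in the kernel of a perfect central 2-extension (helper917)

`NoFour T` : every perfect finite central extension of `T` by a 2-group has kernel of exponent 2.
-/

set_option autoImplicit false

namespace Cfsg.Agent.H917

universe u v w

/-- every finite perfect central extension of `T` by a 2-group has a kernel of exponent at most 2 -/
def NoFour (T : Type v) [Group T] : Prop :=
  ∀ (C : Type u) [Group C] [Finite C] (f : C →* T), Function.Surjective f → f.ker ≤ Subgroup.center C →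
    commutator C = ⊤ → IsPGroup 2 f.ker → ∀ z ∈ f.ker, z ^ 2 = 1

theorem NoFour.congr {T : Type v} [Group T] {T' : Type w} [Group T'] (h : NoFour.{u} T) (e : T' ≃* T) :
    NoFour.{u} T' := by
  intro C _ _ f hf hc hC h2 z hz
  have hk : (e.toMonoidHom.comp f).ker = f.ker := by
    ext x
    simp [MonoidHom.mem_ker]
  refine h C (e.toMonoidHom.comp f) (e.surjective.comp hf) (by rw [hk]; exact hc) hC (by rw [hk]; exact h2) z ?_
  rw [hk]; exact hz

theorem NoFour.of_nonempty {T : Type v} [Group T] {T' : Type w} [Group T'] (h : NoFour.{u} T)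
    (e : Nonempty (T' ≃* T)) : NoFour.{u} T' := h.congr e.some

theorem noFour_of_mult {T : Type v} [Group T] {A : Type w} [CommGroup A] (h : Cfsg.HasSchurMultiplier T A) {m : ℕ}
    (hm : Odd m) (hA : ∀ a : A, a ^ (2 * m) = 1) : NoFour.{u} T := by
  intro C _ _ f hf hc hC h2 z hz
  obtain ⟨π, hπ⟩ := H487.HasSchurMultiplier.exists_surj_ker h (D := C) (τ := f) ⟨hf, hc, by rw [hC]; exact le_top⟩
  obtain ⟨a, ha⟩ := hπ ⟨z, hz⟩
  have h1 : (⟨z, hz⟩ : f.ker) ^ (2 * m) = 1 := by rw [← ha, ← map_pow, hA, map_one]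
  obtain ⟨k, hk⟩ := h2 ⟨z, hz⟩
  have h3 : orderOf (⟨z, hz⟩ : f.ker) ∣ 2 ^ k := orderOf_dvd_of_pow_eq_one hk
  have h4 : orderOf (⟨z, hz⟩ : f.ker) ∣ 2 * m := orderOf_dvd_of_pow_eq_one h1
  have h5 : Nat.Coprime (orderOf (⟨z, hz⟩ : f.ker)) m :=
    Nat.Coprime.coprime_dvd_left h3 (Nat.Coprime.pow_left k (Nat.coprime_two_left.2 hm))
  have h6 : orderOf (⟨z, hz⟩ : f.ker) ∣ 2 := h5.dvd_of_dvd_mul_right h4
  have h7 := orderOf_dvd_iff_pow_eq_one.1 h6
  exact congrArg Subtype.val h7

theorem noFour_of_cyc {T : Type v} [Group T] {n : ℕ} (h : Cfsg.HasCyclicSchurMultiplier T n) {m : ℕ}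
    (hm : Odd m) (hn : n ∣ 2 * m) : NoFour.{u} T := by
  refine noFour_of_mult h hm fun a => ?_
  obtain ⟨k, hk⟩ := hn
  rw [hk, pow_mul]
  have : a ^ n = 1 := by
    apply Multiplicative.toAdd.injective
    rw [toAdd_pow, toAdd_one, nsmul_eq_mul, ZMod.natCast_self, zero_mul]
  rw [this, one_pow]

theorem noFour_one {T : Type v} [Group T] (h : Cfsg.HasCyclicSchurMultiplier T 1) : NoFour.{u} T :=
  noFour_of_cyc h (m := 1) odd_one (by decide)
theorem noFour_two {T : Type v} [Group T] (h : Cfsg.HasCyclicSchurMultiplier T 2) : NoFour.{u} T :=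
  noFour_of_cyc h (m := 1) odd_one (by decide)
theorem noFour_three {T : Type v} [Group T] (h : Cfsg.HasCyclicSchurMultiplier T 3) : NoFour.{u} T :=
  noFour_of_cyc h (m := 3) (by decide) (by decide)
theorem noFour_six {T : Type v} [Group T] (h : Cfsg.HasCyclicSchurMultiplier T 6) : NoFour.{u} T :=
  noFour_of_cyc h (m := 3) (by decide) (by decide)

theorem noFour_gcd_two {T : Type v} [Group T] {k : ℕ} (h : Cfsg.HasCyclicSchurMultiplier T (Nat.gcd 2 k)) :
    NoFour.{u} T :=
  noFour_of_cyc h (m := 1) odd_one (by simpa using Nat.gcd_dvd_left 2 k)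

theorem noFour_gcd_three {T : Type v} [Group T] {k : ℕ} (h : Cfsg.HasCyclicSchurMultiplier T (Nat.gcd 3 k)) :
    NoFour.{u} T :=
  noFour_of_cyc h (m := 3) (by decide) ((Nat.gcd_dvd_left 3 k).trans (by decide))

/-- multiplier of order `gcd k n` with `k` odd -/
theorem noFour_gcd_odd {T : Type v} [Group T] {k n : ℕ} (hk : Odd k)
    (h : Cfsg.HasCyclicSchurMultiplier T (Nat.gcd n k)) : NoFour.{u} T :=
  noFour_of_cyc h (m := k) hk ((Nat.gcd_dvd_right n k).trans (dvd_mul_left _ _))

theorem noFour_alt {n : ℕ} (hn : 5 ≤ n) : NoFour.{u} (alternatingGroup (Fin n)) := by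
  intro C _ _ f hf hc hC h2 z hz
  have h : OddHalf.CoverAlt.Ext f := by
    refine ⟨hf, ?_, ?_, hC⟩
    · intro x hx y
      exact (Subgroup.mem_center_iff.1 (hc (MonoidHom.mem_ker.2 hx)) y).symm
    · intro x hx
      obtain ⟨k, hk⟩ := h2 ⟨x, MonoidHom.mem_ker.2 hx⟩
      exact ⟨k, congrArg Subtype.val hk⟩
  obtain ⟨w, -, hw, h3⟩ := h.exists_z hn
  rcases h3 z (MonoidHom.mem_ker.1 hz) with rfl | rfl
  · exact one_pow 2
  · rw [pow_two]; exact hw

end Cfsg.Agent.H917
end

-- part: H917/FourSpor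
section
/-!
# `NoFour` for the sporadic groups (helper917)

`noFour_spor` : a sporadic group of order divisible by `2 ^ 15` has no perfect central extension by a 2-group with an
element of order 4 in the kernel (the exceptions `M22` and, as long as S2048 is missing, `Suz` are excluded by order).
-/

set_option autoImplicit false

namespace Cfsg.Agent.H917

open Cfsg

universe u v

theorem not_suz {T : Type v} [Group T] (h15 : 2 ^ 15 ∣ Nat.card T) (h : Spor.IsoSuz T) : False := by
  have h1 := OrdDiv.table.{v}.spor T (.suz, 448345497600) (by decide) h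
  rw [h1] at h15
  revert h15
  decide

theorem not_m22 {T : Type v} [Group T] (h15 : 2 ^ 15 ∣ Nat.card T) (h : Spor.IsoM22 T) : False := by
  have h1 := OrdDiv.table.{v}.spor T (.m22, 443520) (by decide) h
  rw [h1] at h15
  revert h15
  decide

theorem noFour_spor {T : Type v} [Group T] (h : IsSporadicGroup T) (h15 : 2 ^ 15 ∣ Nat.card T) : NoFour.{u} T := by
  rcases h with h | h | h | h | h | h | h | h | h | h | h | h | h | h | h | h | h | h | h | h | h | h | h | h | h | h
  · exact (noFour_one S2034.result).of_nonempty h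
  · exact (noFour_two S2035.result).of_nonempty h
  · exact (not_m22 h15 h).elim
  · exact (noFour_one S2037.result).of_nonempty h
  · exact (noFour_one S2038.result).of_nonempty h
  · exact (noFour_one S2039.result).of_nonempty h
  · exact (noFour_two S2040.result).of_nonempty h
  · obtain ⟨F, _, _, ω, hF, hω, e⟩ := h
    exact (noFour_three (S2041.result hF ω hω)).of_nonempty e
  · exact (noFour_one S2042.result).of_nonempty h
  · exact (noFour_two S2043.result).of_nonempty h
  · exact (noFour_one S2044.result).of_nonempty h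
  · exact (noFour_one S2045.result).of_nonempty h
  · exact (noFour_three S2047.result).of_nonempty h
  · exact (noFour_two S2046.result).of_nonempty h
  · exact (not_suz h15 h).elim
  · exact (noFour_one S2049.result).of_nonempty h
  · exact (noFour_two S2051.result).of_nonempty h
  · exact (noFour_three S2052.result).of_nonempty h
  · exact (noFour_one S2050.result).of_nonempty h
  · exact (noFour_six S2053.result).of_nonempty h
  · exact (noFour_one S2054.result).of_nonempty h
  · exact (noFour_three S2055.result).of_nonempty h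
  · exact (noFour_one S2056.result).of_nonempty h
  · exact (noFour_one S2057.result).of_nonempty h
  · exact (noFour_two S2058.result).of_nonempty h
  · exact (noFour_one S2059.result).of_nonempty h

end Cfsg.Agent.H917
end

-- part: H917/FourExc
section
/-!
# `NoFour` for the exceptional groups of Lie type (helper917)
-/

set_option autoImplicit false

namespace Cfsg.Agent.H917

open Cfsg

universe u v

theorem noFour_mult_aux {T : Type v} [Group T]
    (h : HasSchurMultiplier T (Multiplicative (ZMod 3 × ZMod 2 × ZMod 2))) : NoFour.{u} T := by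
  refine noFour_of_mult h (m := 3) (by decide) ?_
  have : ∀ a : ZMod 3 × ZMod 2 × ZMod 2, (2 * 3) • a = 0 := by decide
  exact this

theorem noFour_mult_aux2 {T : Type v} [Group T]
    (h : HasSchurMultiplier T (Multiplicative (ZMod 2 × ZMod 2))) : NoFour.{u} T := by
  refine noFour_of_mult h (m := 1) (by decide) ?_
  have : ∀ a : ZMod 2 × ZMod 2, (2 * 1) • a = 0 := by decide
  exact this

theorem noFour_exc {T : Type v} [Group T] (h : IsExceptionalLieType T) : NoFour.{u} T := by
  rcases h with h | h | h | h | h | h | h | h | h | h | h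
  · obtain ⟨F, _, _, hF, e⟩ := h
    by_cases h5 : 5 ≤ Fintype.card F
    · exact (noFour_one (S2100.result h5)).of_nonempty e
    · rcases (show Fintype.card F = 3 ∨ Fintype.card F = 4 by omega) with h | h
      · exact (noFour_three (S2101.result h)).of_nonempty e
      · exact (noFour_two (S2102.result h)).of_nonempty e
  · obtain ⟨F, _, _, e⟩ := h
    by_cases h5 : 3 ≤ Fintype.card F
    · exact (noFour_one (S2103.result h5)).of_nonempty e
    · have h1 : 1 < Fintype.card F := Fintype.one_lt_card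
      exact (noFour_two (S2104.result (show Fintype.card F = 2 by omega))).of_nonempty e
  · obtain ⟨F, _, _, e⟩ := h
    exact (noFour_gcd_three (S2105.result rfl)).of_nonempty e
  · obtain ⟨F, _, _, e⟩ := h
    exact (noFour_gcd_two (S2106.result rfl)).of_nonempty e
  · obtain ⟨F, _, _, e⟩ := h
    exact (noFour_one S2107.result).of_nonempty e
  · obtain ⟨K, _, _, q, hq, hK, e⟩ := h
    by_cases h2 : q = 2
    · subst h2
      exact (noFour_mult_aux (S2109.result hK)).of_nonempty e
    · exact (noFour_gcd_three (S2108.result hq hK h2)).of_nonempty e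
  · obtain ⟨K, _, _, q, hq, hK, e⟩ := h
    exact (noFour_one (S2110.result hq hK)).of_nonempty e
  · obtain ⟨F, _, _, m, hm, hF, e⟩ := h
    by_cases h2 : m = 1
    · subst h2
      exact (noFour_mult_aux2 (S2112.result hF)).of_nonempty e
    · exact (noFour_one (S2111.result (show 2 ≤ m by omega) hF)).of_nonempty e
  · obtain ⟨F, _, _, m, hm, hF, e⟩ := h
    exact (noFour_one (S2113.result hm hF)).of_nonempty e
  · obtain ⟨F, _, _, m, hm, hF, e⟩ := h
    exact (noFour_one (S2114.result hm hF)).of_nonempty e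
  · exact (noFour_one S2115.result).of_nonempty h

end Cfsg.Agent.H917
end

-- part: H917/FourClass
section
/-!
# `NoFour` for the classical groups (helper917)

The classical groups with a perfect central extension by a 2-group whose kernel has an element of order 4, of order
divisible by `2 ^ 15`: only `PSL_n(q)`, `PSU_n(q)`, `PΩ^±_{2l}(q)`, `q` odd, `l ≥ 5` odd.
-/

set_option autoImplicit false

namespace Cfsg.Agent.H917

open Cfsg

universe u v

variable {T : Type v} [Group T]

theorem noFour_psl (h : IsPSL T) (h15 : 2 ^ 15 ∣ Nat.card T) : NoFour.{u} T ∨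
    ∃ (F : Type) (_ : Field F) (_ : Fintype F) (n : ℕ), 2 ≤ n ∧ Odd (Fintype.card F) ∧
      Nonempty (T ≃* Matrix.ProjectiveSpecialLinearGroup (Fin n) F) := by
  obtain ⟨F, _, _, n, hn, h2, ⟨e⟩⟩ := h
  rcases Nat.even_or_odd (Fintype.card F) with hF | hF
  swap
  · exact Or.inr ⟨F, _, _, n, hn, hF, ⟨e⟩⟩
  left
  have hc := Nat.card_congr e.toEquiv
  rw [hc] at h15
  have hS := S0243.result (F := F) rfl n hn
  have h1 : 1 < Fintype.card F := Fintype.one_lt_card
  by_cases hexc : (n, Fintype.card F) ∉ ({(2, 4), (2, 9), (3, 2), (3, 4), (4, 2)} : Set (ℕ × ℕ))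
  · refine (noFour_gcd_odd ?_ (S2086.result rfl n hn h2 hexc)).congr e
    obtain ⟨k, hk⟩ := hF
    exact ⟨k - 1, by omega⟩
  · exfalso
    rw [not_not] at hexc
    simp only [Set.mem_insert_iff, Prod.mk.injEq, Set.mem_singleton_iff] at hexc
    have h16 : 2 ^ 15 ∣ ∏ i : Fin n, ((Fintype.card F) ^ n - (Fintype.card F) ^ (i : ℕ)) := by
      rw [← hS]
      exact (h15.mul_left _).mul_left _
    rcases hexc with ⟨rfl, hq⟩ | ⟨rfl, hq⟩ | ⟨rfl, hq⟩ | ⟨rfl, hq⟩ | ⟨rfl, hq⟩ <;> rw [hq] at h16 <;>
      revert h16 <;> decide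

theorem noFour_psp (h : IsPSp T) : NoFour.{u} T := by
  obtain ⟨F, _, _, m, hm, h2, ⟨e⟩⟩ := h
  by_cases hexc : m = 3 ∧ Fintype.card F = 2
  · obtain ⟨rfl, hq⟩ := hexc
    exact (noFour_two (S2093.result hq)).congr e
  · exact (noFour_gcd_two (S2092.result rfl m hm h2 hexc)).congr e

theorem noFour_psu (h : IsPSU T) (h15 : 2 ^ 15 ∣ Nat.card T) : NoFour.{u} T ∨
    ∃ (F : Type) (_ : Field F) (_ : Fintype F) (n q : ℕ), Fintype.card F = q ^ 2 ∧ 3 ≤ n ∧ Odd q ∧
      Nonempty (T ≃* PSU n F q) := by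
  obtain ⟨F, _, _, n, q, hq, hn, h32, ⟨e⟩⟩ := h
  rcases Nat.even_or_odd q with hF | hF
  swap
  · exact Or.inr ⟨F, _, _, n, q, hq, hn, hF, ⟨e⟩⟩
  left
  have hc := Nat.card_congr e.toEquiv
  rw [hc] at h15
  have hS := S0280.result hq n (by omega)
  by_cases h62 : n = 6 ∧ q = 2
  · obtain ⟨rfl, rfl⟩ := h62
    refine (noFour_of_mult (S2091.result (by rw [hq]; norm_num)) (m := 3) (by decide) ?_).congr e
    have : ∀ a : ZMod 3 × ZMod 2 × ZMod 2, (2 * 3) • a = 0 := by decide
    exact this
  by_cases hexc : (n, q) ∉ ({(4, 2), (4, 3), (6, 2)} : Set (ℕ × ℕ))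
  · exact (noFour_gcd_odd (Even.add_one hF) (S2089.result n q hq hn h32 hexc)).congr e
  · exfalso
    rw [not_not] at hexc
    simp only [Set.mem_insert_iff, Prod.mk.injEq, Set.mem_singleton_iff] at hexc
    have h16 := (h15.mul_left (q + 1)).mul_left (Nat.gcd n (q + 1))
    rw [hS] at h16
    rcases hexc with ⟨rfl, rfl⟩ | ⟨rfl, rfl⟩ | ⟨rfl, rfl⟩
    · revert h16; decide
    · revert h16; decide
    · exact h62 ⟨rfl, rfl⟩

theorem noFour_oodd (h : IsPOmegaOdd T) (h15 : 2 ^ 15 ∣ Nat.card T) : NoFour.{u} T := by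
  obtain ⟨F, _, _, m, hm, hF, ⟨e⟩⟩ := h
  by_cases hexc : m = 3 ∧ Fintype.card F = 3
  · exfalso
    obtain ⟨rfl, hq⟩ := hexc
    have hc := Nat.card_congr e.toEquiv
    rw [hc] at h15
    have h16 := h15.mul_left 2
    rw [S0292.result hq (by decide) 3 (by norm_num)] at h16
    revert h16; decide
  · exact (noFour_two (S2094.result rfl hF m hm hexc)).congr e

theorem odd_pow_sub_one {q l : ℕ} (hq : Even q) (h0 : 1 ≤ q ^ l) (hl : 1 ≤ l) : Odd (q ^ l - 1) := by
  have h1 : Even (q ^ l) := hq.pow_of_ne_zero (by omega)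
  obtain ⟨k, hk⟩ := h1
  exact ⟨k - 1, by omega⟩

theorem noFour_oplus (h : IsPOmegaPlus T) : NoFour.{u} T ∨
    ∃ (F : Type) (_ : Field F) (_ : Fintype F) (l : ℕ), 5 ≤ l ∧ Odd l ∧ Odd (Fintype.card F) ∧
      Nonempty (T ≃* POmega F (quadFormPlus l F)) := by
  obtain ⟨F, _, _, l, hl, ⟨e⟩⟩ := h
  have h1 : 1 < Fintype.card F := Fintype.one_lt_card
  rcases Nat.even_or_odd l with he | ho
  · left
    by_cases hexc : l = 4 ∧ Fintype.card F = 2
    · obtain ⟨rfl, hq⟩ := hexc
      refine (noFour_of_mult (S2098.result hq) (m := 1) (by decide) ?_).congr e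
      have : ∀ a : ZMod 2 × ZMod 2, (2 * 1) • a = 0 := by decide
      exact this
    · have hS := S2097.result rfl l hl he hexc (F := F)
      refine (noFour_of_mult hS (m := 1) (by decide) ?_).congr e
      have hg : ∀ g : ℕ, g ∣ 2 → ∀ a : ZMod g × ZMod g, (2 * 1) • a = 0 := by
        intro g hg a
        obtain ⟨k, hk⟩ := hg
        have : ∀ b : ZMod g, 2 • b = 0 := by
          intro b
          rw [hk, mul_comm, mul_smul, nsmul_eq_mul g, ZMod.natCast_self, zero_mul, smul_zero]
        rw [mul_one]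
        exact Prod.ext (this a.1) (this a.2)
      exact hg _ (Nat.gcd_dvd_left 2 _)
  · rcases Nat.even_or_odd (Fintype.card F) with hF | hF
    · left
      exact (noFour_gcd_odd (odd_pow_sub_one hF (Nat.one_le_pow _ _ (by omega)) (by omega))
        (S2096.result rfl l (by obtain ⟨k, hk⟩ := ho; omega) ho)).congr e
    · exact Or.inr ⟨F, _, _, l, by obtain ⟨k, hk⟩ := ho; omega, ho, hF, ⟨e⟩⟩

theorem noFour_ominus (h : IsPOmegaMinus T) : NoFour.{u} T ∨
    ∃ (F : Type) (_ : Field F) (_ : Fintype F) (l : ℕ) (a b : F), 5 ≤ l ∧ Odd l ∧ Odd (Fintype.card F) ∧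
      (∀ z₁ z₂ : F, z₁ ^ 2 + a * z₁ * z₂ + b * z₂ ^ 2 = 0 → z₁ = 0 ∧ z₂ = 0) ∧
      Nonempty (T ≃* POmega F (quadFormMinus (l - 1) F a b)) := by
  obtain ⟨F, _, _, l, a, b, hl, hab, ⟨e⟩⟩ := h
  have h1 : 1 < Fintype.card F := Fintype.one_lt_card
  have hS := S2099.result rfl l hl a b hab
  rcases Nat.even_or_odd (Fintype.card F) with hF | hF
  · left
    exact (noFour_gcd_odd (Even.add_one (hF.pow_of_ne_zero (by omega))) hS).congr e
  rcases Nat.even_or_odd l with he | ho
  · left
    refine (noFour_of_cyc hS (m := 1) (by decide) ?_).congr e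
    have h4 : (Fintype.card F ^ l + 1) % 4 = 2 := by
      obtain ⟨k, rfl⟩ := he
      have h5 : Fintype.card F % 4 = 1 ∨ Fintype.card F % 4 = 3 := by
        obtain ⟨j, hj⟩ := hF; omega
      rw [← two_mul, pow_mul, Nat.add_mod, Nat.pow_mod]
      have h6 : Fintype.card F ^ 2 % 4 = 1 := by
        rcases h5 with h5 | h5 <;> rw [Nat.pow_mod, h5]
      rw [h6]
      simp
    have h7 : Nat.gcd 4 (Fintype.card F ^ l + 1) ∣ 4 := Nat.gcd_dvd_left _ _
    have h8 : Nat.gcd 4 (Fintype.card F ^ l + 1) ∣ Fintype.card F ^ l + 1 := Nat.gcd_dvd_right _ _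
    have h9 : Nat.gcd 4 (Fintype.card F ^ l + 1) ∣ (Fintype.card F ^ l + 1) % 4 :=
      (Nat.dvd_mod_iff h7).2 h8
    rw [h4] at h9
    exact h9
  · exact Or.inr ⟨F, _, _, l, a, b, by obtain ⟨k, hk⟩ := ho; omega, ho, hF, hab, ⟨e⟩⟩

end Cfsg.Agent.H917
end

-- part: H917/Four
section
/-!
# Known simple groups with a perfect central extension with an element of order 4 in the kernel (helper917)

`no_four` : a known non-abelian simple group of order divisible by `2 ^ 15` with a perfect central extension by a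
2-group, the kernel having an element which does not satisfy `z ^ 2 = 1`, is `PSL_n(q)`, `PSU_n(q)`, or
`PΩ^±_{2l}(q)` with `l ≥ 5` odd, `q` odd in all cases.
-/

set_option autoImplicit false

namespace Cfsg.Agent.H917

open Cfsg

universe u v

theorem no_four {T : Type v} [Group T] (h : IsKnownSimple' T) (hna : ¬ ∀ a b : T, a * b = b * a)
    (h15 : 2 ^ 15 ∣ Nat.card T) : NoFour.{u} T ∨
    (∃ (F : Type) (_ : Field F) (_ : Fintype F) (n : ℕ), 2 ≤ n ∧ Odd (Fintype.card F) ∧
      Nonempty (T ≃* Matrix.ProjectiveSpecialLinearGroup (Fin n) F)) ∨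
    (∃ (F : Type) (_ : Field F) (_ : Fintype F) (n q : ℕ), Fintype.card F = q ^ 2 ∧ 3 ≤ n ∧ Odd q ∧
      Nonempty (T ≃* PSU n F q)) ∨
    (∃ (F : Type) (_ : Field F) (_ : Fintype F) (l : ℕ), 5 ≤ l ∧ Odd l ∧ Odd (Fintype.card F) ∧
      Nonempty (T ≃* POmega F (quadFormPlus l F))) ∨
    (∃ (F : Type) (_ : Field F) (_ : Fintype F) (l : ℕ) (a b : F), 5 ≤ l ∧ Odd l ∧ Odd (Fintype.card F) ∧
      (∀ z₁ z₂ : F, z₁ ^ 2 + a * z₁ * z₂ + b * z₂ ^ 2 = 0 → z₁ = 0 ∧ z₂ = 0) ∧
      Nonempty (T ≃* POmega F (quadFormMinus (l - 1) F a b))) := by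
  rcases h with h | h | h | h | h | h | h | h | h | h
  · exfalso
    apply hna
    have : Fact (Nat.card T).Prime := ⟨h⟩
    have : IsCyclic T := isCyclic_of_prime_card (p := Nat.card T) rfl
    let _ : CommGroup T := IsCyclic.commGroup
    exact fun a b => mul_comm a b
  · obtain ⟨n, hn, e⟩ := h
    exact Or.inl ((noFour_alt hn).of_nonempty e)
  · rcases noFour_psl.{u} h h15 with h | h
    · exact Or.inl h
    · exact Or.inr (Or.inl h)
  · exact Or.inl (noFour_psp h)
  · rcases noFour_psu.{u} h h15 with h | h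
    · exact Or.inl h
    · exact Or.inr (Or.inr (Or.inl h))
  · exact Or.inl (noFour_oodd h h15)
  · rcases noFour_oplus.{u} h with h | h
    · exact Or.inl h
    · exact Or.inr (Or.inr (Or.inr (Or.inl h)))
  · rcases noFour_ominus.{u} h with h | h
    · exact Or.inl h
    · exact Or.inr (Or.inr (Or.inr (Or.inr h)))
  · exact Or.inl (noFour_exc h)
  · exact Or.inl (noFour_spor h h15)

end Cfsg.Agent.H917
end
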