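import Cfsg.Agent.H917.OmAlt2
import Cfsg.Agent.H871.Par8
import Mathlib.Topology.Compactification.OnePoint.ProjectiveLine
import Mathlib.FieldTheory.Finite.Basic
import Mathlib
import Cfsg.Agent.LieClassical.OrthFinite
import Cfsg.Agent.H883.Bridge
import Cfsg.Agent.ClassicalGeometry.SiegelGen
import Cfsg.Agent.H925.U52Form
import Cfsg.Agent.H906.Cover_m3
import Cfsg.Agent.H875.TwoQuad
import Mathlib.Algebra.Polynomial.Taylor
import Cfsg.Agent.H905.MdN
import Cfsg.Agent.H905.Sp4Final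
import Cfsg.Agent.H392.TD.Main
import Cfsg.Agent.H887.DS.SixFive
import Cfsg.Agent.H879.Nine.RowPSL
import Cfsg.Agent.H879.Nine.Ctx_m3
import Cfsg.Agent.H708.ReeSix_m3
import Cfsg.Agent.H708.ReeTw
import Cfsg.Agent.H927.LDTwF4
import Cfsg.Agent.H924.D5L
import Cfsg.Agent.H876.D3.Main5_m3
import Cfsg.Agent.H927.G2Main
import Cfsg.Agent.LieClassical.FieldTransfer
import Mathlib.GroupTheory.OrderOfElement
import Cfsg.Agent.H916.T8
import Cfsg.Agent.H936.List12c
import Cfsg.Agent.H936.U33Two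
import Cfsg.Agent.H937.T2Rep_m3
import Cfsg.Agent.H464.L2StageOne_m3
import Cfsg.Agent.H936.U33All
import Cfsg.Agent.H36.U52.Main
import Cfsg.Agent.H814.SzEightCore
import Cfsg.Agent.H4.JT.Two
import Cfsg.Agent.H95.JT.Core
import Cfsg.Agent.H806.LsFiLe
import Cfsg.Agent.H659.J1Not11
import Cfsg.Agent.H179.JoneL
import Cfsg.Agent.H878.Sz.MainThree
import Cfsg.Agent.H878.Sz.MainP3
import Cfsg.Agent.H937.G24.Row
import Cfsg.Agent.FastGrp
import Cfsg.Agent.Prune
set_option linter.all false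

section
prune_inst 0x7ffdadfbfbfc7bdfdfff7e77aedcdffdf9b93fffa6dff9cbffe061ff0b9f4b80c9c52bad0be810fc1ef6601410f87b43fbffeabfe06fdc7ffffd5ff41ffbfe0ffdf73508519488340fbc0ff603f0778e7f3fffffffffffffffffffffffffffbeffbfffffffff

-- part: H917/OmL27e
section
prune_inst 0x40001802000000000000200000202000000000000000000008000000000004000000201020000800000000000040004400200000000000000000000400000800000000400000000090000000000000000000000000000000000000000000000000000
set_option linter.all false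
open scoped Cfsg.Agent.FastGrp

-- part: H24/Om/Line
section
/-!
# Vectors fixed by the Borel subgroup of `SL₂(K)` (helper24, row S5827)

* `rep`, `exists_pair` : `SL₂(K)` is 2-transitive on `OnePoint K`;
* `tr` : the translates of a vector fixed by the upper triangular matrices, indexed by `OnePoint K`.
-/

set_option autoImplicit false
set_option linter.unusedSectionVars false

namespace Cfsg.Agent.H24.Om

open Matrix OnePoint
open scoped MatrixGroups
open Cfsg.Agent.H871.Par (ut dg ut_mul ut_inj dg_ut)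

universe u v w

section line

variable {K : Type v} [Field K] [DecidableEq K]

/-- the action of `SL₂` on the line -/
def act (g : _root_.Matrix.SpecialLinearGroup (Fin 2) K) (o : OnePoint K) : OnePoint K :=
  (SpecialLinearGroup.toGL g) • o

theorem act_mul (g g' : _root_.Matrix.SpecialLinearGroup (Fin 2) K) (o : OnePoint K) : act (g * g') o = act g (act g' o) := by
  unfold act
  rw [map_mul, mul_smul]

theorem act_one (o : OnePoint K) : act (1 : _root_.Matrix.SpecialLinearGroup (Fin 2) K) o = o := by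
  unfold act
  rw [map_one, one_smul]

theorem act_inv_act (g : _root_.Matrix.SpecialLinearGroup (Fin 2) K) (o : OnePoint K) : act g⁻¹ (act g o) = o := by
  rw [← act_mul, inv_mul_cancel, act_one]

theorem act_act_inv (g : _root_.Matrix.SpecialLinearGroup (Fin 2) K) (o : OnePoint K) : act g (act g⁻¹ o) = o := by
  rw [← act_mul, mul_inv_cancel, act_one]

theorem act_inj (g : _root_.Matrix.SpecialLinearGroup (Fin 2) K) {o o' : OnePoint K} (h : act g o = act g o') : o = o' := by
  rw [← act_inv_act g o, h, act_inv_act]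

/-- the permutation -/
def actEquiv (g : _root_.Matrix.SpecialLinearGroup (Fin 2) K) : Equiv.Perm (OnePoint K) where
  toFun := act g
  invFun := act g⁻¹
  left_inv := act_inv_act g
  right_inv := act_act_inv g

theorem act_infty (g : _root_.Matrix.SpecialLinearGroup (Fin 2) K) : act g ∞ = ∞ ↔ g.1 1 0 = 0 := by
  unfold act
  rw [smul_infty_eq_self_iff]
  rfl

theorem act_some (g : _root_.Matrix.SpecialLinearGroup (Fin 2) K) (k : K) :
    act g (k : OnePoint K) = if g.1 1 0 * k + g.1 1 1 = 0 then ∞ else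
      (((g.1 0 0 * k + g.1 0 1) / (g.1 1 0 * k + g.1 1 1) : K) : OnePoint K) := by
  unfold act
  exact smul_some_eq_ite

theorem act_infty' (g : _root_.Matrix.SpecialLinearGroup (Fin 2) K) :
    act g (∞ : OnePoint K) = if g.1 1 0 = 0 then ∞ else ((g.1 0 0 / g.1 1 0 : K) : OnePoint K) := by
  unfold act
  exact smul_infty_eq_ite _

/-- the matrix with first column `(t, 1)` -/
def rp (t : K) : _root_.Matrix.SpecialLinearGroup (Fin 2) K := ⟨!![t, -1; 1, 0], by simp [Matrix.det_fin_two]⟩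

/-- the representative of a point -/
def rep (o : OnePoint K) : _root_.Matrix.SpecialLinearGroup (Fin 2) K := o.elim 1 rp

theorem rep_infty : rep (∞ : OnePoint K) = 1 := rfl
theorem rep_some (t : K) : rep (t : OnePoint K) = rp t := rfl

theorem act_rep (o : OnePoint K) : act (rep o) ∞ = o := by
  induction o using OnePoint.rec with
  | infty => rw [rep_infty, act_one]
  | coe t =>
    rw [rep_some, act_infty']
    simp [rp]

theorem act_rep_inv (o : OnePoint K) : act (rep o)⁻¹ o = ∞ := by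
  have h := act_inv_act (rep o) ∞
  rwa [act_rep] at h

theorem exists_pair {i j : OnePoint K} (hij : i ≠ j) :
    ∃ g : _root_.Matrix.SpecialLinearGroup (Fin 2) K, act g i = ∞ ∧ act g j = ((0 : K) : OnePoint K) := by
  have h1 : act (rep i)⁻¹ i = ∞ := act_rep_inv i
  have h2 : act (rep i)⁻¹ j ≠ ∞ := by
    intro h
    rw [← h1] at h
    exact hij (act_inj _ h).symm
  obtain ⟨t, ht⟩ := OnePoint.ne_infty_iff_exists.1 h2
  refine ⟨ut (-t) * (rep i)⁻¹, ?_, ?_⟩
  · rw [act_mul, h1, act_infty]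
    simp [ut]
  · rw [act_mul, ← ht, act_some]
    simp [ut]

variable {L : Type*} {V : Type*} [Field L] [AddCommGroup V] [Module L V]
  (τ : _root_.Matrix.SpecialLinearGroup (Fin 2) K →* Module.End L V)

/-- the translates -/
def tr (v : V) (o : OnePoint K) : V := τ (rep o) v

theorem tr_infty (v : V) : tr τ v ∞ = v := by
  rw [tr, rep_infty, map_one, Module.End.one_apply]

theorem tr_act {v : V} (hv : ∀ b : _root_.Matrix.SpecialLinearGroup (Fin 2) K, b.1 1 0 = 0 → τ b v = v)
    (g : _root_.Matrix.SpecialLinearGroup (Fin 2) K) (o : OnePoint K) : τ g (tr τ v o) = tr τ v (act g o) := by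
  have h1 : ((rep (act g o))⁻¹ * (g * rep o)).1 1 0 = 0 := by
    rw [← act_infty, act_mul, act_mul, act_rep, act_rep_inv]
  have h2 := hv _ h1
  have h3 : g * rep o = rep (act g o) * ((rep (act g o))⁻¹ * (g * rep o)) := by group
  rw [tr, tr, ← Module.End.mul_apply, ← map_mul, h3, map_mul, Module.End.mul_apply, h2]

end line

section psl

open Cfsg.Agent.H917.Om Cfsg.Agent.H637.JW

variable {F : Type u} [Field F] {K : Type v} [Field K]

/-- the representation of `SL₂` -/
noncomputable def tau (h : H917.Om.OC F (Matrix.ProjectiveSpecialLinearGroup (Fin 2) K)) :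
    _root_.Matrix.SpecialLinearGroup (Fin 2) K →* Module.End (AlgebraicClosure F) (Fin 8 → AlgebraicClosure F) :=
  h.σ.comp (QuotientGroup.mk' (Subgroup.center (_root_.Matrix.SpecialLinearGroup (Fin 2) K)))

variable (h : H917.Om.OC F (Matrix.ProjectiveSpecialLinearGroup (Fin 2) K))

theorem tau_apply (g : _root_.Matrix.SpecialLinearGroup (Fin 2) K) : tau h g = h.σ (QuotientGroup.mk g) := rfl

theorem tau_center {g : _root_.Matrix.SpecialLinearGroup (Fin 2) K} (hg : g ∈ Subgroup.center (_root_.Matrix.SpecialLinearGroup (Fin 2) K)) :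
    tau h g = 1 := by
  have h1 : (QuotientGroup.mk g : Matrix.ProjectiveSpecialLinearGroup (Fin 2) K) = 1 :=
    (QuotientGroup.eq_one_iff g).2 hg
  rw [tau_apply, h1, map_one]

theorem tau_B (g : _root_.Matrix.SpecialLinearGroup (Fin 2) K) (u v : Fin 8 → AlgebraicClosure F) :
    h.B (tau h g u) (tau h g v) = h.B u v := h.B_inv _ u v

theorem eq_zero_of_tau {v : Fin 8 → AlgebraicClosure F} (hv : ∀ g, tau h g v = v) : v = 0 := by
  apply h.eq_zero_of_fixed
  intro g
  obtain ⟨g, rfl⟩ := QuotientGroup.mk_surjective g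
  exact hv g

variable [DecidableEq K]

theorem span_tr {v : Fin 8 → AlgebraicClosure F} (h0 : v ≠ 0)
    (hv : ∀ b : _root_.Matrix.SpecialLinearGroup (Fin 2) K, b.1 1 0 = 0 → tau h b v = v) :
    Submodule.span (AlgebraicClosure F) (Set.range (tr (tau h) v)) = ⊤ := by
  rw [eq_top_iff, ← h.span_orbit h0, Submodule.span_le]
  rintro _ ⟨g, rfl⟩
  obtain ⟨g, rfl⟩ := QuotientGroup.mk_surjective g
  refine Submodule.subset_span ⟨act g ∞, ?_⟩
  rw [← tr_act (tau h) hv, tr_infty]
  rfl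

theorem sum_tr [Fintype K] {v : Fin 8 → AlgebraicClosure F}
    (hv : ∀ b : _root_.Matrix.SpecialLinearGroup (Fin 2) K, b.1 1 0 = 0 → tau h b v = v) :
    ∑ o, tr (tau h) v o = 0 := by
  apply eq_zero_of_tau h
  intro g
  rw [map_sum, Finset.sum_congr rfl fun o _ => tr_act (tau h) hv g o]
  exact Equiv.sum_comp (actEquiv g) (tr (tau h) v)

end psl

end Cfsg.Agent.H24.Om
end

-- part: H24/Om/L27
section
/-!
# `PSL₂(7)` in `Ω₈⁻(q)` (helper24, row S5827)

* `weights_l27` : the weights of an element of order seven, `p ≠ 7`;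
* `no_borel_fixed` : no fixed vectors of the Borel subgroup, `p ≠ 7`;
* `no_l27_three` : `p = 3`.
-/

set_option autoImplicit false
set_option linter.unusedSectionVars false

namespace Cfsg.Agent.H24.Om

open Matrix OnePoint Module
open Cfsg.Agent.H917.Om Cfsg.Agent.H637.JW
open Cfsg.Agent.H871.Par (ut dg ut_mul ut_inj dg_ut)

universe u v w

theorem cast_ne_zero {F : Type u} [Field F] {n : ℕ} (hn : (n : F) ≠ 0) : (n : AlgebraicClosure F) ≠ 0 := by
  intro h0
  apply hn
  have h1 : algebraMap F (AlgebraicClosure F) (n : F) = 0 := by rw [map_natCast]; exact h0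
  exact (map_eq_zero _).1 h1

section dg

variable {K : Type v} [Field K]

theorem dg_mul {l m : K} (hl : l ≠ 0) (hm : m ≠ 0) : dg l hl * dg m hm = dg (l * m) (mul_ne_zero hl hm) := by
  apply Subtype.ext
  change !![l, 0; 0, l⁻¹] * !![m, 0; 0, m⁻¹] = !![l * m, 0; 0, (l * m)⁻¹]
  ext i j
  (revert i j; simp only [Matrix.mul_apply, Fin.sum_univ_two, mul_comm, _root_.Fin.forall_fin_succ, _root_.Matrix.of_apply, _root_.Matrix.cons_val', _root_.Matrix.cons_val_fin_one, Fin.isValue, _root_.Matrix.cons_val_zero, _root_.Matrix.cons_val_one, _root_.mul_inv_rev, _root_.MulZeroClass.zero_mul, _root_.add_zero, _root_.Matrix.cons_val_succ, _root_.zero_add, _root_.forall_const, _root_.MulZeroClass.mul_zero, _root_.and_self, _root_.implies_true])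

theorem dg_congr {l m : K} (hl : l ≠ 0) (h : l = m) : dg l hl = dg m (h ▸ hl) := by
  subst h; rfl

theorem dg_one : dg (1 : K) one_ne_zero = 1 := by
  apply Subtype.ext
  change !![(1 : K), 0; 0, 1⁻¹] = 1
  rw [inv_one]
  exact Matrix.one_fin_two.symm

theorem dg_neg_one_mem : dg (-1 : K) (neg_ne_zero.2 one_ne_zero) ∈ Subgroup.center (_root_.Matrix.SpecialLinearGroup (Fin 2) K) := by
  rw [Subgroup.mem_center_iff]
  intro g
  apply Subtype.ext
  change g.1 * !![(-1 : K), 0; 0, (-1)⁻¹] = !![(-1 : K), 0; 0, (-1)⁻¹] * g.1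
  ext i j
  (revert i j; simp only [Matrix.mul_apply, Fin.sum_univ_two, inv_neg, _root_.Fin.forall_fin_succ, _root_.inv_one, _root_.Matrix.of_apply, _root_.Matrix.cons_val', _root_.Matrix.cons_val_fin_one, Fin.isValue, _root_.Matrix.cons_val_zero, _root_.Matrix.cons_val_one, _root_.mul_neg, _root_.mul_one, _root_.MulZeroClass.mul_zero, _root_.add_zero, _root_.Matrix.cons_val_succ, _root_.zero_add, _root_.Fin.succ_zero_eq_one, _root_.IsEmpty.forall_iff, _root_.and_true, _root_.neg_mul, _root_.one_mul, _root_.MulZeroClass.zero_mul, _root_.and_self, _root_.neg_inj])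

/-- upper triangular matrices -/
theorem upper_eq (b : _root_.Matrix.SpecialLinearGroup (Fin 2) K) (hb : b.1 1 0 = 0) :
    ∃ (x : K) (hx : x ≠ 0) (t : K), b = dg x hx * ut t := by
  have hdet := b.2
  rw [Matrix.det_fin_two, hb, mul_zero, sub_zero] at hdet
  have h0 : b.1 0 0 ≠ 0 := left_ne_zero_of_mul_eq_one hdet
  refine ⟨b.1 0 0, h0, (b.1 0 0)⁻¹ * b.1 0 1, ?_⟩
  apply Subtype.ext
  change b.1 = !![b.1 0 0, 0; 0, (b.1 0 0)⁻¹] * !![1, (b.1 0 0)⁻¹ * b.1 0 1; 0, 1]
  ext i j
  (revert i j; simp only [Matrix.mul_apply, Fin.sum_univ_two, hb, h0, _root_.Fin.forall_fin_succ, Fin.isValue, _root_.Matrix.of_apply, _root_.Matrix.cons_val', _root_.Matrix.cons_val_fin_one, _root_.Matrix.cons_val_zero, _root_.Matrix.cons_val_one, _root_.mul_one, _root_.MulZeroClass.mul_zero, _root_.add_zero, _root_.Matrix.cons_val_succ, _root_.Fin.succ_zero_eq_one, _root_.IsEmpty.forall_iff, _root_.ne_eq, _root_.not_false_eq_true, _root_.mul_inv_cancel_left₀, _root_.MulZeroClass.zero_mul,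 _root_.zero_add, _root_.and_true, _root_.true_and]) <;> (repeat' with_reducible apply And.intro)
  exact eq_inv_of_mul_eq_one_right hdet

theorem ut_pow (t : K) (n : ℕ) : ut t ^ n = ut ((n : K) * t) := by
  induction n with
  | zero =>
    rw [pow_zero, Nat.cast_zero, zero_mul]
    apply Subtype.ext
    change (1 : Matrix (Fin 2) (Fin 2) K) = !![(1 : K), 0; 0, 1]
    exact Matrix.one_fin_two
  | succ n ih =>
    rw [pow_succ, ih, ut_mul]
    congr 1
    push_cast
    ring

end dg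

section seven

variable {F : Type u} [Field F] {K : Type v} [Field K] [Fintype K] (hK : Fintype.card K = 7)

include hK in
theorem char_seven : CharP K 7 := by
  obtain ⟨p, hp⟩ := CharP.exists K
  have : Fact p.Prime := ⟨CharP.char_is_prime K p⟩
  have h1 : p ∣ Fintype.card K := by
    obtain ⟨n, -, hn⟩ := FiniteField.card K p
    rw [hn]; exact dvd_pow_self _ n.pos.ne'
  rw [hK] at h1
  rw [(Nat.prime_dvd_prime_iff_eq this.out (by norm_num)).1 h1] at hp
  exact hp

include hK in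
theorem seven_eq_zero : (7 : K) = 0 := by
  have := char_seven hK
  exact_mod_cast CharP.cast_eq_zero K 7

include hK in
theorem four_ne_zero' : (4 : K) ≠ 0 := by
  intro h4
  have h7 := seven_eq_zero hK
  have : (1 : K) = 0 := by linear_combination 2 * h4 - h7
  exact one_ne_zero this

include hK in
theorem exists_nat (x : K) : ∃ n : ℕ, n < 7 ∧ x = (n : K) := by
  have hc := char_seven hK
  have : Fact (Nat.Prime 7) := ⟨by norm_num⟩
  let f : ZMod 7 →+* K := ZMod.castHom (dvd_refl 7) K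
  have hf : Function.Bijective f := by
    rw [Fintype.bijective_iff_injective_and_card]
    exact ⟨f.injective, by rw [ZMod.card, hK]⟩
  obtain ⟨n, rfl⟩ := hf.2 x
  refine ⟨n.val, ZMod.val_lt n, ?_⟩
  have h1 : f ((n.val : ℕ) : ZMod 7) = (n.val : K) := map_natCast f _
  rw [← h1, ZMod.natCast_val, ZMod.cast_id]

variable (h : OC F (Matrix.ProjectiveSpecialLinearGroup (Fin 2) K))

include hK in
/-- a vector fixed by generators of the Borel subgroup is fixed by it -/
theorem borel_fixed {v : Fin 8 → AlgebraicClosure F} (h1 : tau h (ut 1) v = v)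
    (h2 : tau h (dg 4 (four_ne_zero' hK)) v = v) (b : _root_.Matrix.SpecialLinearGroup (Fin 2) K) (hb : b.1 1 0 = 0) :
    tau h b v = v := by
  let S := stab (tau h) v
  change b ∈ S
  have h1 : ut (1 : K) ∈ S := h1
  have h2 : dg (4 : K) (four_ne_zero' hK) ∈ S := h2
  have h7 := seven_eq_zero hK
  have hm1 : dg (-1 : K) (neg_ne_zero.2 one_ne_zero) ∈ S := by
    change tau h _ v = v
    rw [tau_center h dg_neg_one_mem, Module.End.one_apply]
  have hne : ∀ (x : K) (hx : x ≠ 0), dg x hx ∈ S → dg (-x) (neg_ne_zero.2 hx) ∈ S := by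
    intro x hx hxS
    have h3 := mul_mem hm1 hxS
    rw [dg_mul] at h3
    rwa [dg_congr _ (neg_one_mul x)] at h3
  have d1 : dg (1 : K) one_ne_zero ∈ S := by rw [dg_one]; exact one_mem _
  have d2 : dg ((4 : K) * 4) (mul_ne_zero (four_ne_zero' hK) (four_ne_zero' hK)) ∈ S := by
    rw [← dg_mul (four_ne_zero' hK) (four_ne_zero' hK)]; exact mul_mem h2 h2
  have hut : ∀ t : K, ut t ∈ S := by
    intro t
    obtain ⟨n, -, rfl⟩ := exists_nat hK t
    have := pow_mem h1 n
    rwa [ut_pow, mul_one] at this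
  have hdg : ∀ (x : K) (hx : x ≠ 0), dg x hx ∈ S := by
    intro x hx
    obtain ⟨n, hn, hxn⟩ := exists_nat hK x
    have key : x = 1 ∨ x = 4 * 4 ∨ x = - 4 ∨ x = 4 ∨ x = - (4 * 4) ∨ x = - 1 := by
      interval_cases n
      · exact absurd (by rw [hxn]; norm_num) hx
      · left; rw [hxn]; norm_num
      · right; left; rw [hxn]; push_cast; linear_combination (-2) * h7
      · right; right; left; rw [hxn]; push_cast; linear_combination h7
      · right; right; right; left; rw [hxn]; norm_num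
      · right; right; right; right; left; rw [hxn]; push_cast; linear_combination 3 * h7
      · right; right; right; right; right; rw [hxn]; push_cast; linear_combination h7
    rcases key with rfl | rfl | rfl | rfl | rfl | rfl
    · exact d1
    · exact d2
    · exact hne _ _ h2
    · exact h2
    · exact hne _ _ d2
    · exact hm1
  obtain ⟨x, hx, t, rfl⟩ := upper_eq b hb
  exact mul_mem (hdg x hx) (hut t)

include hK in
/-- **No fixed vectors of the Borel subgroup.** -/
theorem no_borel_fixed {v : Fin 8 → AlgebraicClosure F} (h1 : tau h (ut 1) v = v)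
    (h2 : tau h (dg 4 (four_ne_zero' hK)) v = v) : v = 0 := by
  classical
  by_contra h0
  have hv := borel_fixed hK h h1 h2
  have hsp := span_tr h h0 hv
  have hsum := sum_tr h hv
  have hcard : Fintype.card (OnePoint K) = 8 := by
    have : Fintype.card (OnePoint K) = Fintype.card K + 1 := Fintype.card_option
    rw [this, hK]
  have hli : LinearIndependent (AlgebraicClosure F) (tr (tau h) v) :=
    linearIndependent_of_top_le_span_of_card_eq_finrank hsp.ge (by rw [Module.finrank_fin_fun, hcard])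
  have h3 := Fintype.linearIndependent_iff.1 hli (fun _ => 1) (by simpa only [_root_.one_smul] using hsum) ∞
  exact one_ne_zero h3

/-- the element of order seven -/
def uu : Matrix.ProjectiveSpecialLinearGroup (Fin 2) K := QuotientGroup.mk (ut 1)

include hK in
theorem uu_pow : (uu : Matrix.ProjectiveSpecialLinearGroup (Fin 2) K) ^ 7 = 1 := by
  have h1 : (ut (1 : K)) ^ 7 = 1 := by
    rw [ut_pow, mul_one]
    have : ((7 : ℕ) : K) = ((0 : ℕ) : K) := by push_cast; exact seven_eq_zero hK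
    rw [this, ← mul_one ((0 : ℕ) : K), ← ut_pow, pow_zero]
  rw [uu, ← QuotientGroup.mk_pow, h1]
  rfl

theorem uu_ne_one : (uu : Matrix.ProjectiveSpecialLinearGroup (Fin 2) K) ≠ 1 := by
  intro h
  have h1 := (QuotientGroup.eq_one_iff _).1 h
  rw [Subgroup.mem_center_iff] at h1
  have h2 := h1 (rp 0)
  have h3 := congrArg (fun g : _root_.Matrix.SpecialLinearGroup (Fin 2) K => g.1 0 0) h2
  change (!![(0 : K), -1; 1, 0] * !![1, 1; 0, 1] : Matrix (Fin 2) (Fin 2) K) 0 0 =
    (!![(1 : K), 1; 0, 1] * !![0, -1; 1, 0] : Matrix (Fin 2) (Fin 2) K) 0 0 at h3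
  simp [Matrix.mul_apply, Fin.sum_univ_two] at h3

include hK in
theorem conj_ut : dg (4 : K) (four_ne_zero' hK) * ut 1 * (dg (4 : K) (four_ne_zero' hK))⁻¹ = ut 1 ^ 2 := by
  rw [dg_ut, ut_pow]
  congr 1
  push_cast
  linear_combination 2 * seven_eq_zero hK

include hK in
theorem conj_inv_ut : (dg (4 : K) (four_ne_zero' hK))⁻¹ * ut 1 * dg (4 : K) (four_ne_zero' hK) = ut 1 ^ 4 := by
  have h1 := conj_ut hK
  have h2 : ut (1 : K) = dg (4 : K) (four_ne_zero' hK) * ut 1 ^ 4 * (dg (4 : K) (four_ne_zero' hK))⁻¹ := by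
    have h3 : (dg (4 : K) (four_ne_zero' hK) * ut 1 * (dg (4 : K) (four_ne_zero' hK))⁻¹) ^ 4 = (ut 1 ^ 2) ^ 4 := by
      rw [h1]
    rw [conj_pow] at h3
    rw [h3, ← pow_mul, ut_pow]
    congr 1
    push_cast
    linear_combination (-1) * seven_eq_zero hK
  conv_lhs => rw [h2]
  group

include hK in
/-- **The weights of an element of order seven.** -/
theorem weights_l27 (h7 : (7 : F) ≠ 0) {ζ : AlgebraicClosure F} (hζ : IsPrimitiveRoot ζ 7) :
    (∀ j : ZMod 7, j ≠ 0 → finrank (AlgebraicClosure F)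
      (W 7 ζ (fun k => h.σ ((![uu] : Fin 1 → Matrix.ProjectiveSpecialLinearGroup (Fin 2) K) k)) ![j]) = 1) ∧
    finrank (AlgebraicClosure F)
      (W 7 ζ (fun k => h.σ ((![uu] : Fin 1 → Matrix.ProjectiveSpecialLinearGroup (Fin 2) K) k)) ![0]) = 2 := by
  have h7' : ((7 : ℕ) : AlgebraicClosure F) ≠ 0 := cast_ne_zero (by exact_mod_cast h7)
  let x : Fin 1 → Matrix.ProjectiveSpecialLinearGroup (Fin 2) K := ![uu]
  have hcx : ∀ j k, x j * x k = x k * x j := by
    intro j k
    rw [Subsingleton.elim j k]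
  have hxp : ∀ k, x k ^ 7 = 1 := by
    intro k
    fin_cases k
    exact uu_pow hK
  have hc : ∀ j k, h.σ (x j) * h.σ (x k) = h.σ (x k) * h.σ (x j) := by
    intro j k
    rw [← map_mul, ← map_mul, hcx]
  have hf : ∀ k, h.σ (x k) ^ 7 = 1 := by
    intro k
    rw [← map_pow, hxp, map_one]
  have hsum := sum_W h7' hζ (f := fun k => h.σ (x k)) hc hf
  set D : ZMod 7 → ℕ := fun j => finrank (AlgebraicClosure F) (W 7 ζ (fun k => h.σ (x k)) ![j]) with hD
  have hζ3 := hζ.pow_eq_one
  have hDle : ∀ i, D i ≤ D (i + i + (i + i)) := by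
    intro i
    refine finrank_W_le (QuotientGroup.mk (dg (4 : K) (four_ne_zero' hK))) fun v hv k => ?_
    rw [mem_W] at hv
    have ha : h.σ uu v = ζ ^ i.val • v := hv 0
    have h4 : (QuotientGroup.mk (dg (4 : K) (four_ne_zero' hK)) : Matrix.ProjectiveSpecialLinearGroup (Fin 2) K)⁻¹ *
        uu * QuotientGroup.mk (dg (4 : K) (four_ne_zero' hK)) = uu * uu * (uu * uu) := by
      have h5 := conj_inv_ut hK
      have h6 : (ut (1 : K)) ^ 4 = ut 1 * ut 1 * (ut 1 * ut 1) := by
        simp only [pow_succ, pow_zero, one_mul, mul_assoc]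
      rw [h6] at h5
      have h7 := congrArg (fun g : _root_.Matrix.SpecialLinearGroup (Fin 2) K =>
        (QuotientGroup.mk g : Matrix.ProjectiveSpecialLinearGroup (Fin 2) K)) h5
      exact h7
    fin_cases k
    change h.σ (_⁻¹ * uu * _) v = ζ ^ (i + i + (i + i)).val • v
    rw [h4, Cfsg.Agent.H637.JW.act_mul (Cfsg.Agent.H637.JW.act_mul ha ha) (Cfsg.Agent.H637.JW.act_mul ha ha),
      pow_val_add hζ3, pow_val_add hζ3]
  have hneg : ∀ i, D (-i) = D i := by
    intro i
    have h1 := h.finrank_W_neg h7' hζ hcx hxp ![i]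
    have h2 : -(![i] : Fin 1 → ZMod 7) = ![-i] := by
      ext k; fin_cases k; rfl
    rw [h2] at h1
    exact h1
  have hs : ∑ i : Fin 7, D i = 8 := by
    rw [← Module.finrank_fin_fun (AlgebraicClosure F) (n := 8), ← hsum]
    rw [← (Equiv.funUnique (Fin 1) (ZMod 7)).symm.sum_comp]
    refine Finset.sum_congr rfl fun i _ => ?_
    have : (Equiv.funUnique (Fin 1) (ZMod 7)).symm i = ![i] := by
      ext k; fin_cases k; rfl
    rw [this]
    rfl
  have hs' : D 0 + D 1 + D 2 + D 3 + D 4 + D 5 + D 6 = 8 := by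
    rw [Fin.sum_univ_seven] at hs
    exact hs
  have e1 : D 1 ≤ D 4 := hDle 1
  have e2 : D 4 ≤ D 2 := hDle 4
  have e3 : D 2 ≤ D 1 := hDle 2
  have e4 : D 6 = D 1 := hneg 1
  have e5 : D 5 = D 2 := hneg 2
  have e6 : D 3 = D 4 := hneg 4
  have hne : D 0 ≠ 8 := by
    intro h0
    have h1 : W 7 ζ (fun k => h.σ (x k)) ![0] = ⊤ :=
      Submodule.eq_top_of_finrank_eq (by rw [Module.finrank_fin_fun]; exact h0)
    apply uu_ne_one (K := K)
    apply h.σ_injective
    rw [map_one]
    apply LinearMap.ext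
    intro v
    have h2 : v ∈ W 7 ζ (fun k => h.σ (x k)) ![0] := by rw [h1]; trivial
    rw [mem_W] at h2
    have h3 : h.σ uu v = ζ ^ (0 : ZMod 7).val • v := h2 0
    rw [h3, ZMod.val_zero, pow_zero, one_smul, Module.End.one_apply]
  have hall : D 0 = 2 ∧ D 1 = 1 ∧ D 2 = 1 ∧ D 3 = 1 ∧ D 4 = 1 ∧ D 5 = 1 ∧ D 6 = 1 := by
    clear_value D
    (clear * - hs' e1 e2 e3 e4 e5 e6 hne; omega)
  refine ⟨?_, hall.1⟩
  intro j hj
  change D j = 1
  revert hj
  obtain ⟨h0, h1, h2, h3, h4, h5, h6⟩ := hall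
  have : ∀ j : ZMod 7, j ≠ 0 → j = 1 ∨ j = 2 ∨ j = 3 ∨ j = 4 ∨ j = 5 ∨ j = 6 := by decide
  intro hj
  rcases this j hj with rfl | rfl | rfl | rfl | rfl | rfl
  exacts [h1, h2, h3, h4, h5, h6]

end seven

/-- **`PSL₂(7)` in characteristic three.** -/
theorem no_l27_three {F : Type u} [Field F] [Fintype F] (h3 : (3 : F) = 0) {K : Type v} [Field K] [Fintype K]
    (hK : Fintype.card K = 7) (h : H917.Om.OC F (Matrix.ProjectiveSpecialLinearGroup (Fin 2) K)) : False := by
  have h7 : (7 : F) ≠ 0 := by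
    intro h7
    have : (1 : F) = 0 := by linear_combination h7 - 2 * h3
    exact one_ne_zero this
  have h7' : ((7 : ℕ) : AlgebraicClosure F) ≠ 0 := cast_ne_zero (by exact_mod_cast h7)
  have h3' : (3 : AlgebraicClosure F) = 0 := by
    have := congrArg (algebraMap F (AlgebraicClosure F)) h3
    rw [map_zero, map_ofNat] at this
    exact this
  obtain ⟨ζ, hζ⟩ := exists_root (K := AlgebraicClosure F) (N := 7) h7'
  have h2 := (weights_l27 hK h h7 hζ).2
  obtain ⟨v, hv, hv0⟩ := exists_fix_of_pos (U := W 7 ζ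
    (fun k => h.σ ((![uu] : Fin 1 → Matrix.ProjectiveSpecialLinearGroup (Fin 2) K) k)) ![0]) (by rw [h2]; norm_num)
  have hu : tau h (ut 1) v = v := by
    have := mem_W.1 hv 0
    change h.σ uu v = ζ ^ (0 : ZMod 7).val • v at this
    rw [ZMod.val_zero, pow_zero, one_smul] at this
    exact this
  set s : _root_.Matrix.SpecialLinearGroup (Fin 2) K := dg (4 : K) (four_ne_zero' hK) with hs
  -- `s` preserves the fixed vectors
  have hsu : ∀ w, tau h (ut 1) w = w → tau h (ut 1) (tau h s w) = tau h s w := by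
    intro w hw
    have h5 := conj_inv_ut hK
    have h6 : ut 1 * s = s * ut 1 ^ 4 := by
      rw [← h5, hs]; group
    have h8 : ∀ n : ℕ, tau h (ut 1 ^ n) w = w := by
      intro n
      induction n with
      | zero => rw [pow_zero, map_one, Module.End.one_apply]
      | succ n ih => rw [pow_succ, map_mul, Module.End.mul_apply, hw, ih]
    rw [← Module.End.mul_apply, ← map_mul, h6, map_mul, Module.End.mul_apply, h8]
  have hs3 : tau h s * (tau h s * tau h s) = 1 := by
    have h5 : s * (s * s) = 1 := by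
      rw [hs, dg_mul, dg_mul]
      have : (4 : K) * (4 * 4) = 1 := by linear_combination 9 * seven_eq_zero hK
      rw [dg_congr _ this, dg_one]
    rw [← map_mul, ← map_mul, h5, map_one]
  -- the nilpotent operator
  let N : Module.End (AlgebraicClosure F) (Fin 8 → AlgebraicClosure F) := tau h s - 1
  have hN3 : ∀ w, N (N (N w)) = 0 := by
    intro w
    have h5 : tau h s (tau h s (tau h s w)) = w := LinearMap.congr_fun hs3 w
    simp only [N, LinearMap.sub_apply, Module.End.one_apply, map_sub]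
    rw [h5]
    have h6 : (3 : AlgebraicClosure F) • (tau h s w - tau h s (tau h s w)) = 0 := by rw [h3', zero_smul]
    rw [← h6]
    module
  have hNu : ∀ w, tau h (ut 1) w = w → tau h (ut 1) (N w) = N w := by
    intro w hw
    change tau h (ut 1) (tau h s w - w) = tau h s w - w
    rw [map_sub, hsu w hw, hw]
  have hfin : ∀ w, tau h (ut 1) w = w → N w = 0 → w = 0 := by
    intro w hw hNw
    refine no_borel_fixed hK h hw ?_
    exact sub_eq_zero.1 hNw
  apply hv0
  apply hfin v hu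
  apply hfin _ (hNu v hu)
  apply hfin _ (hNu _ (hNu v hu))
  exact hN3 v

end Cfsg.Agent.H24.Om
end

-- part: H917/OmSL7
section
/-!
# The alternating 3-form on the 8-dimensional principal series of `SL₂(7)` (helper917, row S5827)

`τ : SL₂(7) → GL(V)`, `v₀` an eigenvector of the Borel subgroup with character of order three, such that the eight
translates form a basis: there is exactly one (up to scalars) invariant alternating 3-form.
-/

set_option autoImplicit false

namespace Cfsg.Agent.H917.SL7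

open Module Matrix

abbrev Γ := Matrix.SpecialLinearGroup (Fin 2) (ZMod 7)

/-- discrete logarithm modulo three -/
def ell : ZMod 7 → ℕ := ![0, 0, 2, 1, 1, 2, 0]

/-- quadratic character -/
def leg : ZMod 7 → ℤ := ![0, 1, 1, -1, 1, -1, -1]

def ux (x : ZMod 7) : Γ := ⟨!![1, x; 0, 1], by simp [Matrix.det_fin_two]⟩

def inv7 : ZMod 7 → ZMod 7 := ![0, 1, 4, 5, 2, 3, 6]

theorem mul_inv7 : ∀ t : ZMod 7, t ≠ 0 → t * inv7 t = 1 := by decide

def dt (t : ZMod 7) (ht : t ≠ 0) : Γ := ⟨!![t, 0; 0, inv7 t], by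
  rw [Matrix.det_fin_two_of, mul_zero, sub_zero]
  exact mul_inv7 t ht⟩

def pt : Fin 8 → ZMod 7 × ZMod 7 := ![(0, 1), (1, 1), (2, 1), (3, 1), (4, 1), (5, 1), (6, 1), (1, 0)]

def NN (i : Fin 8) : Γ := ⟨if i = 7 then 1 else !![(pt i).1, -1; 1, 0], by
  revert i; decide⟩

def br (p q : ZMod 7 × ZMod 7) : ZMod 7 := p.1 * q.2 - p.2 * q.1

theorem col_NN : ∀ i, ((NN i : Matrix (Fin 2) (Fin 2) (ZMod 7)) 0 0, (NN i : Matrix (Fin 2) (Fin 2) (ZMod 7)) 1 0) = pt i := by
  decide

theorem exists_pt : ∀ a c : ZMod 7, (a, c) ≠ (0, 0) → ∃ (i : Fin 8) (t : ZMod 7), t ≠ 0 ∧ a = t * (pt i).1 ∧ c = t * (pt i).2 := by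
  decide +kernel

theorem br_ne : ∀ i j : Fin 8, i ≠ j → br (pt i) (pt j) ≠ 0 := by decide +kernel

theorem exists_sq : ∀ D : ZMod 7, D ≠ 0 → ∃ d, d ≠ 0 ∧ (D = d * d ∨ D = -(d * d)) := by decide

theorem eq_mul_ux {g h : Γ} (h0 : (g : Matrix (Fin 2) (Fin 2) (ZMod 7)) 0 0 = (h : Matrix (Fin 2) (Fin 2) (ZMod 7)) 0 0)
    (h1 : (g : Matrix (Fin 2) (Fin 2) (ZMod 7)) 1 0 = (h : Matrix (Fin 2) (Fin 2) (ZMod 7)) 1 0) : ∃ x, g = h * ux x := by
  set M : Γ := h⁻¹ * g with hM
  have hc : ∀ i, (M : Matrix (Fin 2) (Fin 2) (ZMod 7)) i 0 = (1 : Matrix (Fin 2) (Fin 2) (ZMod 7)) i 0 := by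
    intro i
    have h2 : (1 : Matrix (Fin 2) (Fin 2) (ZMod 7)) = ((h⁻¹ : Γ) : Matrix (Fin 2) (Fin 2) (ZMod 7)) * (h : Matrix (Fin 2) (Fin 2) (ZMod 7)) := by
      rw [← Matrix.SpecialLinearGroup.coe_mul, inv_mul_cancel, Matrix.SpecialLinearGroup.coe_one]
    rw [h2, hM, Matrix.SpecialLinearGroup.coe_mul, Matrix.mul_apply, Matrix.mul_apply, Fin.sum_univ_two, Fin.sum_univ_two,
      h0, h1]
  have hd := M.2
  have c0 : (M : Matrix (Fin 2) (Fin 2) (ZMod 7)) 0 0 = 1 := hc 0
  have c1 : (M : Matrix (Fin 2) (Fin 2) (ZMod 7)) 1 0 = 0 := hc 1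
  rw [Matrix.det_fin_two, c0, c1, mul_zero, sub_zero, one_mul] at hd
  refine ⟨(M : Matrix (Fin 2) (Fin 2) (ZMod 7)) 0 1, ?_⟩
  have h3 : M = ux ((M : Matrix (Fin 2) (Fin 2) (ZMod 7)) 0 1) := by
    apply Subtype.ext
    ext i j
    fin_cases i <;> fin_cases j
    · exact c0
    · rfl
    · exact c1
    · exact hd
  rw [← h3, hM, mul_inv_cancel_left]

/-- the point of a column -/
theorem eq_of_col {g : Γ} {i : Fin 8} {t : ZMod 7} (ht : t ≠ 0)
    (h0 : (g : Matrix (Fin 2) (Fin 2) (ZMod 7)) 0 0 = t * (pt i).1) (h1 : (g : Matrix (Fin 2) (Fin 2) (ZMod 7)) 1 0 = t * (pt i).2) :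
    ∃ x, g = NN i * dt t ht * ux x := by
  have hN0 : (NN i : Matrix (Fin 2) (Fin 2) (ZMod 7)) 0 0 = (pt i).1 := congrArg Prod.fst (col_NN i)
  have hN1 : (NN i : Matrix (Fin 2) (Fin 2) (ZMod 7)) 1 0 = (pt i).2 := congrArg Prod.snd (col_NN i)
  refine eq_mul_ux ?_ ?_
  · rw [h0, Matrix.SpecialLinearGroup.coe_mul, Matrix.mul_apply, Fin.sum_univ_two]
    refine Eq.trans ?_ (congrArg (fun z => z * t + (NN i : Matrix (Fin 2) (Fin 2) (ZMod 7)) 0 1 * 0) hN0.symm)
    ring
  · rw [h1, Matrix.SpecialLinearGroup.coe_mul, Matrix.mul_apply, Fin.sum_univ_two]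
    refine Eq.trans ?_ (congrArg (fun z => z * t + (NN i : Matrix (Fin 2) (Fin 2) (ZMod 7)) 1 1 * 0) hN1.symm)
    ring

variable {K : Type*} [Field K]

/-- the character `χ` with `χ² = λ`, `χ(-1) = -1` -/
def chi (ω : K) (t : ZMod 7) : K := (leg t : K) * ω ^ (2 * ell t)

theorem leg_mul : ∀ a b : ZMod 7, leg (a * b) = leg a * leg b := by decide +kernel

theorem leg_neg : ∀ a : ZMod 7, leg (-a) = - leg a := by decide

theorem leg_sq : ∀ a : ZMod 7, a ≠ 0 → leg a * leg a = 1 := by decide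

theorem leg_zero : leg 0 = 0 := rfl

theorem ell_mul : ∀ a b : ZMod 7, a ≠ 0 → b ≠ 0 → (2 * ell (a * b)) % 3 = (2 * ell a + 2 * ell b) % 3 := by decide +kernel

theorem ell_neg : ∀ a : ZMod 7, ell (-a) = ell a := by decide

variable {ω : K} (hω : ω ^ 3 = 1)

include hω in
theorem pow_congr {a b : ℕ} (h : a % 3 = b % 3) : ω ^ a = ω ^ b := by
  rw [← Nat.div_add_mod a 3, ← Nat.div_add_mod b 3, pow_add, pow_add, pow_mul, pow_mul, hω, one_pow, one_pow, h]

include hω in
theorem chi_mul (a b : ZMod 7) : chi ω (a * b) = chi ω a * chi ω b := by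
  unfold chi
  by_cases ha : a = 0
  · subst ha; rw [zero_mul, leg_zero]; simp
  by_cases hb : b = 0
  · subst hb; rw [mul_zero, leg_zero]; simp
  rw [leg_mul, pow_congr hω (ell_mul a b ha hb), pow_add]
  push_cast
  ring

theorem chi_neg (a : ZMod 7) : chi ω (-a) = - chi ω a := by
  unfold chi
  rw [leg_neg, ell_neg]
  push_cast
  ring

include hω in
theorem chi_sq {a : ZMod 7} (ha : a ≠ 0) : chi ω a * chi ω a = ω ^ ell a := by
  unfold chi
  have h1 : ((leg a : ℤ) : K) * (leg a : K) = 1 := by rw [← Int.cast_mul, leg_sq a ha, Int.cast_one]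
  calc (leg a : K) * ω ^ (2 * ell a) * ((leg a : K) * ω ^ (2 * ell a))
      = ((leg a : K) * (leg a : K)) * (ω ^ (2 * ell a) * ω ^ (2 * ell a)) := by ring
    _ = ω ^ ell a := by rw [h1, one_mul, ← pow_add]; exact pow_congr hω (by omega)

include hω in
theorem chi_ne {a : ZMod 7} (ha : a ≠ 0) : chi ω a ≠ 0 := by
  intro h
  have h1 := chi_sq hω ha
  rw [h, mul_zero] at h1
  have hω0 : ω ≠ 0 := by
    rintro rfl
    simp at hω
  exact pow_ne_zero _ hω0 h1.symm

/-- the coefficients of the form -/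
def FF (ω : K) (i j k : Fin 8) : K := chi ω (br (pt i) (pt j)) * chi ω (br (pt j) (pt k)) * chi ω (br (pt k) (pt i))

theorem br_swap (p q : ZMod 7 × ZMod 7) : br q p = - br p q := by unfold br; ring

theorem FF_swap01 (i j k : Fin 8) : FF ω j i k = - FF ω i j k := by
  unfold FF
  rw [br_swap (pt i) (pt j), br_swap (pt k) (pt i), br_swap (pt j) (pt k), chi_neg, chi_neg, chi_neg]
  ring

theorem FF_swap12 (i j k : Fin 8) : FF ω i k j = - FF ω i j k := by
  unfold FF
  rw [br_swap (pt k) (pt i), br_swap (pt j) (pt k), br_swap (pt i) (pt j), chi_neg, chi_neg, chi_neg]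
  ring

theorem FF_swap02 (i j k : Fin 8) : FF ω k j i = - FF ω i j k := by
  unfold FF
  rw [br_swap (pt j) (pt k), br_swap (pt i) (pt j), br_swap (pt k) (pt i), chi_neg, chi_neg, chi_neg]
  ring

variable {V : Type*} [AddCommGroup V] [Module K V] (B : Basis (Fin 8) K V)

/-- the multilinear form with given coefficients -/
noncomputable def mf (F : Fin 8 → Fin 8 → Fin 8 → K) : MultilinearMap K (fun _ : Fin 3 => V) K :=
  ∑ i, ∑ j, ∑ k, F i j k • (MultilinearMap.mkPiAlgebra K (Fin 3) K).compLinearMap ![B.coord i, B.coord j, B.coord k]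

theorem mf_apply (F : Fin 8 → Fin 8 → Fin 8 → K) (v : Fin 3 → V) :
    mf B F v = ∑ i, ∑ j, ∑ k, F i j k * (B.coord i (v 0) * B.coord j (v 1) * B.coord k (v 2)) := by
  simp only [mf, _root_.sum_apply, _root_.smul_apply, MultilinearMap.compLinearMap_apply,
    MultilinearMap.mkPiAlgebra_apply, Fin.prod_univ_three, smul_eq_mul]
  rfl

theorem mf_basis (F : Fin 8 → Fin 8 → Fin 8 → K) (i j k : Fin 8) :
    mf B F ![B i, B j, B k] = F i j k := by
  rw [mf_apply]
  simp only [Finsupp.single_apply, Finset.sum_ite_eq, _root_.Fin.isValue, _root_.Matrix.cons_val_zero, _root_.Module.Basis.coord_apply, _root_.Module.Basis.repr_self, _root_.Finsupp.single_apply, _root_.Matrix.cons_val_one, _root_.mul_ite, _root_.mul_one, _root_.MulZeroClass.mul_zero, _root_.Matrix.cons_val, _root_.Finset.sum_ite_eq, _root_.Finset.mem_univ, ↓ _root_.reduceIte]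

theorem mf_eq_zero (h2 : (2 : K) ≠ 0) {F : Fin 8 → Fin 8 → Fin 8 → K} (h01 : ∀ i j k, F j i k = - F i j k)
    (h12 : ∀ i j k, F i k j = - F i j k) (h02 : ∀ i j k, F k j i = - F i j k) {v : Fin 3 → V} {i j : Fin 3}
    (hv : v i = v j) (hij : i ≠ j) : mf B F v = 0 := by
  have two : ∀ x : K, x = -x → x = 0 := by
    intro x hx
    have h3 : 2 * x = 0 := by linear_combination hx
    exact (mul_eq_zero.1 h3).resolve_left h2
  have c01 : v 0 = v 1 → mf B F v = 0 := by
    intro h
    apply two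
    rw [mf_apply, h]
    calc ∑ i, ∑ j, ∑ k, F i j k * (B.coord i (v 1) * B.coord j (v 1) * B.coord k (v 2))
        = ∑ i, ∑ j, ∑ k, F j i k * (B.coord j (v 1) * B.coord i (v 1) * B.coord k (v 2)) := Finset.sum_comm
      _ = ∑ i, ∑ j, ∑ k, -(F i j k * (B.coord i (v 1) * B.coord j (v 1) * B.coord k (v 2))) := by
          refine Finset.sum_congr rfl fun i _ => Finset.sum_congr rfl fun j _ => Finset.sum_congr rfl fun k _ => ?_
          rw [h01]; ring
      _ = _ := by simp only [Finset.sum_neg_distrib]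
  have c12 : v 1 = v 2 → mf B F v = 0 := by
    intro h
    apply two
    rw [mf_apply, h]
    calc ∑ i, ∑ j, ∑ k, F i j k * (B.coord i (v 0) * B.coord j (v 2) * B.coord k (v 2))
        = ∑ i, ∑ j, ∑ k, F i k j * (B.coord i (v 0) * B.coord k (v 2) * B.coord j (v 2)) :=
          Finset.sum_congr rfl fun i _ => Finset.sum_comm
      _ = ∑ i, ∑ j, ∑ k, -(F i j k * (B.coord i (v 0) * B.coord j (v 2) * B.coord k (v 2))) := by
          refine Finset.sum_congr rfl fun i _ => Finset.sum_congr rfl fun j _ => Finset.sum_congr rfl fun k _ => ?_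
          rw [h12]; ring
      _ = _ := by simp only [Finset.sum_neg_distrib]
  have c02 : v 0 = v 2 → mf B F v = 0 := by
    intro h
    apply two
    rw [mf_apply, h]
    calc ∑ i, ∑ j, ∑ k, F i j k * (B.coord i (v 2) * B.coord j (v 1) * B.coord k (v 2))
        = ∑ j, ∑ i, ∑ k, F i j k * (B.coord i (v 2) * B.coord j (v 1) * B.coord k (v 2)) := Finset.sum_comm
      _ = ∑ j, ∑ i, ∑ k, F k j i * (B.coord k (v 2) * B.coord j (v 1) * B.coord i (v 2)) :=
          Finset.sum_congr rfl fun j _ => Finset.sum_comm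
      _ = ∑ i, ∑ j, ∑ k, F k j i * (B.coord k (v 2) * B.coord j (v 1) * B.coord i (v 2)) := Finset.sum_comm
      _ = ∑ i, ∑ j, ∑ k, -(F i j k * (B.coord i (v 2) * B.coord j (v 1) * B.coord k (v 2))) := by
          refine Finset.sum_congr rfl fun i _ => Finset.sum_congr rfl fun j _ => Finset.sum_congr rfl fun k _ => ?_
          rw [h02]; ring
      _ = _ := by simp only [Finset.sum_neg_distrib]
  fin_cases i <;> fin_cases j
  · exact absurd rfl hij
  · exact c01 hv
  · exact c02 hv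
  · exact c01 hv.symm
  · exact absurd rfl hij
  · exact c12 hv
  · exact c02 hv.symm
  · exact c12 hv.symm
  · exact absurd rfl hij

/-- the alternating form -/
noncomputable def af (h2 : (2 : K) ≠ 0) (ω : K) : V [⋀^Fin 3]→ₗ[K] K :=
  { mf B (FF ω) with
    map_eq_zero_of_eq' := fun _ _ _ hv hij => mf_eq_zero B h2 FF_swap01 FF_swap12 FF_swap02 hv hij }

theorem af_apply (h2 : (2 : K) ≠ 0) (ω : K) (i j k : Fin 8) : af B h2 ω ![B i, B j, B k] = FF ω i j k :=
  mf_basis B _ i j k

/-! ### Invariance -/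

variable {τ : Γ →* Module.End K V} {v₀ : V}

section

variable (hB : ∀ i, B i = τ (NN i) v₀) (hU : ∀ x, τ (ux x) v₀ = v₀) (hD : ∀ t (ht : t ≠ 0), τ (dt t ht) v₀ = ω ^ ell t • v₀)

include hB hU hD

theorem act_of_col {g : Γ} {i : Fin 8} {t : ZMod 7} (ht : t ≠ 0)
    (h0 : (g : Matrix (Fin 2) (Fin 2) (ZMod 7)) 0 0 = t * (pt i).1) (h1 : (g : Matrix (Fin 2) (Fin 2) (ZMod 7)) 1 0 = t * (pt i).2) :
    τ g v₀ = ω ^ ell t • B i := by
  obtain ⟨x, rfl⟩ := eq_of_col ht h0 h1
  rw [map_mul, map_mul, Module.End.mul_apply, Module.End.mul_apply, hU, hD, map_smul, hB]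

/-- action on the basis -/
theorem act_basis (g : Γ) (i : Fin 8) : ∃ (j : Fin 8) (t : ZMod 7), t ≠ 0 ∧
    (g : Matrix (Fin 2) (Fin 2) (ZMod 7)) 0 0 * (pt i).1 + (g : Matrix (Fin 2) (Fin 2) (ZMod 7)) 0 1 * (pt i).2 = t * (pt j).1 ∧
    (g : Matrix (Fin 2) (Fin 2) (ZMod 7)) 1 0 * (pt i).1 + (g : Matrix (Fin 2) (Fin 2) (ZMod 7)) 1 1 * (pt i).2 = t * (pt j).2 ∧
    τ g (B i) = ω ^ ell t • B j := by
  have hN0 : (NN i : Matrix (Fin 2) (Fin 2) (ZMod 7)) 0 0 = (pt i).1 := congrArg Prod.fst (col_NN i)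
  have hN1 : (NN i : Matrix (Fin 2) (Fin 2) (ZMod 7)) 1 0 = (pt i).2 := congrArg Prod.snd (col_NN i)
  have e0 : ((g * NN i : Γ) : Matrix (Fin 2) (Fin 2) (ZMod 7)) 0 0 =
      (g : Matrix (Fin 2) (Fin 2) (ZMod 7)) 0 0 * (pt i).1 + (g : Matrix (Fin 2) (Fin 2) (ZMod 7)) 0 1 * (pt i).2 := by
    rw [Matrix.SpecialLinearGroup.coe_mul, Matrix.mul_apply, Fin.sum_univ_two, hN0, hN1]
  have e1 : ((g * NN i : Γ) : Matrix (Fin 2) (Fin 2) (ZMod 7)) 1 0 =
      (g : Matrix (Fin 2) (Fin 2) (ZMod 7)) 1 0 * (pt i).1 + (g : Matrix (Fin 2) (Fin 2) (ZMod 7)) 1 1 * (pt i).2 := by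
    rw [Matrix.SpecialLinearGroup.coe_mul, Matrix.mul_apply, Fin.sum_univ_two, hN0, hN1]
  have hne : (((g * NN i : Γ) : Matrix (Fin 2) (Fin 2) (ZMod 7)) 0 0, ((g * NN i : Γ) : Matrix (Fin 2) (Fin 2) (ZMod 7)) 1 0) ≠ (0, 0) := by
    intro h
    have hd := (g * NN i).2
    rw [Matrix.det_fin_two] at hd
    have z0 := congrArg Prod.fst h
    have z1 := congrArg Prod.snd h
    simp only at z0 z1
    rw [z0, z1, zero_mul, mul_zero, sub_zero] at hd
    exact absurd hd (by decide)
  obtain ⟨j, t, ht, ha, hc⟩ := exists_pt _ _ hne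
  refine ⟨j, t, ht, e0 ▸ ha, e1 ▸ hc, ?_⟩
  rw [hB i, ← Module.End.mul_apply, ← map_mul]
  exact act_of_col B hB hU hD ht ha hc

omit hB hU hD in
theorem lam_smul (f : V [⋀^Fin 3]→ₗ[K] K) (a b c : K) (x y z : V) :
    f ![a • x, b • y, c • z] = a * b * c * f ![x, y, z] := by
  have h := f.toMultilinearMap.map_smul_univ ![a, b, c] ![x, y, z]
  rw [Fin.prod_univ_three] at h
  refine Eq.trans ?_ h
  change f _ = f _
  congr 1
  funext i
  fin_cases i <;> rfl

include hω in
/-- **The form is invariant.** -/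
theorem af_inv (h2 : (2 : K) ≠ 0) (g : Γ) : (af B h2 ω).compLinearMap (τ g) = af B h2 ω := by
  refine Basis.ext_alternating B fun v _ => ?_
  obtain ⟨i', r, hr, a1, a2, a3⟩ := act_basis B hB hU hD g (v 0)
  obtain ⟨j', s, hs, b1, b2, b3⟩ := act_basis B hB hU hD g (v 1)
  obtain ⟨k', t, ht, c1, c2, c3⟩ := act_basis B hB hU hD g (v 2)
  have e1 : (fun i => B (v i)) = ![B (v 0), B (v 1), B (v 2)] := by
    funext i
    fin_cases i <;> rfl
  have e2 : (af B h2 ω).compLinearMap (τ g) ![B (v 0), B (v 1), B (v 2)] =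
      af B h2 ω ![ω ^ ell r • B i', ω ^ ell s • B j', ω ^ ell t • B k'] := by
    rw [AlternatingMap.compLinearMap_apply]
    congr 1
    funext i
    fin_cases i
    · exact a3
    · exact b3
    · exact c3
  rw [e1, e2, lam_smul, af_apply, af_apply]
  have hd := g.2
  rw [Matrix.det_fin_two] at hd
  set m00 := (g : Matrix (Fin 2) (Fin 2) (ZMod 7)) 0 0
  set m01 := (g : Matrix (Fin 2) (Fin 2) (ZMod 7)) 0 1
  set m10 := (g : Matrix (Fin 2) (Fin 2) (ZMod 7)) 1 0
  set m11 := (g : Matrix (Fin 2) (Fin 2) (ZMod 7)) 1 1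
  have k1 : br (pt (v 0)) (pt (v 1)) = r * s * br (pt i') (pt j') := by
    have : r * s * br (pt i') (pt j') = (r * (pt i').1) * (s * (pt j').2) - (r * (pt i').2) * (s * (pt j').1) := by
      unfold br; ring
    rw [this, ← a1, ← a2, ← b1, ← b2]
    unfold br
    linear_combination -((pt (v 0)).1 * (pt (v 1)).2 - (pt (v 0)).2 * (pt (v 1)).1) * hd
  have k2 : br (pt (v 1)) (pt (v 2)) = s * t * br (pt j') (pt k') := by
    have : s * t * br (pt j') (pt k') = (s * (pt j').1) * (t * (pt k').2) - (s * (pt j').2) * (t * (pt k').1) := by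
      unfold br; ring
    rw [this, ← b1, ← b2, ← c1, ← c2]
    unfold br
    linear_combination -((pt (v 1)).1 * (pt (v 2)).2 - (pt (v 1)).2 * (pt (v 2)).1) * hd
  have k3 : br (pt (v 2)) (pt (v 0)) = t * r * br (pt k') (pt i') := by
    have : t * r * br (pt k') (pt i') = (t * (pt k').1) * (r * (pt i').2) - (t * (pt k').2) * (r * (pt i').1) := by
      unfold br; ring
    rw [this, ← c1, ← c2, ← a1, ← a2]
    unfold br
    linear_combination -((pt (v 2)).1 * (pt (v 0)).2 - (pt (v 2)).2 * (pt (v 0)).1) * hd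
  unfold FF
  rw [k1, k2, k3, chi_mul hω, chi_mul hω, chi_mul hω, chi_mul hω, chi_mul hω, chi_mul hω, ← chi_sq hω hr, ← chi_sq hω hs,
    ← chi_sq hω ht]
  ring

omit hB hU hD in
include hω in
theorem af_ne (h2 : (2 : K) ≠ 0) : af B h2 ω ≠ 0 := by
  intro h
  have h1 := af_apply B h2 ω 7 0 1
  rw [h, AlternatingMap.zero_apply] at h1
  have h3 : FF ω 7 0 1 ≠ 0 := by
    unfold FF
    exact mul_ne_zero (mul_ne_zero (chi_ne hω (by decide)) (chi_ne hω (by decide))) (chi_ne hω (by decide))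
  exact h3 h1.symm

/-- **Uniqueness**: an invariant form vanishing at the base triple is zero. -/
theorem eq_zero_of_inv (hω0 : ω ≠ 0) (f : V [⋀^Fin 3]→ₗ[K] K) (hf : ∀ g, f.compLinearMap (τ g) = f)
    (h0 : f ![B 7, B 0, B 1] = 0) : f = 0 := by
  refine Basis.ext_alternating B fun v hv => ?_
  rw [AlternatingMap.zero_apply]
  have e1 : (fun i => B (v i)) = ![B (v 0), B (v 1), B (v 2)] := by
    funext i
    fin_cases i <;> rfl
  rw [e1]
  -- key: from a matrix
  have key : ∀ (g : Γ) (i j k : Fin 8) (r s t : ZMod 7), r ≠ 0 → s ≠ 0 → t ≠ 0 →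
      (g : Matrix (Fin 2) (Fin 2) (ZMod 7)) 0 0 = r * (pt i).1 → (g : Matrix (Fin 2) (Fin 2) (ZMod 7)) 1 0 = r * (pt i).2 →
      (g : Matrix (Fin 2) (Fin 2) (ZMod 7)) 0 1 = s * (pt j).1 → (g : Matrix (Fin 2) (Fin 2) (ZMod 7)) 1 1 = s * (pt j).2 →
      (g : Matrix (Fin 2) (Fin 2) (ZMod 7)) 0 0 + (g : Matrix (Fin 2) (Fin 2) (ZMod 7)) 0 1 = t * (pt k).1 →
      (g : Matrix (Fin 2) (Fin 2) (ZMod 7)) 1 0 + (g : Matrix (Fin 2) (Fin 2) (ZMod 7)) 1 1 = t * (pt k).2 →
      f ![B i, B j, B k] = 0 := by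
    intro g i j k r s t hr hs ht g00 g10 g01 g11 p0 p1
    have a1 : τ g (B 7) = ω ^ ell r • B i := by
      rw [hB 7, ← Module.End.mul_apply, ← map_mul]
      refine act_of_col B hB hU hD hr ?_ ?_
      · rw [Matrix.SpecialLinearGroup.coe_mul, Matrix.mul_apply, Fin.sum_univ_two, g00]
        change _ * 1 + _ * 0 = _
        ring
      · rw [Matrix.SpecialLinearGroup.coe_mul, Matrix.mul_apply, Fin.sum_univ_two, g10]
        change _ * 1 + _ * 0 = _
        ring
    have a2 : τ g (B 0) = ω ^ ell s • B j := by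
      rw [hB 0, ← Module.End.mul_apply, ← map_mul]
      refine act_of_col B hB hU hD hs ?_ ?_
      · rw [Matrix.SpecialLinearGroup.coe_mul, Matrix.mul_apply, Fin.sum_univ_two, g01]
        change _ * 0 + _ * 1 = _
        ring
      · rw [Matrix.SpecialLinearGroup.coe_mul, Matrix.mul_apply, Fin.sum_univ_two, g11]
        change _ * 0 + _ * 1 = _
        ring
    have a3 : τ g (B 1) = ω ^ ell t • B k := by
      rw [hB 1, ← Module.End.mul_apply, ← map_mul]
      refine act_of_col B hB hU hD ht ?_ ?_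
      · rw [Matrix.SpecialLinearGroup.coe_mul, Matrix.mul_apply, Fin.sum_univ_two, ← p0]
        change _ * 1 + _ * 1 = _
        ring
      · rw [Matrix.SpecialLinearGroup.coe_mul, Matrix.mul_apply, Fin.sum_univ_two, ← p1]
        change _ * 1 + _ * 1 = _
        ring
    have h3 : f.compLinearMap (τ g) ![B 7, B 0, B 1] = 0 := by rw [hf, h0]
    have e2 : f.compLinearMap (τ g) ![B 7, B 0, B 1] = f ![ω ^ ell r • B i, ω ^ ell s • B j, ω ^ ell t • B k] := by
      rw [AlternatingMap.compLinearMap_apply]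
      congr 1
      funext i
      fin_cases i
      · exact a1
      · exact a2
      · exact a3
    rw [e2, lam_smul] at h3
    exact (mul_eq_zero.1 h3).resolve_left (mul_ne_zero (mul_ne_zero (pow_ne_zero _ hω0) (pow_ne_zero _ hω0))
      (pow_ne_zero _ hω0))
  -- the matrix
  set p := pt (v 0)
  set q := pt (v 1)
  set r := pt (v 2)
  have hpq : br p q ≠ 0 := br_ne _ _ (fun h => absurd (hv h) (by decide))
  have hrq : br r q ≠ 0 := br_ne _ _ (fun h => absurd (hv h) (by decide))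
  have hpr : br p r ≠ 0 := br_ne _ _ (fun h => absurd (hv h) (by decide))
  set c := inv7 (br p q)
  have hc : br p q * c = 1 := mul_inv7 _ hpq
  have hc0 : c ≠ 0 := by
    intro h
    rw [h, mul_zero] at hc
    exact absurd hc (by decide)
  have id1 : br r q * p.1 + br p r * q.1 = br p q * r.1 := by unfold br; ring
  have id2 : br r q * p.2 + br p r * q.2 = br p q * r.2 := by unfold br; ring
  have nz : ∀ a b : ZMod 7, a ≠ 0 → b ≠ 0 → a * b ≠ 0 := by decide
  have hα : br r q * c ≠ 0 := nz _ _ hrq hc0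
  have hβ : br p r * c ≠ 0 := nz _ _ hpr hc0
  obtain ⟨d, hd0, hd⟩ := exists_sq (br r q * c * (br p r * c) * br p q) (nz _ _ (nz _ _ hα hβ) hpq)
  set e := inv7 d
  have he : d * e = 1 := mul_inv7 _ hd0
  have he0 : e ≠ 0 := by
    intro h
    rw [h, mul_zero] at he
    exact absurd he (by decide)
  rcases hd with hd | hd
  · let g : Γ := ⟨!![br r q * c * e * p.1, br p r * c * e * q.1; br r q * c * e * p.2, br p r * c * e * q.2], by
      rw [Matrix.det_fin_two_of]
      have : br r q * c * e * p.1 * (br p r * c * e * q.2) - br p r * c * e * q.1 * (br r q * c * e * p.2) =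
        (br r q * c * (br p r * c) * br p q) * (e * e) := by
        conv_rhs => rw [show br p q = p.1 * q.2 - p.2 * q.1 from rfl]
        ring
      rw [this, hd]
      linear_combination (d * e + 1) * he⟩
    refine key g (v 0) (v 1) (v 2) (br r q * c * e) (br p r * c * e) e (nz _ _ hα he0) (nz _ _ hβ he0) he0 rfl rfl rfl rfl
      ?_ ?_
    · change br r q * c * e * p.1 + br p r * c * e * q.1 = e * r.1
      linear_combination c * e * id1 + e * r.1 * hc
    · change br r q * c * e * p.2 + br p r * c * e * q.2 = e * r.2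
      linear_combination c * e * id2 + e * r.2 * hc
  · let g : Γ := ⟨!![br p r * c * e * q.1, br r q * c * e * p.1; br p r * c * e * q.2, br r q * c * e * p.2], by
      rw [Matrix.det_fin_two_of]
      have : br p r * c * e * q.1 * (br r q * c * e * p.2) - br r q * c * e * p.1 * (br p r * c * e * q.2) =
        -(br r q * c * (br p r * c) * br p q) * (e * e) := by
        conv_rhs => rw [show br p q = p.1 * q.2 - p.2 * q.1 from rfl]
        ring
      rw [this, hd]
      linear_combination (d * e + 1) * he⟩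
    have h3 : f ![B (v 1), B (v 0), B (v 2)] = 0 := by
      refine key g (v 1) (v 0) (v 2) (br p r * c * e) (br r q * c * e) e (nz _ _ hβ he0) (nz _ _ hα he0) he0 rfl rfl rfl
        rfl ?_ ?_
      · change br p r * c * e * q.1 + br r q * c * e * p.1 = e * r.1
        linear_combination c * e * id1 + e * r.1 * hc
      · change br p r * c * e * q.2 + br r q * c * e * p.2 = e * r.2
        linear_combination c * e * id2 + e * r.2 * hc
    have h4 := f.map_swap ![B (v 1), B (v 0), B (v 2)] (i := 0) (j := 1) (by decide)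
    rw [h3, neg_zero] at h4
    rw [← h4]
    congr 1
    funext i
    fin_cases i <;> rfl

include hω in
/-- **Invariant alternating 3-forms**: exactly one up to scalars. -/
theorem exists_unique (h2 : (2 : K) ≠ 0) : ∃ f : V [⋀^Fin 3]→ₗ[K] K, f ≠ 0 ∧ (∀ g, f.compLinearMap (τ g) = f) ∧
    ∀ f' : V [⋀^Fin 3]→ₗ[K] K, (∀ g, f'.compLinearMap (τ g) = f') → ∃ c : K, f' = c • f := by
  have hω0 : ω ≠ 0 := by
    rintro rfl
    simp at hω
  have hne := af_ne hω B h2
  have hinv := af_inv hω B hB hU hD h2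
  refine ⟨af B h2 ω, hne, hinv, fun f' hf' => ?_⟩
  have h3 : af B h2 ω ![B 7, B 0, B 1] ≠ 0 := by
    intro h
    exact hne (eq_zero_of_inv B hB hU hD hω0 _ hinv h)
  refine ⟨f' ![B 7, B 0, B 1] / af B h2 ω ![B 7, B 0, B 1], ?_⟩
  rw [← sub_eq_zero]
  refine eq_zero_of_inv B hB hU hD hω0 _ (fun g => ?_) ?_
  · ext x
    have h4 := congrArg (fun f => f x) (hinv g)
    have h5 := congrArg (fun f => f x) (hf' g)
    simp only [AlternatingMap.compLinearMap_apply] at h4 h5
    rw [AlternatingMap.compLinearMap_apply, AlternatingMap.sub_apply, AlternatingMap.sub_apply, AlternatingMap.smul_apply,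
      AlternatingMap.smul_apply]
    rw [h4, h5]
  · rw [AlternatingMap.sub_apply, AlternatingMap.smul_apply, smul_eq_mul, div_mul_cancel₀ _ h3, sub_self]

end

end Cfsg.Agent.H917.SL7
end

-- part: H917/OmL27a
section
/-!
# `PSL₂(7)` in `Ω₈⁻(q)`, `p ≥ 5`: the invariant 3-form (helper917, row S5827)
-/

set_option autoImplicit false
set_option linter.unusedSectionVars false

namespace Cfsg.Agent.H917.L27

open Matrix Module
open Cfsg.Agent.H917.Om Cfsg.Agent.H637.JW
open Cfsg.Agent.H24.Om (tau uu weights_l27 no_borel_fixed four_ne_zero' uu_pow)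
open Cfsg.Agent.H871.Par (ut dg ut_mul)
open Cfsg.Agent.H917.SL7 (ux dt NN ell pt exists_unique eq_of_col exists_pt)

universe u v w

instance : Fact (Nat.Prime 7) := ⟨by norm_num⟩

abbrev T7 := Matrix.ProjectiveSpecialLinearGroup (Fin 2) (ZMod 7)

theorem ux_eq (x : ZMod 7) : ux x = ut x := rfl

theorem dt_eq (t : ZMod 7) (ht : t ≠ 0) : dt t ht = dg t ht := by
  apply Subtype.ext
  change !![t, 0; 0, SL7.inv7 t] = !![t, 0; 0, t⁻¹]
  rw [eq_inv_of_mul_eq_one_right (SL7.mul_inv7 t ht)]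

theorem z1 : (1 : ZMod 7) ≠ 0 := by decide
theorem z2 : (2 : ZMod 7) ≠ 0 := by decide
theorem z3 : (3 : ZMod 7) ≠ 0 := by decide
theorem z4 : (4 : ZMod 7) ≠ 0 := by decide
theorem z5 : (5 : ZMod 7) ≠ 0 := by decide
theorem z6 : (6 : ZMod 7) ≠ 0 := by decide

theorem e1 : ux 1 * dt 4 z4 = dt 4 z4 * ux 4 := by decide
theorem e2 : dt 4 z4 * (dt 4 z4 * dt 4 z4) = 1 := by decide
theorem e3 : dt 2 z2 = dt 4 z4 * dt 4 z4 := by decide
theorem e4 : dt 1 z1 = 1 := by decide
theorem e5 : dt 3 z3 = dt 6 z6 * dt 4 z4 := by decide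
theorem e6 : dt 5 z5 = dt 6 z6 * dt 2 z2 := by decide

variable {F : Type u} [Field F] [Fintype F] (h : OC F T7)

/-- eigenvector of the Borel subgroup -/
theorem exists_eig (h3 : (3 : F) ≠ 0) (h7 : (7 : F) ≠ 0) : ∃ (ω : AlgebraicClosure F) (v : Fin 8 → AlgebraicClosure F),
    ω ^ 3 = 1 ∧ ω ≠ 1 ∧ v ≠ 0 ∧ (∀ x, tau h (ux x) v = v) ∧ ∀ t (ht : t ≠ 0), tau h (dt t ht) v = ω ^ ell t • v := by
  have hK : Fintype.card (ZMod 7) = 7 := ZMod.card 7
  have h7' : ((7 : ℕ) : AlgebraicClosure F) ≠ 0 := H24.Om.cast_ne_zero (by exact_mod_cast h7)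
  obtain ⟨ζ, hζ⟩ := exists_root (K := AlgebraicClosure F) (N := 7) h7'
  have hW := (weights_l27 hK h h7 hζ).2
  set U := W 7 ζ (fun k => h.σ ((![uu] : Fin 1 → T7) k)) ![0] with hU
  have hmem : ∀ w, w ∈ U ↔ tau h (ux 1) w = w := by
    intro w
    rw [hU, mem_W]
    constructor
    · intro hw
      have := hw 0
      change h.σ uu w = ζ ^ (0 : ZMod 7).val • w at this
      rw [ZMod.val_zero, pow_zero, one_smul] at this
      exact this
    · intro hw k
      rw [Subsingleton.elim k 0]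
      change h.σ uu w = ζ ^ (0 : ZMod 7).val • w
      rw [ZMod.val_zero, pow_zero, one_smul]
      exact hw
  have hpow : ∀ (w : Fin 8 → AlgebraicClosure F), tau h (ux 1) w = w → ∀ x, tau h (ux x) w = w := by
    intro w hw x
    have h1 : ux x = ux 1 ^ x.val := by
      rw [ux_eq, ux_eq, H24.Om.ut_pow, mul_one, ZMod.natCast_val, ZMod.cast_id]
    have h2 : ∀ n : ℕ, tau h (ux 1 ^ n) w = w := by
      intro n
      induction n with
      | zero => rw [pow_zero, map_one, Module.End.one_apply]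
      | succ n ih => rw [pow_succ, map_mul, Module.End.mul_apply, hw, ih]
    rw [h1, h2]
  have hs : ∀ w ∈ U, tau h (dt 4 z4) w ∈ U := by
    intro w hw
    rw [hmem] at hw ⊢
    rw [← Module.End.mul_apply, ← map_mul, e1, map_mul, Module.End.mul_apply, hpow w hw]
  have : Nontrivial U := by
    apply Module.nontrivial_of_finrank_pos (R := AlgebraicClosure F)
    rw [hW]; norm_num
  obtain ⟨ω, hω⟩ := Module.End.exists_eigenvalue ((tau h (dt 4 z4)).restrict hs)
  obtain ⟨v, hv⟩ := hω.exists_hasEigenvector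
  have hv0 : (v : Fin 8 → AlgebraicClosure F) ≠ 0 := fun h0 => hv.2 (Subtype.ext h0)
  have hv1 : tau h (dt 4 z4) v.1 = ω • v.1 := congrArg Subtype.val hv.apply_eq_smul
  have hvU : ∀ x, tau h (ux x) v.1 = v.1 := hpow _ ((hmem _).1 v.2)
  have hcube : ω ^ 3 = 1 := by
    have h1 : tau h (dt 4 z4 * (dt 4 z4 * dt 4 z4)) v.1 = v.1 := by
      rw [e2, map_one, Module.End.one_apply]
    rw [map_mul, map_mul, Module.End.mul_apply, Module.End.mul_apply, hv1, map_smul, map_smul, hv1, map_smul, hv1,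
      smul_smul, smul_smul] at h1
    have h2 : (ω * ω * ω - 1) • v.1 = 0 := by rw [sub_smul, h1, one_smul, sub_self]
    have h3 := (smul_eq_zero.1 h2).resolve_right hv0
    linear_combination h3
  refine ⟨ω, v.1, hcube, ?_, hv0, hvU, ?_⟩
  · rintro rfl
    apply hv0
    refine no_borel_fixed hK h ?_ ?_
    · exact hvU 1
    · rw [one_smul, dt_eq] at hv1
      exact hv1
  · have hc : ∀ (g : SL7.Γ), g ∈ Subgroup.center SL7.Γ → ∀ w, tau h g w = w := by
      intro g hg w
      rw [H24.Om.tau_center h hg, Module.End.one_apply]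
    have hm1 : ∀ w, tau h (dt 6 z6) w = w := by
      intro w
      refine hc _ ?_ w
      rw [dt_eq]
      exact H24.Om.dg_neg_one_mem
    have d2 : tau h (dt 2 z2) v.1 = ω ^ 2 • v.1 := by
      rw [e3, map_mul, Module.End.mul_apply, hv1, map_smul, hv1,
        smul_smul, pow_two]
    intro t ht
    have key : ∀ t : ZMod 7, t ≠ 0 → t = 1 ∨ t = 2 ∨ t = 3 ∨ t = 4 ∨ t = 5 ∨ t = 6 := by decide
    rcases key t ht with rfl | rfl | rfl | rfl | rfl | rfl
    · rw [e4, map_one, Module.End.one_apply, show ell 1 = 0 from rfl, pow_zero, one_smul]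
    · exact d2
    · rw [e5, map_mul, Module.End.mul_apply, hm1, hv1,
        show ell 3 = 1 from rfl, pow_one]
    · rw [hv1, show ell 4 = 1 from rfl, pow_one]
    · rw [e6, map_mul, Module.End.mul_apply, hm1, d2,
        show ell 5 = 2 from rfl]
    · rw [hm1, show ell 6 = 0 from rfl, pow_zero, one_smul]

/-- **The invariant alternating 3-form**, unique up to scalars. -/
theorem exists_form (h2 : (2 : F) ≠ 0) (h3 : (3 : F) ≠ 0) (h7 : (7 : F) ≠ 0) :
    ∃ f : (Fin 8 → AlgebraicClosure F) [⋀^Fin 3]→ₗ[AlgebraicClosure F] AlgebraicClosure F, f ≠ 0 ∧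
      (∀ t, f.compLinearMap (h.σ t) = f) ∧
      ∀ f' : (Fin 8 → AlgebraicClosure F) [⋀^Fin 3]→ₗ[AlgebraicClosure F] AlgebraicClosure F,
        (∀ t, f'.compLinearMap (h.σ t) = f') → ∃ c : AlgebraicClosure F, f' = c • f := by
  obtain ⟨ω, v, hω, -, hv0, hU, hD⟩ := exists_eig h h3 h7
  have h2' : (2 : AlgebraicClosure F) ≠ 0 := by
    have := H24.Om.cast_ne_zero (F := F) (n := 2) (by exact_mod_cast h2)
    exact_mod_cast this
  let b : Fin 8 → (Fin 8 → AlgebraicClosure F) := fun i => tau h (NN i) v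
  have hspan : Submodule.span (AlgebraicClosure F) (Set.range b) = ⊤ := by
    rw [eq_top_iff, ← h.span_orbit hv0, Submodule.span_le]
    rintro _ ⟨t, rfl⟩
    obtain ⟨g, rfl⟩ := QuotientGroup.mk_surjective t
    have hne : ((g : Matrix (Fin 2) (Fin 2) (ZMod 7)) 0 0, (g : Matrix (Fin 2) (Fin 2) (ZMod 7)) 1 0) ≠ (0, 0) := by
      intro h0
      have hd := g.2
      rw [Matrix.det_fin_two] at hd
      have z0 := congrArg Prod.fst h0
      have z1 := congrArg Prod.snd h0
      simp only at z0 z1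
      rw [z0, z1, zero_mul, mul_zero, sub_zero] at hd
      exact absurd hd (by decide)
    obtain ⟨i, r, hr, a0, a1⟩ := exists_pt _ _ hne
    obtain ⟨x, rfl⟩ := eq_of_col hr a0 a1
    change tau h (NN i * dt r hr * ux x) v ∈ _
    rw [map_mul, map_mul, Module.End.mul_apply, Module.End.mul_apply, hU, hD, map_smul]
    exact Submodule.smul_mem _ _ (Submodule.subset_span ⟨i, rfl⟩)
  have hli : LinearIndependent (AlgebraicClosure F) b :=
    linearIndependent_of_top_le_span_of_card_eq_finrank hspan.ge (by rw [Module.finrank_fin_fun, Fintype.card_fin])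
  let B : Basis (Fin 8) (AlgebraicClosure F) (Fin 8 → AlgebraicClosure F) := Basis.mk hli hspan.ge
  have hB : ∀ i, B i = tau h (NN i) v := fun i => Basis.mk_apply _ _ _
  obtain ⟨f, hf0, hf, hfu⟩ := exists_unique hω B hB hU hD h2'
  refine ⟨f, hf0, fun t => ?_, fun f' hf' => hfu f' fun g => hf' (QuotientGroup.mk g)⟩
  obtain ⟨g, rfl⟩ := QuotientGroup.mk_surjective t
  exact hf g

end Cfsg.Agent.H917.L27
end

-- part: H917/OmForm3
section
/-!
# The group `Ω(Q)` fixes no alternating 3-form (helper917, row S5827)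
-/

set_option autoImplicit false

namespace Cfsg.Agent.H917.Form3

open Module QuadraticMap
open Cfsg.Agent.LieClassical.OrthCore Cfsg.Agent.LieClassical.OrthTrans Cfsg.Agent.LieClassical.OrthFinite

/-- **`Ω(Q)` (odd characteristic, dimension at least six) fixes no nonzero alternating 3-form**, with values in any
vector space. -/
theorem alt_eq_zero {F V L : Type*} [Field F] [Finite F] [AddCommGroup V] [Module F V] [AddCommGroup L]
    [Module F L] (h2 : (2 : F) ≠ 0) {Q : QuadraticForm F V} (hQ : Nondeg Q) (hdim : 6 ≤ finrank F V)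
    (g : V [⋀^Fin 3]→ₗ[F] L) (hinv : ∀ σ ∈ E Q, ∀ x : Fin 3 → V, g (fun i => σ (x i)) = g x) : g = 0 := by
  classical
  have : FiniteDimensional F V := Module.finite_of_finrank_pos (by omega)
  let inst2 : Invertible (2 : F) := invertibleOfNonzero h2
  have hsymm : (polarBilin Q).IsSymm := ⟨fun x y => QuadraticMap.polar_comm _ _ _⟩
  obtain ⟨e, he⟩ := LinearMap.BilinForm.exists_orthogonal_basis hsymm
  have ho : ∀ i j, i ≠ j → polar Q (e i) (e j) = 0 := fun i j hij => LinearMap.isOrthoᵢ_def.1 he i j hij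
  have hs : ∀ i, polar Q (e i) (e i) = 2 * Q (e i) := by
    intro i
    rw [QuadraticMap.polar_self, two_nsmul, two_mul]
  have hne : ∀ i, Q (e i) ≠ 0 := by
    intro i h0
    have h1 : polarBilin Q (e i) = 0 := by
      refine e.ext fun j => ?_
      change polar Q (e i) (e j) = 0
      by_cases hij : i = j
      · subst hij
        rw [hs, h0, mul_zero]
      · exact ho i j hij
    exact e.ne_zero i (hQ _ fun y => LinearMap.congr_fun h1 y)
  refine Basis.ext_alternating e fun v hv => ?_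
  rw [AlternatingMap.zero_apply]
  -- three further indices
  obtain ⟨s, hs', hs3⟩ : ∃ s : Finset (Fin (finrank F V)), s ⊆ Finset.univ \ Finset.univ.image v ∧ s.card = 3 := by
    refine Finset.exists_subset_card_eq ?_
    rw [Finset.card_sdiff_of_subset (Finset.subset_univ _), Finset.card_univ, Fintype.card_fin,
      Finset.card_image_of_injective _ hv, Finset.card_univ, Fintype.card_fin]
    omega
  obtain ⟨l, m, n, hlm, hln, hmn, rfl⟩ := Finset.card_eq_three.1 hs3
  let k : Fin 3 → Fin (finrank F V) := ![l, m, n]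
  have hk : ∀ i j, k i ≠ v j := by
    intro i j h
    have h1 : k i ∈ ({l, m, n} : Finset _) := by
      (revert i; simp only [k, _root_.Fin.forall_fin_succ, _root_.Finset.mem_insert, _root_.Finset.mem_singleton, Fin.isValue, _root_.Matrix.cons_val_zero, _root_.true_or, _root_.implies_true, _root_.Matrix.cons_val_succ, _root_.or_true, _root_.Matrix.cons_val_fin_one, _root_.and_self])
    have h3 := (Finset.mem_sdiff.1 (hs' h1)).2
    rw [h] at h3
    exact h3 (Finset.mem_image_of_mem _ (Finset.mem_univ _))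
  have hkk : ∀ i j, i ≠ j → k i ≠ k j := by
    intro i j hij
    fin_cases i <;> fin_cases j <;> simp_all only [k, eq_comm, _root_.eq_comm, _root_.ne_eq, _root_.QuadraticMap.polar_self, _root_.nsmul_eq_mul, _root_.Nat.cast_ofNat, _root_.implies_true, _root_.Finset.mem_insert, _root_.Finset.mem_singleton, _root_.or_self, _root_.not_false_eq_true, _root_.Finset.card_insert_of_notMem, _root_.Finset.card_singleton, _root_.Nat.reduceAdd, _root_.Fin.zero_eta, _root_.Fin.isValue, _root_.not_true_eq_false, _root_.Fin.mk_one, _root_.one_ne_zero, _root_.Matrix.cons_val_zero, _root_.Matrix.cons_val_one, _root_.Fin.reduceFinMk, _root_.Fin.reduceEq, _root_.Matrix.cons_val]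
  obtain ⟨x, hx0, hx⟩ := exists_ternary_zero (Q (e (k 0))) (Q (e (k 1))) (Q (e (k 2))) 0 0 0
  obtain ⟨t, ht⟩ : ∃ t, x t ≠ 0 := by
    by_contra hno
    push Not at hno
    exact hx0 (funext hno)
  let u : V := x 0 • e (k 0) + x 1 • e (k 1) + x 2 • e (k 2)
  have hu : Q u = 0 := by
    rw [Q_add, Q_add, QuadraticMap.map_smul, QuadraticMap.map_smul, QuadraticMap.map_smul,
      polar_add_left]
    simp only [polar_smul_left, polar_smul_right, smul_eq_mul]
    rw [ho _ _ (hkk 0 1 (by decide)), ho _ _ (hkk 0 2 (by decide)), ho _ _ (hkk 1 2 (by decide))]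
    linear_combination hx
  have huv : ∀ j, polar Q u (e (v j)) = 0 := by
    intro j
    rw [polar_add_left, polar_add_left, polar_smul_left, polar_smul_left, polar_smul_left, ho _ _ (hk 0 j),
      ho _ _ (hk 1 j), ho _ _ (hk 2 j)]
    simp
  have hut : polar Q u (e (k t)) = x t * (2 * Q (e (k t))) := by
    rw [polar_add_left, polar_add_left, polar_smul_left, polar_smul_left, polar_smul_left]
    fin_cases t
    · simp only [Fin.zero_eta, Fin.isValue] 
      rw [hs, ho _ _ (hkk 1 0 (by decide)), ho _ _ (hkk 2 0 (by decide))]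
      simp
    · simp only [Fin.mk_one, Fin.isValue]
      rw [hs, ho _ _ (hkk 0 1 (by decide)), ho _ _ (hkk 2 1 (by decide))]
      simp
    · simp only [Fin.reduceFinMk, Fin.isValue]
      rw [hs, ho _ _ (hkk 0 2 (by decide)), ho _ _ (hkk 1 2 (by decide))]
      simp
  let w : V := (x t * (2 * Q (e (k t))))⁻¹ • e (k t)
  have huw : polar Q u w = 1 := by
    rw [polar_smul_right, hut, smul_eq_mul]
    exact inv_mul_cancel₀ (mul_ne_zero ht (mul_ne_zero h2 (hne _)))
  have hvw : ∀ j, polar Q (e (v j)) w = 0 := by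
    intro j
    rw [polar_smul_right, ho _ _ (hk t j).symm, smul_zero]
  -- the two Siegel elements
  have key : ∀ ε : F, g ![e (v 0), e (v 1), w] = g ![e (v 0), e (v 1), w + ε • e (v 2) - (ε * ε * Q (e (v 2))) • u] := by
    intro ε
    have h0 : polar Q u (ε • e (v 2)) = 0 := by rw [polar_smul_right, huv, smul_zero]
    have h1 := hinv _ (siegel_mem_E hu h0) ![e (v 0), e (v 1), w]
    rw [← h1]
    congr 1
    funext i
    fin_cases i
    · change siegel Q u (ε • e (v 2)) hu h0 (e (v 0)) = e (v 0)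
      rw [siegel_apply, huv, polar_smul_left, ho _ _ (fun h => absurd (hv h) (by decide))]
      simp only [_root_.Fin.isValue, _root_.zero_smul, _root_.add_zero, _root_.smul_eq_mul, _root_.MulZeroClass.mul_zero, _root_.sub_zero]
    · change siegel Q u (ε • e (v 2)) hu h0 (e (v 1)) = e (v 1)
      rw [siegel_apply, huv, polar_smul_left, ho _ _ (fun h => absurd (hv h) (by decide))]
      simp only [_root_.Fin.isValue, _root_.zero_smul, _root_.add_zero, _root_.smul_eq_mul, _root_.MulZeroClass.mul_zero, _root_.sub_zero]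
    · change siegel Q u (ε • e (v 2)) hu h0 w = _
      rw [siegel_apply, huw, polar_smul_left, hvw, QuadraticMap.map_smul]
      simp only [_root_.Fin.isValue, _root_.one_smul, _root_.smul_eq_mul, _root_.MulZeroClass.mul_zero, _root_.zero_smul, _root_.sub_zero, _root_.mul_one, _root_.Fin.reduceFinMk, _root_.Matrix.cons_val]
  have k1 := key 1
  have k2 := key (-1)
  have hup : ∀ z : V, Function.update ![e (v 0), e (v 1), 0] 2 z = ![e (v 0), e (v 1), z] := by
    intro z
    funext i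
    fin_cases i <;> rfl
  have hadd : ∀ a b : V, g ![e (v 0), e (v 1), a + b] = g ![e (v 0), e (v 1), a] + g ![e (v 0), e (v 1), b] := by
    intro a b
    have := g.map_update_add ![e (v 0), e (v 1), 0] 2 a b
    rwa [hup, hup, hup] at this
  have hsmul : ∀ (c : F) (a : V), g ![e (v 0), e (v 1), c • a] = c • g ![e (v 0), e (v 1), a] := by
    intro c a
    have := g.map_update_smul ![e (v 0), e (v 1), 0] 2 c a
    rwa [hup, hup] at this
  have e1 : w + (1 : F) • e (v 2) - ((1 : F) * 1 * Q (e (v 2))) • u =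
      (w + (-1 : F) • e (v 2) - ((-1 : F) * (-1) * Q (e (v 2))) • u) + (2 : F) • e (v 2) := by
    module
  rw [e1, hadd, ← k2, left_eq_add, hsmul] at k1
  have k3 := (smul_eq_zero.1 k1).resolve_left h2
  rw [← k3]
  congr 1
  funext i
  fin_cases i <;> rfl

end Cfsg.Agent.H917.Form3
end

-- part: H917/OmL27b
section
/-!
# Unique invariant alternating 3-forms and maximal subgroups of `Ω(Q)` (helper917, row S5827)

`mem_of_form` : if `T ≤ H`, `H` maximal in `Ω(Q)` normalizes `T`, `f` is the unique `T`-invariant alternating 3-form, then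
every element of `Ω(Q)` fixing `f` lies in `H`.
-/

set_option autoImplicit false
set_option linter.unusedSectionVars false

namespace Cfsg.Agent.H917.Form3

open Cfsg Cfsg.Geo Module Matrix
open Cfsg.Agent.H917.Om Cfsg.Agent.H637.JW
open Cfsg.Agent.LieClassical.OrthCore Cfsg.Agent.LieClassical.OrthTrans Cfsg.Agent.LieClassical.OrthFinite
open scoped commutatorElement

universe u v

variable {F : Type u} [Field F]

/-- matrices over the closure -/
noncomputable def ac : GL (Fin 8) F →* Module.End (AlgebraicClosure F) (Fin 8 → AlgebraicClosure F) :=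
  _root_.Cfsg.Agent.H637.JW.ext (MonoidHom.id _) (AlgebraicClosure F)

theorem ac_apply (g : GL (Fin 8) F) (v : Fin 8 → AlgebraicClosure F) :
    ac g v = ((g : Matrix (Fin 8) (Fin 8) F).map (algebraMap F (AlgebraicClosure F))) *ᵥ v := rfl

theorem ac_rho {T : Type v} [Group T] (h : OC F T) (t : T) : ac (h.ρ t) = h.σ t := rfl

/-- coordinatewise inclusion -/
noncomputable def inc : (Fin 8 → F) →ₗ[F] (Fin 8 → AlgebraicClosure F) where
  toFun v i := algebraMap F _ (v i)
  map_add' v w := by ext i; simp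
  map_smul' c v := by ext i; simp [Algebra.smul_def]

theorem ac_inc (g : GL (Fin 8) F) (v : Fin 8 → F) : ac g (inc v) = inc ((g : Matrix (Fin 8) (Fin 8) F) *ᵥ v) := by
  rw [ac_apply]
  funext i
  change _ = algebraMap F (AlgebraicClosure F) _
  simp only [mulVec, dotProduct, Matrix.map_apply, map_sum, map_mul]
  rfl

abbrev A3 (F : Type u) [Field F] := (Fin 8 → AlgebraicClosure F) [⋀^Fin 3]→ₗ[AlgebraicClosure F] AlgebraicClosure F

theorem comp_comp (f : A3 F) (a b : GL (Fin 8) F) :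
    (f.compLinearMap (ac a)).compLinearMap (ac b) = f.compLinearMap (ac (a * b)) := by
  ext x
  rw [map_mul]
  rfl

theorem comp_one (f : A3 F) : f.compLinearMap (ac 1) = f := by
  ext x
  rw [map_one]
  rfl

theorem smul_comp (f : A3 F) (c : AlgebraicClosure F) (a : GL (Fin 8) F) :
    (c • f).compLinearMap (ac a) = c • f.compLinearMap (ac a) := by
  ext x
  rfl

/-- stabilizer of the line of `f` -/
def LineStab (f : A3 F) (_hf : f ≠ 0) : Subgroup (GL (Fin 8) F) where
  carrier := {g | ∃ c : AlgebraicClosure F, c ≠ 0 ∧ f.compLinearMap (ac g) = c • f}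
  mul_mem' := by
    rintro a b ⟨c, hc, h1⟩ ⟨d, hd, h2⟩
    exact ⟨c * d, mul_ne_zero hc hd, by rw [← comp_comp, h1, smul_comp, h2, smul_smul]⟩
  one_mem' := ⟨1, one_ne_zero, by rw [comp_one, one_smul]⟩
  inv_mem' := by
    rintro a ⟨c, hc, h1⟩
    refine ⟨c⁻¹, inv_ne_zero hc, ?_⟩
    have h2 := congrArg (fun f => f.compLinearMap (ac a⁻¹)) h1
    simp only [comp_comp, mul_inv_cancel, comp_one, smul_comp] at h2
    conv_rhs => rw [h2]
    rw [smul_smul, inv_mul_cancel₀ hc, one_smul]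

/-- stabilizer of `f` -/
def FormStab (f : A3 F) : Subgroup (GL (Fin 8) F) where
  carrier := {g | f.compLinearMap (ac g) = f}
  mul_mem' := by
    intro a b h1 h2
    change f.compLinearMap (ac (a * b)) = f
    rw [← comp_comp, show f.compLinearMap (ac a) = f from h1, h2]
  one_mem' := comp_one f
  inv_mem' := by
    intro a h1
    change f.compLinearMap (ac a⁻¹) = f
    have h2 := congrArg (fun f => f.compLinearMap (ac a⁻¹)) (show f.compLinearMap (ac a) = f from h1)
    simp only [comp_comp, mul_inv_cancel, comp_one] at h2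
    exact h2.symm

theorem comm_le (f : A3 F) (hf : f ≠ 0) : ⁅LineStab f hf, LineStab f hf⁆ ≤ FormStab f := by
  rw [Subgroup.commutator_le]
  intro a ha b hb
  obtain ⟨c, hc, h1⟩ := ha
  obtain ⟨d, hd, h2⟩ := hb
  have inv : ∀ (a : GL (Fin 8) F) (c : AlgebraicClosure F), c ≠ 0 → f.compLinearMap (ac a) = c • f →
      f.compLinearMap (ac a⁻¹) = c⁻¹ • f := by
    intro a c hc h1
    have h2 := congrArg (fun f => f.compLinearMap (ac a⁻¹)) h1
    simp only [comp_comp, mul_inv_cancel, comp_one, smul_comp] at h2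
    conv_rhs => rw [h2]
    rw [smul_smul, inv_mul_cancel₀ hc, one_smul]
  change f.compLinearMap (ac ⁅a, b⁆) = f
  rw [commutatorElement_def, ← comp_comp, ← comp_comp, ← comp_comp, h1, smul_comp, h2]
  simp only [smul_comp, inv a c hc h1, inv b d hd h2, smul_smul]
  rw [show c * d * c⁻¹ * d⁻¹ = (c * c⁻¹) * (d * d⁻¹) by ring, mul_inv_cancel₀ hc, mul_inv_cancel₀ hd, one_mul, one_smul]

/-- restriction to `F⁸` -/
noncomputable def res (f : A3 F) : (Fin 8 → F) [⋀^Fin 3]→ₗ[F] AlgebraicClosure F where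
  toFun x := f fun i => inc (x i)
  map_update_add' m i x y := by
    have e : ∀ z, (fun j => inc (Function.update m i z j)) = Function.update (fun j => inc (m j)) i (inc z) := by
      intro z
      funext j
      by_cases hj : j = i
      · subst hj; simp
      · simp [hj]
    rw [e, e, e, map_add, AlternatingMap.map_update_add]
  map_update_smul' m i c x := by
    have e : ∀ z, (fun j => inc (Function.update m i z j)) = Function.update (fun j => inc (m j)) i (inc z) := by
      intro z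
      funext j
      by_cases hj : j = i
      · subst hj; simp
      · simp [hj]
    have h1 : (inc (c • x) : Fin 8 → AlgebraicClosure F) = algebraMap F (AlgebraicClosure F) c • inc x := by
      rw [map_smul, algebraMap_smul]
    rw [e, e, h1, AlternatingMap.map_update_smul, smul_eq_mul, Algebra.smul_def]
  map_eq_zero_of_eq' x i j hx hij := by
    exact f.map_eq_zero_of_eq _ (by rw [hx]) hij

theorem res_eq_zero {f : A3 F} (h : res f = 0) : f = 0 := by
  refine Basis.ext_alternating (Pi.basisFun (AlgebraicClosure F) (Fin 8)) fun v _ => ?_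
  rw [AlternatingMap.zero_apply]
  have h1 := congrArg (fun g => g fun i => (Pi.single (v i) 1 : Fin 8 → F)) h
  change (f fun i => inc (Pi.single (v i) 1 : Fin 8 → F)) = 0 at h1
  rw [← h1]
  congr 1
  funext i j
  rw [Pi.basisFun_apply]
  change _ = algebraMap F (AlgebraicClosure F) _
  by_cases hj : j = v i
  · subst hj; simp
  · simp [hj]

/-- **`Ω(Q)` does not preserve the line of a 3-form.** -/
theorem not_le [Fintype F] {Q : (Fin 8 → F) → F} (nd : IsNondegenerateQuadraticForm Q) (h2 : (2 : F) ≠ 0) (f : A3 F)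
    (hf : f ≠ 0) : ¬ omegaGL Q ≤ LineStab f hf := by
  intro hle
  set Q' := H925.qf nd with hQ'
  have hnd : Nondeg Q' := H925.nondeg_qf nd
  have hG : Good Q' := Cfsg.Agent.H883.Bridge.good_of_card hnd (by rw [Fintype.card_fin]; norm_num)
  have hmap : (omegaGL Q).map (glEquiv (Fin 8) F).toMonoidHom = E Q' := (Cfsg.Agent.H883.Bridge.map_omegaGL_eq_E hG :)
  have hperf : ⁅omegaGL Q, omegaGL Q⁆ = omegaGL Q := by
    apply Subgroup.map_injective (f := (glEquiv (Fin 8) F).toMonoidHom) (glEquiv (Fin 8) F).injective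
    rw [Subgroup.map_commutator, hmap, hG.E_perfect]
  have hle2 : omegaGL Q ≤ FormStab f := by
    rw [← hperf]
    exact (Subgroup.commutator_mono hle hle).trans (comm_le f hf)
  apply hf
  apply res_eq_zero
  refine alt_eq_zero h2 hnd (by rw [Module.finrank_fin_fun]; norm_num) _ fun σ hσ x => ?_
  rw [← hmap] at hσ
  obtain ⟨g, hg, rfl⟩ := hσ
  have h1 := congrArg (fun f => f fun i => inc (x i)) (show f.compLinearMap (ac g) = f from hle2 hg)
  refine Eq.trans ?_ h1
  change (f fun i => inc _) = f fun i => ac g (inc (x i))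
  congr 1
  funext i
  rw [ac_inc]
  rfl

/-- **The overgroup argument.** -/
theorem mem_of_form [Fintype F] {T : Type v} [Group T] (h : OC F T) (h2 : (2 : F) ≠ 0) {H : Subgroup (GL (Fin 8) F)}
    (hmax : IsMaximalIn (omegaGL h.Q) H) (hnorm : ∀ x ∈ H, ∀ t, ∃ t', x * h.ρ t * x⁻¹ = h.ρ t') {f : A3 F} (hf0 : f ≠ 0)
    (hf : ∀ t, f.compLinearMap (h.σ t) = f)
    (hu : ∀ f' : A3 F, (∀ t, f'.compLinearMap (h.σ t) = f') → ∃ c : AlgebraicClosure F, f' = c • f)
    {g : GL (Fin 8) F} (hg : g ∈ omegaGL h.Q) (hgf : f.compLinearMap (ac g) = f) : g ∈ H := by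
  have hHM : H ≤ LineStab f hf0 ⊓ omegaGL h.Q := by
    intro x hx
    refine ⟨?_, hmax.1.1 hx⟩
    obtain ⟨c, hc⟩ := hu (f.compLinearMap (ac x)) (by
      intro t
      obtain ⟨t', ht'⟩ := hnorm x hx t
      rw [← ac_rho, comp_comp, show x * h.ρ t = h.ρ t' * x by rw [← ht']; group, ← comp_comp, ac_rho, hf])
    refine ⟨c, ?_, hc⟩
    rintro rfl
    rw [zero_smul] at hc
    have h3 := congrArg (fun f => f.compLinearMap (ac x⁻¹)) hc
    simp only [comp_comp, mul_inv_cancel, comp_one] at h3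
    apply hf0
    rw [h3]
    ext y
    rfl
  rcases hmax.2 _ hHM inf_le_right with h3 | h3
  · rw [← h3]
    exact ⟨⟨1, one_ne_zero, by rw [hgf, one_smul]⟩, hg⟩
  · exact absurd (inf_eq_right.1 h3) (not_le h.nd h2 f hf0)

end Cfsg.Agent.H917.Form3
end

-- part: H917/OmTor7
section
/-!
# An element of the torus (helper917, row S5827, `L₂(7)`)

For a primitive 7th root of unity `ζ` there is `a ∈ {2, 3}` such that for no `k` the squares of
`(a - x⁴)(a - x⁶) / ((a - x³)(a - x))`, `x = ζ^j`, are `x^k` for all `j`.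
-/

set_option autoImplicit false

namespace Cfsg.Agent.H917.Tor7

open Polynomial

variable {K : Type*} [Field K]

theorem coeff_zero {ζ : K} (hζ : IsPrimitiveRoot ζ 7) (m : Fin 7 → K)
    (h : ∀ j : ℕ, m 0 + m 1 * (ζ ^ j) + m 2 * (ζ ^ j) ^ 2 + m 3 * (ζ ^ j) ^ 3 + m 4 * (ζ ^ j) ^ 4 + m 5 * (ζ ^ j) ^ 5 +
      m 6 * (ζ ^ j) ^ 6 = 0) (i : Fin 7) : m i = 0 := by
  let P : K[X] := ∑ i : Fin 7, C (m i) * X ^ (i : ℕ)
  have hP : P = 0 := by
    refine Polynomial.eq_zero_of_natDegree_lt_card_of_eval_eq_zero P (f := fun j : Fin 7 => ζ ^ (j : ℕ)) ?_ ?_ ?_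
    · intro i j hij
      exact Fin.ext (hζ.pow_inj i.2 j.2 hij)
    · intro j
      simp only [P, Polynomial.eval_finsetSum, Polynomial.eval_mul, Polynomial.eval_C, Polynomial.eval_pow,
        Polynomial.eval_X]
      rw [← h j, Fin.sum_univ_seven]
      simp
    · rw [Fintype.card_fin]
      refine Nat.lt_of_le_of_lt (Polynomial.natDegree_sum_le_of_forall_le _ _ (n := 6) fun i _ => ?_) (by norm_num)
      exact (Polynomial.natDegree_C_mul_X_pow_le _ _).trans (by omega)
  have h1 := congrArg (fun p => p.coeff (i : ℕ)) hP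
  simp only [P, Polynomial.finsetSum_coeff, Polynomial.coeff_C_mul, Polynomial.coeff_X_pow, Polynomial.coeff_zero] at h1
  rw [Finset.sum_eq_single i] at h1
  · simpa using h1
  · intro j _ hj
    rw [if_neg (fun h => hj (Fin.ext h).symm), mul_zero]
  · intro h; exact absurd (Finset.mem_univ i) h

theorem step_2_0 {ζ : K} (hζ : IsPrimitiveRoot ζ 7)
    (h : ∀ j : ℕ, (2 - (ζ ^ j) ^ 4) ^ 2 * (2 - (ζ ^ j) ^ 6) ^ 2 =
      (ζ ^ j) ^ 0 * ((2 - (ζ ^ j) ^ 3) ^ 2 * (2 - ζ ^ j) ^ 2)) :
    ∀ i, (![0, 19, -8, 32, -32, 8, -19] : Fin 7 → K) i = 0 := by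
  refine coeff_zero hζ _ fun j => ?_
  have hx : (ζ ^ j) ^ 7 = 1 := by rw [← pow_mul, mul_comm, pow_mul, hζ.pow_eq_one, one_pow]
  have h1 := h j
  set x := ζ ^ j
  change (0) + (19) * x + (-8) * x ^ 2 + (32) * x ^ 3 + (-32) * x ^ 4 + (8) * x ^ 5 + (-19) * x ^ 6 = 0
  linear_combination h1 - ((3) * x ^ 1 + (-4) * x ^ 2 + (16) * x ^ 3 + (4) * x ^ 5 + (1) * x ^ 6 + (-4) * x ^ 7 + (-4) * x ^ 9 + (1) * x ^ 13) * hx

theorem step_2_1 {ζ : K} (hζ : IsPrimitiveRoot ζ 7)
    (h : ∀ j : ℕ, (2 - (ζ ^ j) ^ 4) ^ 2 * (2 - (ζ ^ j) ^ 6) ^ 2 =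
      (ζ ^ j) ^ 1 * ((2 - (ζ ^ j) ^ 3) ^ 2 * (2 - ζ ^ j) ^ 2)) :
    ∀ i, (![8, -8, 11, 12, 0, -12, -11] : Fin 7 → K) i = 0 := by
  refine coeff_zero hζ _ fun j => ?_
  have hx : (ζ ^ j) ^ 7 = 1 := by rw [← pow_mul, mul_comm, pow_mul, hζ.pow_eq_one, one_pow]
  have h1 := h j
  set x := ζ ^ j
  change (8) + (-8) * x + (11) * x ^ 2 + (12) * x ^ 3 + (0) * x ^ 4 + (-12) * x ^ 5 + (-11) * x ^ 6 = 0
  linear_combination h1 - ((-8) * x ^ 0 + (8) * x ^ 1 + (-5) * x ^ 2 + (16) * x ^ 3 + (4) * x ^ 5 + (1) * x ^ 6 + (-4) * x ^ 7 + (-4) * x ^ 9 + (1) * x ^ 13) * hx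

theorem step_2_2 {ζ : K} (hζ : IsPrimitiveRoot ζ 7)
    (h : ∀ j : ℕ, (2 - (ζ ^ j) ^ 4) ^ 2 * (2 - (ζ ^ j) ^ 6) ^ 2 =
      (ζ ^ j) ^ 2 * ((2 - (ζ ^ j) ^ 3) ^ 2 * (2 - ζ ^ j) ^ 2)) :
    ∀ i, (![16, 0, -16, 31, -20, 20, -31] : Fin 7 → K) i = 0 := by
  refine coeff_zero hζ _ fun j => ?_
  have hx : (ζ ^ j) ^ 7 = 1 := by rw [← pow_mul, mul_comm, pow_mul, hζ.pow_eq_one, one_pow]
  have h1 := h j
  set x := ζ ^ j
  change (16) + (0) * x + (-16) * x ^ 2 + (31) * x ^ 3 + (-20) * x ^ 4 + (20) * x ^ 5 + (-31) * x ^ 6 = 0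
  linear_combination h1 - ((15) * x ^ 3 + (4) * x ^ 5 + (1) * x ^ 6 + (-4) * x ^ 7 + (-4) * x ^ 9 + (1) * x ^ 13) * hx

theorem step_2_3 {ζ : K} (hζ : IsPrimitiveRoot ζ 7)
    (h : ∀ j : ℕ, (2 - (ζ ^ j) ^ 4) ^ 2 * (2 - (ζ ^ j) ^ 6) ^ 2 =
      (ζ ^ j) ^ 3 * ((2 - (ζ ^ j) ^ 3) ^ 2 * (2 - ζ ^ j) ^ 2)) :
    ∀ i, (![-4, 8, -8, 4, -1, 0, 1] : Fin 7 → K) i = 0 := by
  refine coeff_zero hζ _ fun j => ?_
  have hx : (ζ ^ j) ^ 7 = 1 := by rw [← pow_mul, mul_comm, pow_mul, hζ.pow_eq_one, one_pow]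
  have h1 := h j
  set x := ζ ^ j
  change (-4) + (8) * x + (-8) * x ^ 2 + (4) * x ^ 3 + (-1) * x ^ 4 + (0) * x ^ 5 + (1) * x ^ 6 = 0
  linear_combination h1 - ((-20) * x ^ 0 + (8) * x ^ 1 + (-8) * x ^ 2 + (20) * x ^ 3 + (-1) * x ^ 4 + (4) * x ^ 5 + (1) * x ^ 6 + (-4) * x ^ 7 + (-4) * x ^ 9 + (1) * x ^ 13) * hx

theorem step_2_4 {ζ : K} (hζ : IsPrimitiveRoot ζ 7)
    (h : ∀ j : ℕ, (2 - (ζ ^ j) ^ 4) ^ 2 * (2 - (ζ ^ j) ^ 6) ^ 2 =
      (ζ ^ j) ^ 4 * ((2 - (ζ ^ j) ^ 3) ^ 2 * (2 - ζ ^ j) ^ 2)) :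
    ∀ i, (![28, -12, 0, 12, -28, 19, -19] : Fin 7 → K) i = 0 := by
  refine coeff_zero hζ _ fun j => ?_
  have hx : (ζ ^ j) ^ 7 = 1 := by rw [← pow_mul, mul_comm, pow_mul, hζ.pow_eq_one, one_pow]
  have h1 := h j
  set x := ζ ^ j
  change (28) + (-12) * x + (0) * x ^ 2 + (12) * x ^ 3 + (-28) * x ^ 4 + (19) * x ^ 5 + (-19) * x ^ 6 = 0
  linear_combination h1 - ((12) * x ^ 0 + (-12) * x ^ 1 + (12) * x ^ 3 + (4) * x ^ 4 + (3) * x ^ 5 + (1) * x ^ 6 + (-4) * x ^ 7 + (-4) * x ^ 9 + (1) * x ^ 13) * hx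

theorem step_2_5 {ζ : K} (hζ : IsPrimitiveRoot ζ 7)
    (h : ∀ j : ℕ, (2 - (ζ ^ j) ^ 4) ^ 2 * (2 - (ζ ^ j) ^ 6) ^ 2 =
      (ζ ^ j) ^ 5 * ((2 - (ζ ^ j) ^ 3) ^ 2 * (2 - ζ ^ j) ^ 2)) :
    ∀ i, (![8, 20, -20, 20, -20, -8, 0] : Fin 7 → K) i = 0 := by
  refine coeff_zero hζ _ fun j => ?_
  have hx : (ζ ^ j) ^ 7 = 1 := by rw [← pow_mul, mul_comm, pow_mul, hζ.pow_eq_one, one_pow]
  have h1 := h j
  set x := ζ ^ j
  change (8) + (20) * x + (-20) * x ^ 2 + (20) * x ^ 3 + (-20) * x ^ 4 + (-8) * x ^ 5 + (0) * x ^ 6 = 0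
  linear_combination h1 - ((-8) * x ^ 0 + (20) * x ^ 1 + (-20) * x ^ 2 + (20) * x ^ 3 + (-4) * x ^ 4 + (8) * x ^ 5 + (-4) * x ^ 7 + (-4) * x ^ 9 + (1) * x ^ 13) * hx

theorem step_2_6 {ζ : K} (hζ : IsPrimitiveRoot ζ 7)
    (h : ∀ j : ℕ, (2 - (ζ ^ j) ^ 4) ^ 2 * (2 - (ζ ^ j) ^ 6) ^ 2 =
      (ζ ^ j) ^ 6 * ((2 - (ζ ^ j) ^ 3) ^ 2 * (2 - ζ ^ j) ^ 2)) :
    ∀ i, (![27, 0, 12, 0, -12, 0, -27] : Fin 7 → K) i = 0 := by
  refine coeff_zero hζ _ fun j => ?_
  have hx : (ζ ^ j) ^ 7 = 1 := by rw [← pow_mul, mul_comm, pow_mul, hζ.pow_eq_one, one_pow]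
  have h1 := h j
  set x := ζ ^ j
  change (27) + (0) * x + (12) * x ^ 2 + (0) * x ^ 3 + (-12) * x ^ 4 + (0) * x ^ 5 + (-27) * x ^ 6 = 0
  linear_combination h1 - ((11) * x ^ 0 + (12) * x ^ 2 + (4) * x ^ 4 + (5) * x ^ 6 + (-5) * x ^ 7 + (-4) * x ^ 9 + (1) * x ^ 13) * hx

theorem step_3_0 {ζ : K} (hζ : IsPrimitiveRoot ζ 7)
    (h : ∀ j : ℕ, (3 - (ζ ^ j) ^ 4) ^ 2 * (3 - (ζ ^ j) ^ 6) ^ 2 =
      (ζ ^ j) ^ 0 * ((3 - (ζ ^ j) ^ 3) ^ 2 * (3 - ζ ^ j) ^ 2)) :
    ∀ i, (![0, 62, -15, 90, -90, 15, -62] : Fin 7 → K) i = 0 := by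
  refine coeff_zero hζ _ fun j => ?_
  have hx : (ζ ^ j) ^ 7 = 1 := by rw [← pow_mul, mul_comm, pow_mul, hζ.pow_eq_one, one_pow]
  have h1 := h j
  set x := ζ ^ j
  change (0) + (62) * x + (-15) * x ^ 2 + (90) * x ^ 3 + (-90) * x ^ 4 + (15) * x ^ 5 + (-62) * x ^ 6 = 0
  linear_combination h1 - ((8) * x ^ 1 + (-6) * x ^ 2 + (36) * x ^ 3 + (9) * x ^ 5 + (1) * x ^ 6 + (-6) * x ^ 7 + (-6) * x ^ 9 + (1) * x ^ 13) * hx

theorem step_3_1 {ζ : K} (hζ : IsPrimitiveRoot ζ 7)
    (h : ∀ j : ℕ, (3 - (ζ ^ j) ^ 4) ^ 2 * (3 - (ζ ^ j) ^ 6) ^ 2 =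
      (ζ ^ j) ^ 1 * ((3 - (ζ ^ j) ^ 3) ^ 2 * (3 - ζ ^ j) ^ 2)) :
    ∀ i, (![66, -66, 47, 27, 0, -27, -47] : Fin 7 → K) i = 0 := by
  refine coeff_zero hζ _ fun j => ?_
  have hx : (ζ ^ j) ^ 7 = 1 := by rw [← pow_mul, mul_comm, pow_mul, hζ.pow_eq_one, one_pow]
  have h1 := h j
  set x := ζ ^ j
  change (66) + (-66) * x + (47) * x ^ 2 + (27) * x ^ 3 + (0) * x ^ 4 + (-27) * x ^ 5 + (-47) * x ^ 6 = 0
  linear_combination h1 - ((-15) * x ^ 0 + (15) * x ^ 1 + (-7) * x ^ 2 + (36) * x ^ 3 + (9) * x ^ 5 + (1) * x ^ 6 + (-6) * x ^ 7 + (-6) * x ^ 9 + (1) * x ^ 13) * hx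

theorem step_3_2 {ζ : K} (hζ : IsPrimitiveRoot ζ 7)
    (h : ∀ j : ℕ, (3 - (ζ ^ j) ^ 4) ^ 2 * (3 - (ζ ^ j) ^ 6) ^ 2 =
      (ζ ^ j) ^ 2 * ((3 - (ζ ^ j) ^ 3) ^ 2 * (3 - ζ ^ j) ^ 2)) :
    ∀ i, (![81, 0, -81, 89, -63, 63, -89] : Fin 7 → K) i = 0 := by
  refine coeff_zero hζ _ fun j => ?_
  have hx : (ζ ^ j) ^ 7 = 1 := by rw [← pow_mul, mul_comm, pow_mul, hζ.pow_eq_one, one_pow]
  have h1 := h j
  set x := ζ ^ j
  change (81) + (0) * x + (-81) * x ^ 2 + (89) * x ^ 3 + (-63) * x ^ 4 + (63) * x ^ 5 + (-89) * x ^ 6 = 0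
  linear_combination h1 - ((35) * x ^ 3 + (9) * x ^ 5 + (1) * x ^ 6 + (-6) * x ^ 7 + (-6) * x ^ 9 + (1) * x ^ 13) * hx

theorem step_3_3 {ζ : K} (hζ : IsPrimitiveRoot ζ 7)
    (h : ∀ j : ℕ, (3 - (ζ ^ j) ^ 4) ^ 2 * (3 - (ζ ^ j) ^ 6) ^ 2 =
      (ζ ^ j) ^ 3 * ((3 - (ζ ^ j) ^ 3) ^ 2 * (3 - ζ ^ j) ^ 2)) :
    ∀ i, (![39, 15, -15, -39, -1, 0, 1] : Fin 7 → K) i = 0 := by
  refine coeff_zero hζ _ fun j => ?_
  have hx : (ζ ^ j) ^ 7 = 1 := by rw [← pow_mul, mul_comm, pow_mul, hζ.pow_eq_one, one_pow]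
  have h1 := h j
  set x := ζ ^ j
  change (39) + (15) * x + (-15) * x ^ 2 + (-39) * x ^ 3 + (-1) * x ^ 4 + (0) * x ^ 5 + (1) * x ^ 6 = 0
  linear_combination h1 - ((-42) * x ^ 0 + (15) * x ^ 1 + (-15) * x ^ 2 + (42) * x ^ 3 + (-1) * x ^ 4 + (9) * x ^ 5 + (1) * x ^ 6 + (-6) * x ^ 7 + (-6) * x ^ 9 + (1) * x ^ 13) * hx

theorem step_3_4 {ζ : K} (hζ : IsPrimitiveRoot ζ 7)
    (h : ∀ j : ℕ, (3 - (ζ ^ j) ^ 4) ^ 2 * (3 - (ζ ^ j) ^ 6) ^ 2 =
      (ζ ^ j) ^ 4 * ((3 - (ζ ^ j) ^ 3) ^ 2 * (3 - ζ ^ j) ^ 2)) :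
    ∀ i, (![129, -27, 0, 27, -129, 62, -62] : Fin 7 → K) i = 0 := by
  refine coeff_zero hζ _ fun j => ?_
  have hx : (ζ ^ j) ^ 7 = 1 := by rw [← pow_mul, mul_comm, pow_mul, hζ.pow_eq_one, one_pow]
  have h1 := h j
  set x := ζ ^ j
  change (129) + (-27) * x + (0) * x ^ 2 + (27) * x ^ 3 + (-129) * x ^ 4 + (62) * x ^ 5 + (-62) * x ^ 6 = 0
  linear_combination h1 - ((48) * x ^ 0 + (-27) * x ^ 1 + (27) * x ^ 3 + (6) * x ^ 4 + (8) * x ^ 5 + (1) * x ^ 6 + (-6) * x ^ 7 + (-6) * x ^ 9 + (1) * x ^ 13) * hx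

theorem step_3_5 {ζ : K} (hζ : IsPrimitiveRoot ζ 7)
    (h : ∀ j : ℕ, (3 - (ζ ^ j) ^ 4) ^ 2 * (3 - (ζ ^ j) ^ 6) ^ 2 =
      (ζ ^ j) ^ 5 * ((3 - (ζ ^ j) ^ 3) ^ 2 * (3 - ζ ^ j) ^ 2)) :
    ∀ i, (![66, 63, -42, 42, -63, -66, 0] : Fin 7 → K) i = 0 := by
  refine coeff_zero hζ _ fun j => ?_
  have hx : (ζ ^ j) ^ 7 = 1 := by rw [← pow_mul, mul_comm, pow_mul, hζ.pow_eq_one, one_pow]
  have h1 := h j
  set x := ζ ^ j
  change (66) + (63) * x + (-42) * x ^ 2 + (42) * x ^ 3 + (-63) * x ^ 4 + (-66) * x ^ 5 + (0) * x ^ 6 = 0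
  linear_combination h1 - ((-15) * x ^ 0 + (63) * x ^ 1 + (-42) * x ^ 2 + (42) * x ^ 3 + (-9) * x ^ 4 + (15) * x ^ 5 + (-6) * x ^ 7 + (-6) * x ^ 9 + (1) * x ^ 13) * hx

theorem step_3_6 {ζ : K} (hζ : IsPrimitiveRoot ζ 7)
    (h : ∀ j : ℕ, (3 - (ζ ^ j) ^ 4) ^ 2 * (3 - (ζ ^ j) ^ 6) ^ 2 =
      (ζ ^ j) ^ 6 * ((3 - (ζ ^ j) ^ 3) ^ 2 * (3 - ζ ^ j) ^ 2)) :
    ∀ i, (![128, 0, 48, 0, -48, 0, -128] : Fin 7 → K) i = 0 := by
  refine coeff_zero hζ _ fun j => ?_
  have hx : (ζ ^ j) ^ 7 = 1 := by rw [← pow_mul, mul_comm, pow_mul, hζ.pow_eq_one, one_pow]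
  have h1 := h j
  set x := ζ ^ j
  change (128) + (0) * x + (48) * x ^ 2 + (0) * x ^ 3 + (-48) * x ^ 4 + (0) * x ^ 5 + (-128) * x ^ 6 = 0
  linear_combination h1 - ((47) * x ^ 0 + (48) * x ^ 2 + (6) * x ^ 4 + (7) * x ^ 6 + (-7) * x ^ 7 + (-6) * x ^ 9 + (1) * x ^ 13) * hx

/-- `a = 2` -/
theorem two {ζ : K} (hζ : IsPrimitiveRoot ζ 7) (h2 : (2 : K) ≠ 0) (h3 : (3 : K) ≠ 0) {k : ℕ} (hk : k < 7) :
    ∃ j : ℕ, (2 - (ζ ^ j) ^ 4) ^ 2 * (2 - (ζ ^ j) ^ 6) ^ 2 ≠
      (ζ ^ j) ^ k * ((2 - (ζ ^ j) ^ 3) ^ 2 * (2 - ζ ^ j) ^ 2) := by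
  by_contra hno
  push Not at hno
  apply one_ne_zero (α := K)
  interval_cases k
  · have c := step_2_0 hζ hno
    have c1 : (19 : K) = 0 := c 1
    have c2 : (-8 : K) = 0 := c 2
    linear_combination 3 * c1 + 7 * c2
  · have c := step_2_1 hζ hno
    have c1 : (8 : K) = 0 := c 0
    have c2 : (11 : K) = 0 := c 2
    linear_combination 3 * c2 - 4 * c1
  · have c := step_2_2 hζ hno
    have c1 : (16 : K) = 0 := c 0
    have c2 : (31 : K) = 0 := c 3
    linear_combination 2 * c1 - c2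
  · have c := step_2_3 hζ hno
    have c1 : (1 : K) = 0 := c 6
    exact c1
  · have c := step_2_4 hζ hno
    have c1 : (12 : K) = 0 := c 3
    have c2 : (19 : K) = 0 := c 5
    linear_combination 8 * c1 - 5 * c2
  · exfalso
    have c := step_2_5 hζ hno
    have c1 : (8 : K) = 0 := c 0
    have c2 : (2 : K) * (2 * 2) = 0 := by linear_combination c1
    exact mul_ne_zero h2 (mul_ne_zero h2 h2) c2
  · exfalso
    have c := step_2_6 hζ hno
    have c1 : (27 : K) = 0 := c 0
    have c2 : (3 : K) * (3 * 3) = 0 := by linear_combination c1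
    exact mul_ne_zero h3 (mul_ne_zero h3 h3) c2

/-- `a = 3` -/
theorem three {ζ : K} (hζ : IsPrimitiveRoot ζ 7) (h : (127 : K) = 0) {k : ℕ} (hk : k < 7) :
    ∃ j : ℕ, (3 - (ζ ^ j) ^ 4) ^ 2 * (3 - (ζ ^ j) ^ 6) ^ 2 ≠
      (ζ ^ j) ^ k * ((3 - (ζ ^ j) ^ 3) ^ 2 * (3 - ζ ^ j) ^ 2) := by
  by_contra hno
  push Not at hno
  apply one_ne_zero (α := K)
  interval_cases k
  · have c := step_3_0 hζ hno
    have c1 : (-15 : K) = 0 := c 2
    linear_combination -17 * c1 - 2 * h
  · have c := step_3_1 hζ hno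
    have c1 : (27 : K) = 0 := c 3
    linear_combination 80 * c1 - 17 * h
  · have c := step_3_2 hζ hno
    have c1 : (63 : K) = 0 := c 5
    linear_combination h - 2 * c1
  · have c := step_3_3 hζ hno
    have c1 : (1 : K) = 0 := c 6
    exact c1
  · have c := step_3_4 hζ hno
    have c1 : (27 : K) = 0 := c 3
    linear_combination 80 * c1 - 17 * h
  · have c := step_3_5 hζ hno
    have c1 : (63 : K) = 0 := c 1
    linear_combination h - 2 * c1
  · have c := step_3_6 hζ hno
    have c1 : (48 : K) = 0 := c 2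
    linear_combination 45 * c1 - 17 * h

/-- the choice of `a` -/
theorem exists_a {F : Type*} [Field F] (f : F →+* K) {ζ : K} (hζ : IsPrimitiveRoot ζ 7) (h2 : (2 : F) ≠ 0)
    (h3 : (3 : F) ≠ 0) : ∃ a : F, a ^ 7 ≠ 1 ∧ ∀ k < 7, ∃ j : ℕ, (f a - (ζ ^ j) ^ 4) ^ 2 * (f a - (ζ ^ j) ^ 6) ^ 2 ≠
      (ζ ^ j) ^ k * ((f a - (ζ ^ j) ^ 3) ^ 2 * (f a - ζ ^ j) ^ 2) := by
  by_cases h : (127 : F) = 0
  · refine ⟨3, ?_, fun k hk => ?_⟩
    · intro h4
      apply one_ne_zero (α := F)
      linear_combination 80 * h4 - 17 * (80 + 1) * h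
    · have h' : (127 : K) = 0 := by
        have := congrArg f h
        rwa [map_ofNat, map_zero] at this
      have := three hζ h' hk
      rwa [← map_ofNat f 3] at this
  · refine ⟨2, ?_, fun k hk => ?_⟩
    · intro h4
      apply h
      linear_combination h4
    · have h2' : (2 : K) ≠ 0 := by
        rw [← map_ofNat f 2]
        exact (_root_.map_ne_zero f).2 h2
      have h3' : (3 : K) ≠ 0 := by
        rw [← map_ofNat f 3]
        exact (_root_.map_ne_zero f).2 h3
      have := two hζ h2' h3' hk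
      rwa [← map_ofNat f 2] at this

end Cfsg.Agent.H917.Tor7
end

-- part: H917/OmL27c
section
/-!
# `PSL₂(7)` in `Ω₈⁻(q)`, `p ≥ 5`: the torus element (helper917, row S5827)
-/

set_option autoImplicit false
set_option linter.unusedSectionVars false

namespace Cfsg.Agent.H917.L27

open Cfsg Cfsg.Geo Matrix Module
open Cfsg.Agent.H917.Om Cfsg.Agent.H637.JW Cfsg.Agent.H917.Form3
open Cfsg.Agent.H24.Om (tau uu weights_l27 no_borel_fixed four_ne_zero' uu_pow)
open Cfsg.Agent.H917.SL7 (ux dt NN ell pt)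

universe u v w

section units

variable {F : Type u} [Field F] {a : F} (ha : a ^ 7 ≠ 1)

include ha in
/-- `a - X` is invertible if `X ^ 7 = 1` -/
theorem isUnit_sub {X : Matrix (Fin 8) (Fin 8) F} (hX : X ^ 7 = 1) : IsUnit (a • (1 : Matrix (Fin 8) (Fin 8) F) - X) := by
  have hc : Commute (a • (1 : Matrix (Fin 8) (Fin 8) F)) X := (Commute.one_left X).smul_left a
  have h1 := hc.mul_geom_sum₂ 7
  rw [hX, smul_pow, one_pow] at h1
  have h2 : IsUnit (a ^ 7 • (1 : Matrix (Fin 8) (Fin 8) F) - 1) := by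
    have : a ^ 7 • (1 : Matrix (Fin 8) (Fin 8) F) - 1 = algebraMap F (Matrix (Fin 8) (Fin 8) F) (a ^ 7 - 1) := by
      rw [map_sub, map_one, Algebra.algebraMap_eq_smul_one]
    rw [this]
    exact (isUnit_iff_ne_zero.2 (sub_ne_zero.2 ha)).map _
  rw [← h1] at h2
  exact isUnit_of_mul_isUnit_left h2

end units

variable {F : Type u} [Field F] [Fintype F] (h : OC F T7)

/-- the matrix of the element of order seven -/
noncomputable def AA : Matrix (Fin 8) (Fin 8) F := (h.ρ uu : Matrix (Fin 8) (Fin 8) F)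

theorem AA_pow : AA h ^ 7 = 1 := by
  have h1 : (h.ρ uu) ^ 7 = 1 := by rw [← map_pow, uu_pow (ZMod.card 7), map_one]
  have h2 := congrArg (fun g : GL (Fin 8) F => (g : Matrix (Fin 8) (Fin 8) F)) h1
  simpa only [AA, _root_.Units.val_pow_eq_pow_val, _root_.Units.val_one] using h2

variable {a : F} (ha : a ^ 7 ≠ 1)

/-- `a - A ^ j` -/
noncomputable def R (j : ℕ) : GL (Fin 8) F :=
  (isUnit_sub ha (X := AA h ^ j) (by rw [← pow_mul, mul_comm, pow_mul, AA_pow, one_pow])).unit

theorem R_coe (j : ℕ) : (R h ha j : Matrix (Fin 8) (Fin 8) F) = a • 1 - AA h ^ j := IsUnit.unit_spec _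

theorem R_comm (i j : ℕ) : R h ha i * R h ha j = R h ha j * R h ha i := by
  apply Units.ext
  rw [Units.val_mul, Units.val_mul, R_coe, R_coe]
  have h1 : Commute (AA h ^ i) (AA h ^ j) := (Commute.refl _).pow_pow i j
  have h2 : Commute (a • (1 : Matrix (Fin 8) (Fin 8) F)) (AA h ^ j) := (Commute.one_left _).smul_left a
  have h3 : Commute (AA h ^ i) (a • (1 : Matrix (Fin 8) (Fin 8) F)) := (Commute.one_right _).smul_right a
  have h4 : Commute (a • (1 : Matrix (Fin 8) (Fin 8) F)) (a • (1 : Matrix (Fin 8) (Fin 8) F)) := Commute.refl _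
  exact ((h4.sub_right h2).sub_left (h3.sub_right h1)).eq

theorem R_uu (j : ℕ) : R h ha j * h.ρ uu = h.ρ uu * R h ha j := by
  apply Units.ext
  rw [Units.val_mul, Units.val_mul, R_coe]
  have h1 : Commute (AA h ^ j) (AA h) := (Commute.refl (AA h)).pow_left j
  have h2 : Commute (a • (1 : Matrix (Fin 8) (Fin 8) F)) (AA h) := (Commute.one_left _).smul_left a
  exact (h2.sub_left h1).eq

/-- the torus element -/
noncomputable def tt : GL (Fin 8) F := R h ha 4 * R h ha 6 * (R h ha 3 * R h ha 1)⁻¹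

theorem tt_mul : tt h ha * (R h ha 3 * R h ha 1) = R h ha 4 * R h ha 6 := by
  rw [tt, inv_mul_cancel_right]

theorem tt_uu : tt h ha * h.ρ uu = h.ρ uu * tt h ha := by
  have c : ∀ j, Commute (R h ha j) (h.ρ uu) := fun j => R_uu h ha j
  exact (((c 4).mul_left (c 6)).mul_left (((c 3).mul_left (c 1)).inv_left)).eq

/-! ### Isometry -/

theorem polar_A (x y : Fin 8 → F) : QuadraticMap.polar h.Q (AA h *ᵥ x) (AA h *ᵥ y) = QuadraticMap.polar h.Q x y := by
  unfold QuadraticMap.polar AA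
  rw [← Matrix.mulVec_add, h.fixQ, h.fixQ, h.fixQ]

theorem polar_Apow (j : ℕ) (x y : Fin 8 → F) :
    QuadraticMap.polar h.Q (AA h ^ j *ᵥ x) (AA h ^ j *ᵥ y) = QuadraticMap.polar h.Q x y := by
  induction j with
  | zero => simp
  | succ j ih => rw [pow_succ', ← Matrix.mulVec_mulVec, ← Matrix.mulVec_mulVec, polar_A, ih]

theorem polar_adj {i j : ℕ} (hij : i + j = 7) (x y : Fin 8 → F) :
    QuadraticMap.polar h.Q (AA h ^ i *ᵥ x) y = QuadraticMap.polar h.Q x (AA h ^ j *ᵥ y) := by
  rw [← polar_Apow h j (AA h ^ i *ᵥ x) y, Matrix.mulVec_mulVec, ← pow_add, add_comm j i, hij, AA_pow, Matrix.one_mulVec]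

theorem polar_R {i j : ℕ} (hij : i + j = 7) (x y : Fin 8 → F) :
    QuadraticMap.polar h.Q ((R h ha i : Matrix (Fin 8) (Fin 8) F) *ᵥ x) y =
      QuadraticMap.polar h.Q x ((R h ha j : Matrix (Fin 8) (Fin 8) F) *ᵥ y) := by
  have hb := h.nd.polar_bilinear
  have e1 : (R h ha i : Matrix (Fin 8) (Fin 8) F) *ᵥ x = a • x + (-1 : F) • (AA h ^ i *ᵥ x) := by
    rw [R_coe, Matrix.sub_mulVec, Matrix.smul_mulVec, Matrix.one_mulVec, neg_one_smul, sub_eq_add_neg]
  have e2 : (R h ha j : Matrix (Fin 8) (Fin 8) F) *ᵥ y = a • y + (-1 : F) • (AA h ^ j *ᵥ y) := by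
    rw [R_coe, Matrix.sub_mulVec, Matrix.smul_mulVec, Matrix.one_mulVec, neg_one_smul, sub_eq_add_neg]
  rw [e1, e2, hb.add_left, hb.smul_left, hb.smul_left, hb.add_right, hb.smul_right, hb.smul_right, polar_adj h hij]

theorem polar_tt (x y : Fin 8 → F) :
    QuadraticMap.polar h.Q ((tt h ha : Matrix (Fin 8) (Fin 8) F) *ᵥ x) ((tt h ha : Matrix (Fin 8) (Fin 8) F) *ᵥ y) =
      QuadraticMap.polar h.Q x y := by
  set P : GL (Fin 8) F := R h ha 3 * R h ha 1 with hP
  obtain ⟨x', rfl⟩ : ∃ x', x = (P : Matrix (Fin 8) (Fin 8) F) *ᵥ x' := ⟨((P⁻¹ : GL (Fin 8) F) : Matrix (Fin 8) (Fin 8) F) *ᵥ x, by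
    rw [Matrix.mulVec_mulVec, ← Units.val_mul, mul_inv_cancel, Units.val_one, Matrix.one_mulVec]⟩
  obtain ⟨y', rfl⟩ : ∃ y', y = (P : Matrix (Fin 8) (Fin 8) F) *ᵥ y' := ⟨((P⁻¹ : GL (Fin 8) F) : Matrix (Fin 8) (Fin 8) F) *ᵥ y, by
    rw [Matrix.mulVec_mulVec, ← Units.val_mul, mul_inv_cancel, Units.val_one, Matrix.one_mulVec]⟩
  rw [Matrix.mulVec_mulVec, Matrix.mulVec_mulVec, ← Units.val_mul, hP, tt_mul]
  simp only [Units.val_mul, ← Matrix.mulVec_mulVec]
  rw [polar_R h ha (i := 4) (j := 3) rfl, polar_R h ha (i := 6) (j := 1) rfl, polar_R h ha (i := 3) (j := 4) rfl,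
    polar_R h ha (i := 1) (j := 6) rfl]
  simp only [Matrix.mulVec_mulVec, ← Units.val_mul]
  congr 3
  rw [show R h ha 1 * (R h ha 3 * (R h ha 4 * R h ha 6)) = (R h ha 1 * R h ha 3) * (R h ha 4 * R h ha 6) by group]
  have c : ∀ i j, Commute (R h ha i) (R h ha j) := fun i j => R_comm h ha i j
  rw [show R h ha 6 * (R h ha 4 * (R h ha 3 * R h ha 1)) = (R h ha 6 * R h ha 4) * (R h ha 3 * R h ha 1) by group,
    (c 1 3).eq, (c 6 4).eq]
  exact (((c 3 4).mul_right (c 3 6)).mul_left ((c 1 4).mul_right (c 1 6))).eq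

/-- `t²` lies in `Ω(Q)`. -/
theorem tt_sq_mem (h2 : (2 : F) ≠ 0) : tt h ha * tt h ha ∈ omegaGL h.Q := by
  have hiso : ∀ x, h.Q ((tt h ha : Matrix (Fin 8) (Fin 8) F) *ᵥ x) = h.Q x := by
    intro x
    have h1 := polar_tt h ha x x
    have h3 : ∀ z, QuadraticMap.polar h.Q z z = 2 * h.Q z := by
      intro z
      have h4 := QuadraticMap.polar_self (H925.qf h.nd) z
      rw [two_nsmul, ← two_mul] at h4
      exact h4
    rw [h3, h3] at h1
    exact mul_left_cancel₀ h2 h1
  have hmem : tt h ha ∈ isometryGroup F h.Q := (ClassicalGeometry.Reflection.mem_isometryGroup_iff _ _).2 hiso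
  have hnd : (QuadraticMap.polarBilin (H925.qf h.nd)).Nondegenerate := by
    refine H932.nondegenerate_polarBilin ?_
    intro x hx
    by_contra h0
    obtain ⟨-, y, hxy⟩ := h.nd.nondegenerate x h0
    exact hxy (hx y)
  exact ⟨_, ClassicalGeometry.SiegelGen.mul_self_mem_commutator h2 (H925.qf h.nd) hnd ⟨tt h ha, hmem⟩, rfl⟩

end Cfsg.Agent.H917.L27
end

-- part: H917/OmL27d
section
/-!
# `PSL₂(7)` in `Ω₈⁻(q)`, `p ≥ 5`: the torus element fixes the 3-form (helper917, row S5827)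
-/

set_option autoImplicit false
set_option linter.unusedSectionVars false

namespace Cfsg.Agent.H917.L27

open Cfsg Cfsg.Geo Matrix Module
open Cfsg.Agent.H917.Om Cfsg.Agent.H637.JW Cfsg.Agent.H917.Form3
open Cfsg.Agent.H24.Om (tau uu weights_l27 no_borel_fixed four_ne_zero' uu_pow)
open Cfsg.Agent.H917.SL7 (ux dt NN ell pt)

universe u v w

variable {F : Type u} [Field F] [Fintype F] (h : OC F T7) {a : F} (ha : a ^ 7 ≠ 1)

/-- the image of `a` -/
local notation "al" => algebraMap F (AlgebraicClosure F)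

theorem ac_R {z : AlgebraicClosure F} {v : Fin 8 → AlgebraicClosure F} (hv : h.σ uu v = z • v) (j : ℕ) :
    ac (R h ha j) v = (al a - z ^ j) • v := by
  have h1 : ∀ j : ℕ, ((AA h ^ j).map al) *ᵥ v = z ^ j • v := by
    intro j
    induction j with
    | zero => rw [pow_zero, pow_zero, Matrix.map_one _ (map_zero _) (map_one _), Matrix.one_mulVec, one_smul]
    | succ j ih =>
      have e : (AA h ^ (j + 1)).map al = (AA h ^ j).map al * (AA h).map al := by
        rw [pow_succ, Matrix.map_mul]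
      rw [e, ← Matrix.mulVec_mulVec, show (AA h).map al *ᵥ v = h.σ uu v from rfl, hv, Matrix.mulVec_smul, ih, smul_smul,
        pow_succ, mul_comm]
  rw [ac_apply, R_coe]
  have e : (a • (1 : Matrix (Fin 8) (Fin 8) F) - AA h ^ j).map al = al a • 1 - (AA h ^ j).map al := by
    ext i k
    rw [Matrix.map_apply, Matrix.sub_apply, Matrix.sub_apply, Matrix.map_apply, map_sub, Matrix.smul_apply,
      Matrix.smul_apply, smul_eq_mul, smul_eq_mul, map_mul, Matrix.one_apply, Matrix.one_apply]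
    congr 2
    split_ifs
    · exact map_one _
    · exact map_zero _
  rw [e, Matrix.sub_mulVec, Matrix.smul_mulVec, Matrix.one_mulVec, h1, sub_smul]

/-- the eigenvalue function -/
noncomputable def cc (a : F) (z : AlgebraicClosure F) : AlgebraicClosure F :=
  (al a - z ^ 4) * (al a - z ^ 6) / ((al a - z ^ 3) * (al a - z))

include ha in
theorem sub_ne {z : AlgebraicClosure F} (hz : z ^ 7 = 1) : al a - z ≠ 0 := by
  intro h0
  apply ha
  have h1 : al a = z := sub_eq_zero.1 h0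
  have h2 : al (a ^ 7) = al 1 := by rw [map_pow, h1, hz, map_one]
  exact (algebraMap F (AlgebraicClosure F)).injective h2

theorem ac_tt {z : AlgebraicClosure F} (hz : z ^ 7 = 1) {v : Fin 8 → AlgebraicClosure F} (hv : h.σ uu v = z • v) :
    ac (tt h ha) v = cc a z • v := by
  have hpow : ∀ j : ℕ, (z ^ j) ^ 7 = 1 := fun j => by rw [← pow_mul, mul_comm, pow_mul, hz, one_pow]
  have n3 := sub_ne ha (hpow 3)
  have n1 := sub_ne ha hz
  have h1 : ac (R h ha 3 * R h ha 1) v = ((al a - z ^ 3) * (al a - z)) • v := by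
    rw [map_mul, Module.End.mul_apply, ac_R h ha hv, map_smul, ac_R h ha hv, smul_smul, pow_one, mul_comm]
  have h2 : ac (R h ha 4 * R h ha 6) v = ((al a - z ^ 4) * (al a - z ^ 6)) • v := by
    rw [map_mul, Module.End.mul_apply, ac_R h ha hv, map_smul, ac_R h ha hv, smul_smul, mul_comm]
  rw [← tt_mul h ha, map_mul, Module.End.mul_apply, h1, map_smul] at h2
  have h3 : ((al a - z ^ 3) * (al a - z)) ≠ 0 := mul_ne_zero n3 n1
  calc ac (tt h ha) v = (((al a - z ^ 3) * (al a - z))⁻¹ * ((al a - z ^ 3) * (al a - z))) • ac (tt h ha) v := by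
        rw [inv_mul_cancel₀ h3, one_smul]
    _ = cc a z • v := by
        rw [mul_smul, h2, smul_smul, cc, div_eq_mul_inv, mul_comm]

include ha in
theorem cc_one : cc a (1 : AlgebraicClosure F) = 1 := by
  have n1 := sub_ne ha (one_pow (M := AlgebraicClosure F) 7)
  unfold cc
  rw [one_pow, one_pow, one_pow]
  exact div_self (mul_ne_zero n1 n1)

include ha in
theorem cc_inv {z : AlgebraicClosure F} (hz : z ^ 7 = 1) : cc a z * cc a (z ^ 6) = 1 := by
  have hpow : ∀ j : ℕ, (z ^ j) ^ 7 = 1 := fun j => by rw [← pow_mul, mul_comm, pow_mul, hz, one_pow]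
  have n1 := sub_ne ha hz
  have n3 := sub_ne ha (hpow 3)
  have n4 := sub_ne ha (hpow 4)
  have n6 := sub_ne ha (hpow 6)
  unfold cc
  have e1 : (z ^ 6) ^ 4 = z ^ 3 := by
    rw [← pow_mul, show 6 * 4 = 7 * 3 + 3 from rfl, pow_add, pow_mul, hz, one_pow, one_mul]
  have e2 : (z ^ 6) ^ 6 = z := by
    rw [← pow_mul, show 6 * 6 = 7 * 5 + 1 from rfl, pow_add, pow_mul, hz, one_pow, one_mul, pow_one]
  have e3 : (z ^ 6) ^ 3 = z ^ 4 := by
    rw [← pow_mul, show 6 * 3 = 7 * 2 + 4 from rfl, pow_add, pow_mul, hz, one_pow, one_mul]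
  rw [e1, e2, e3]
  field_simp

include ha in
theorem cc_tri {z : AlgebraicClosure F} (hz : z ^ 7 = 1) : cc a z * cc a (z ^ 2) * cc a (z ^ 4) = 1 := by
  have hpow : ∀ j : ℕ, (z ^ j) ^ 7 = 1 := fun j => by rw [← pow_mul, mul_comm, pow_mul, hz, one_pow]
  have n1 := sub_ne ha hz
  have n2 := sub_ne ha (hpow 2)
  have n3 := sub_ne ha (hpow 3)
  have n4 := sub_ne ha (hpow 4)
  have n5 := sub_ne ha (hpow 5)
  have n6 := sub_ne ha (hpow 6)
  unfold cc
  have e1 : (z ^ 2) ^ 4 = z := by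
    rw [← pow_mul, show 2 * 4 = 7 * 1 + 1 from rfl, pow_add, pow_mul, hz, one_pow, one_mul, pow_one]
  have e2 : (z ^ 2) ^ 6 = z ^ 5 := by
    rw [← pow_mul, show 2 * 6 = 7 * 1 + 5 from rfl, pow_add, pow_mul, hz, one_pow, one_mul]
  have e3 : (z ^ 2) ^ 3 = z ^ 6 := by rw [← pow_mul]
  have e4 : (z ^ 4) ^ 4 = z ^ 2 := by
    rw [← pow_mul, show 4 * 4 = 7 * 2 + 2 from rfl, pow_add, pow_mul, hz, one_pow, one_mul]
  have e5 : (z ^ 4) ^ 6 = z ^ 3 := by
    rw [← pow_mul, show 4 * 6 = 7 * 3 + 3 from rfl, pow_add, pow_mul, hz, one_pow, one_mul]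
  have e6 : (z ^ 4) ^ 3 = z ^ 5 := by
    rw [← pow_mul, show 4 * 3 = 7 * 1 + 5 from rfl, pow_add, pow_mul, hz, one_pow, one_mul]
  rw [e1, e2, e3, e4, e5, e6]
  field_simp

theorem cases7 : ∀ n1 n2 n3 : ZMod 7, n1 + n2 + n3 = 0 → (n1 = n2 → n1 = 0) → (n1 = n3 → n1 = 0) → (n2 = n3 → n2 = 0) →
    (n1 = 0 ∧ n3 = 6 * n2) ∨ (n2 = 0 ∧ n3 = 6 * n1) ∨ (n3 = 0 ∧ n2 = 6 * n1) ∨ (n2 = 2 * n1 ∧ n3 = 4 * n1) ∨
      (n3 = 2 * n1 ∧ n2 = 4 * n1) := by decide +kernel

/-- **The torus element fixes the 3-form.** -/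
theorem form_tt (h7 : (7 : F) ≠ 0) {f : A3 F} (hf : ∀ t, f.compLinearMap (h.σ t) = f) :
    f.compLinearMap (ac (tt h ha)) = f := by
  classical
  have h7' : ((7 : ℕ) : AlgebraicClosure F) ≠ 0 := H24.Om.cast_ne_zero (by exact_mod_cast h7)
  obtain ⟨ζ, hζ⟩ := exists_root (K := AlgebraicClosure F) (N := 7) h7'
  have hζ7 := hζ.pow_eq_one
  obtain ⟨hW1, -⟩ := weights_l27 (ZMod.card 7) h h7 hζ
  let x : Fin 1 → T7 := ![uu]
  have hc : ∀ j k, h.σ (x j) * h.σ (x k) = h.σ (x k) * h.σ (x j) := by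
    intro j k
    rw [Subsingleton.elim j k]
  have hp : ∀ k, h.σ (x k) ^ 7 = 1 := by
    intro k
    rw [← map_pow, Subsingleton.elim k 0, show x 0 = uu from rfl, uu_pow (ZMod.card 7), map_one]
  have hint : DirectSum.IsInternal (W 7 ζ (fun k => h.σ (x k))) :=
    (DirectSum.isInternal_submodule_iff_iSupIndep_and_iSup_eq_top _).2 ⟨indep_W h7' hζ hc hp, iSup_W h7' hζ hc hp⟩
  let b := hint.collectedBasis fun c => Module.finBasis (AlgebraicClosure F) (W 7 ζ (fun k => h.σ (x k)) c)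
  have hb : ∀ i, h.σ uu (b i) = ζ ^ (i.1 0).val • b i := by
    intro i
    have h1 := hint.collectedBasis_mem (fun c => Module.finBasis (AlgebraicClosure F) (W 7 ζ (fun k => h.σ (x k)) c)) i
    exact mem_W.1 h1 0
  have hz7 : ∀ n : ZMod 7, (ζ ^ n.val) ^ 7 = 1 := fun n => by rw [← pow_mul, mul_comm, pow_mul, hζ7, one_pow]
  have hzk : ∀ (k : ℕ) (n : ZMod 7), ζ ^ ((k : ZMod 7) * n).val = (ζ ^ n.val) ^ k := by
    intro k n
    rw [ZMod.val_mul, ← pow_mul, pow_mod_of_pow_eq_one hζ7, ZMod.val_natCast, mul_comm n.val k]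
    conv_lhs => rw [pow_mul, pow_mod_of_pow_eq_one hζ7, ← pow_mul]
  refine Basis.ext_alternating b fun v hv => ?_
  have e1 : (fun i => b (v i)) = ![b (v 0), b (v 1), b (v 2)] := by
    funext i
    fin_cases i <;> rfl
  rw [e1]
  have comp3 : ∀ (g : Module.End (AlgebraicClosure F) (Fin 8 → AlgebraicClosure F)) (c0 c1 c2 : AlgebraicClosure F),
      g (b (v 0)) = c0 • b (v 0) → g (b (v 1)) = c1 • b (v 1) → g (b (v 2)) = c2 • b (v 2) →
      f.compLinearMap g ![b (v 0), b (v 1), b (v 2)] = c0 * c1 * c2 * f ![b (v 0), b (v 1), b (v 2)] := by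
    intro g c0 c1 c2 g0 g1 g2
    rw [← SL7.lam_smul f, AlternatingMap.compLinearMap_apply]
    congr 1
    funext i
    fin_cases i
    · exact g0
    · exact g1
    · exact g2
  set n0 := (v 0).1 0
  set n1 := (v 1).1 0
  set n2 := (v 2).1 0
  rw [comp3 _ _ _ _ (ac_tt h ha (hz7 n0) (hb _)) (ac_tt h ha (hz7 n1) (hb _)) (ac_tt h ha (hz7 n2) (hb _))]
  have h1 := comp3 _ _ _ _ (hb (v 0)) (hb (v 1)) (hb (v 2))
  rw [hf] at h1
  by_cases hf0 : f ![b (v 0), b (v 1), b (v 2)] = 0
  · rw [hf0, mul_zero]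
  have h2 : ζ ^ n0.val * ζ ^ n1.val * ζ ^ n2.val = 1 := by
    have h3 : (ζ ^ n0.val * ζ ^ n1.val * ζ ^ n2.val - 1) * f ![b (v 0), b (v 1), b (v 2)] = 0 := by
      linear_combination -h1
    exact sub_eq_zero.1 ((mul_eq_zero.1 h3).resolve_right hf0)
  have hsum : n0 + n1 + n2 = 0 := by
    rw [← pow_val_add hζ7, ← pow_val_add hζ7] at h2
    have h3 := hζ.pow_inj (ZMod.val_lt (n0 + n1 + n2)) (NeZero.pos 7) (by rw [h2, pow_zero])
    exact (ZMod.val_eq_zero _).1 h3
  -- equal weights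
  have heq : ∀ i j, v i ≠ v j → (v i).1 0 = (v j).1 0 → (v i).1 0 = 0 := by
    intro i j hij hw
    by_contra hne
    apply hij
    have hfst : (v i).1 = (v j).1 := by
      funext k
      rw [Subsingleton.elim k 0, hw]
    have hone : finrank (AlgebraicClosure F) (W 7 ζ (fun k => h.σ (x k)) (v j).1) = 1 := by
      have h4 := hW1 ((v j).1 0) (hw ▸ hne)
      rwa [show ![(v j).1 0] = (v j).1 from by funext k; rw [Subsingleton.elim k 0]; rfl] at h4
    have hss : Subsingleton (Fin (finrank (AlgebraicClosure F) (W 7 ζ (fun k => h.σ (x k)) (v j).1))) := by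
      rw [hone]; infer_instance
    generalize v i = p at *
    generalize v j = q at *
    obtain ⟨p1, p2⟩ := p
    obtain ⟨q1, q2⟩ := q
    simp only at hfst
    subst hfst
    congr 1
    exact Subsingleton.elim _ _
  have d01 : v 0 ≠ v 1 := fun h => absurd (hv h) (by decide)
  have d02 : v 0 ≠ v 2 := fun h => absurd (hv h) (by decide)
  have d12 : v 1 ≠ v 2 := fun h => absurd (hv h) (by decide)
  have key : cc a (ζ ^ n0.val) * cc a (ζ ^ n1.val) * cc a (ζ ^ n2.val) = 1 := by
    rcases cases7 n0 n1 n2 hsum (heq 0 1 d01) (heq 0 2 d02) (heq 1 2 d12) with ⟨a1, a2⟩ | ⟨a1, a2⟩ | ⟨a1, a2⟩ |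
      ⟨a1, a2⟩ | ⟨a1, a2⟩
    · rw [a1, a2, ZMod.val_zero, pow_zero, cc_one ha, one_mul, show (6 : ZMod 7) = ((6 : ℕ) : ZMod 7) from rfl, hzk]
      exact cc_inv ha (hz7 _)
    · rw [a1, a2, ZMod.val_zero, pow_zero, cc_one ha, mul_one, show (6 : ZMod 7) = ((6 : ℕ) : ZMod 7) from rfl, hzk]
      exact cc_inv ha (hz7 _)
    · rw [a1, a2, ZMod.val_zero, pow_zero, cc_one ha, mul_one, show (6 : ZMod 7) = ((6 : ℕ) : ZMod 7) from rfl, hzk]
      exact cc_inv ha (hz7 _)
    · rw [a1, a2, show (2 : ZMod 7) = ((2 : ℕ) : ZMod 7) from rfl, show (4 : ZMod 7) = ((4 : ℕ) : ZMod 7) from rfl, hzk, hzk]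
      exact cc_tri ha (hz7 _)
    · rw [a1, a2, show (2 : ZMod 7) = ((2 : ℕ) : ZMod 7) from rfl, show (4 : ZMod 7) = ((4 : ℕ) : ZMod 7) from rfl, hzk, hzk,
        mul_assoc, mul_comm (cc a _) (cc a _), ← mul_assoc]
      exact cc_tri ha (hz7 _)
  rw [key, one_mul]

end Cfsg.Agent.H917.L27
end

-- part: H917/OmL27e
section
/-!
# `PSL₂(7)` in `Ω₈⁻(q)`, `p ≥ 5`: conclusion (helper917, row S5827)

* `rigid` : a hom `PSL₂(7) → PSL₂(7)` fixing an element of order seven is conjugation by a power of it;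
* `no_l27` : `PSL₂(7)` is not the core of a maximal subgroup of `Ω₈⁻(q)`, `p ≠ 2, 3, 7`.
-/

set_option autoImplicit false
set_option linter.unusedSectionVars false

namespace Cfsg.Agent.H917.L27

open Cfsg Cfsg.Geo Matrix Module
open Cfsg.Agent.H917.Om Cfsg.Agent.H637.JW Cfsg.Agent.H917.Form3
open Cfsg.Agent.H24.Om (tau uu weights_l27 no_borel_fixed four_ne_zero' uu_pow)
open Cfsg.Agent.H917.SL7 (ux dt NN ell pt)

universe u v w

/-! ### Rigidity -/

abbrev mk7 : SL7.Γ →* T7 := QuotientGroup.mk' (Subgroup.center SL7.Γ)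

/-- equality modulo the centre -/
theorem eq_of_mk {x y : SL7.Γ} (hxy : mk7 x = mk7 y) : ∃ ε : ZMod 7, ε * ε = 1 ∧
    ∀ i j, (x : Matrix (Fin 2) (Fin 2) (ZMod 7)) i j = ε * (y : Matrix (Fin 2) (Fin 2) (ZMod 7)) i j := by
  have h1 : y⁻¹ * x ∈ Subgroup.center SL7.Γ := QuotientGroup.eq.1 hxy.symm
  rw [Matrix.SpecialLinearGroup.mem_center_iff] at h1
  obtain ⟨r, hr, hr2⟩ := h1
  rw [Fintype.card_fin, pow_two] at hr
  refine ⟨r, hr, fun i j => ?_⟩
  have h2 : (x : Matrix (Fin 2) (Fin 2) (ZMod 7)) = (y : Matrix (Fin 2) (Fin 2) (ZMod 7)) * Matrix.scalar (Fin 2) r := by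
    rw [hr2, ← Matrix.SpecialLinearGroup.coe_mul, mul_inv_cancel_left]
  rw [h2, Matrix.scalar_apply, Matrix.mul_diagonal, mul_comm]

theorem mk_eq_of {x y : SL7.Γ} {ε : ZMod 7} (hε : ε * ε = 1)
    (hxy : ∀ i j, (x : Matrix (Fin 2) (Fin 2) (ZMod 7)) i j = ε * (y : Matrix (Fin 2) (Fin 2) (ZMod 7)) i j) :
    mk7 x = mk7 y := by
  refine (QuotientGroup.eq.2 ?_).symm
  rw [Matrix.SpecialLinearGroup.mem_center_iff]
  refine ⟨ε, by rw [Fintype.card_fin, pow_two]; exact hε, ?_⟩
  have h2 : (x : Matrix (Fin 2) (Fin 2) (ZMod 7)) = (y : Matrix (Fin 2) (Fin 2) (ZMod 7)) * Matrix.scalar (Fin 2) ε := by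
    ext i j
    rw [Matrix.scalar_apply, Matrix.mul_diagonal, mul_comm]
    exact hxy i j
  rw [Matrix.SpecialLinearGroup.coe_mul, h2, ← mul_assoc, ← Matrix.SpecialLinearGroup.coe_mul, inv_mul_cancel,
    Matrix.SpecialLinearGroup.coe_one, one_mul]

theorem seven0 : (7 : ZMod 7) = 0 := rfl

theorem arith1 : ∀ ε r s : ZMod 7, ε * ε = 1 → r = ε * r → r + s = ε * s → (r = 0 ∧ (s = 0 ∨ ε = 1)) := by decide +kernel

theorem arith2 : ∀ p s : ZMod 7, p = 2 * s → p * s = 1 → (p = 4 ∧ s = 2) ∨ (p = 3 ∧ s = 5) := by decide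

/-- the image of the torus element -/
theorem image_s {x : SL7.Γ} (hx : mk7 (x * ux 1) = mk7 (ux 2 * x)) : ∃ y : ZMod 7, mk7 x = mk7 (dt 4 z4 * ux y) := by
  obtain ⟨ε, hε, he⟩ := eq_of_mk hx
  have hd := x.2
  rw [Matrix.det_fin_two] at hd
  set p := (x : Matrix (Fin 2) (Fin 2) (ZMod 7)) 0 0
  set q := (x : Matrix (Fin 2) (Fin 2) (ZMod 7)) 0 1
  set r := (x : Matrix (Fin 2) (Fin 2) (ZMod 7)) 1 0
  set s := (x : Matrix (Fin 2) (Fin 2) (ZMod 7)) 1 1
  have e00 : p * 1 + q * 0 = ε * (1 * p + 2 * r) := by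
    have := he 0 0
    rwa [Matrix.SpecialLinearGroup.coe_mul, Matrix.SpecialLinearGroup.coe_mul, Matrix.mul_apply, Matrix.mul_apply,
      Fin.sum_univ_two, Fin.sum_univ_two] at this
  have e01 : p * 1 + q * 1 = ε * (1 * q + 2 * s) := by
    have := he 0 1
    rwa [Matrix.SpecialLinearGroup.coe_mul, Matrix.SpecialLinearGroup.coe_mul, Matrix.mul_apply, Matrix.mul_apply,
      Fin.sum_univ_two, Fin.sum_univ_two] at this
  have e10 : r * 1 + s * 0 = ε * (0 * p + 1 * r) := by
    have := he 1 0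
    rwa [Matrix.SpecialLinearGroup.coe_mul, Matrix.SpecialLinearGroup.coe_mul, Matrix.mul_apply, Matrix.mul_apply,
      Fin.sum_univ_two, Fin.sum_univ_two] at this
  have e11 : r * 1 + s * 1 = ε * (0 * q + 1 * s) := by
    have := he 1 1
    rwa [Matrix.SpecialLinearGroup.coe_mul, Matrix.SpecialLinearGroup.coe_mul, Matrix.mul_apply, Matrix.mul_apply,
      Fin.sum_univ_two, Fin.sum_univ_two] at this
  obtain ⟨hr, hs⟩ := arith1 ε r s hε (by linear_combination e10) (by linear_combination e11)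
  have hs1 : ε = 1 := by
    rcases hs with hs | hs
    · rw [hr, hs, mul_zero, mul_zero, sub_zero] at hd
      exact absurd hd (by decide)
    · exact hs
  rw [hs1] at e01
  rw [hr, mul_zero, sub_zero] at hd
  rcases arith2 p s (by linear_combination e01) hd with ⟨hp, hs'⟩ | ⟨hp, hs'⟩
  · refine ⟨2 * q, mk_eq_of (ε := 1) (by decide) fun i j => ?_⟩
    rw [one_mul, Matrix.SpecialLinearGroup.coe_mul, Matrix.mul_apply, Fin.sum_univ_two]
    fin_cases i <;> fin_cases j
    · change p = 4 * 1 + 0 * 0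
      rw [hp]; decide
    · change q = 4 * (2 * q) + 0 * 1
      linear_combination (-q) * seven0
    · change r = 0 * 1 + 2 * 0
      rw [hr]; decide
    · change s = 0 * (2 * q) + 2 * 1
      rw [hs']; ring
  · refine ⟨-(2 * q), mk_eq_of (ε := -1) (by decide) fun i j => ?_⟩
    rw [Matrix.SpecialLinearGroup.coe_mul, Matrix.mul_apply, Fin.sum_univ_two]
    fin_cases i <;> fin_cases j
    · change p = -1 * (4 * 1 + 0 * 0)
      rw [hp]; decide
    · change q = -1 * (4 * (-(2 * q)) + 0 * 1)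
      linear_combination (-q) * seven0
    · change r = -1 * (0 * 1 + 2 * 0)
      rw [hr]; decide
    · change s = -1 * (0 * (-(2 * q)) + 2 * 1)
      rw [hs']
      linear_combination seven0

theorem arith3a : ∀ q r t : ZMod 7, q * t = 0 → r * t = 0 → t = 0 ∨ (q = 0 ∧ r = 0) := by decide +kernel

theorem arith3b : ∀ p s : ZMod 7, p * s = 1 → p * p = s * s → 2 * (p * p) = 4 * (s * s) → False := by decide

theorem arith3c : ∀ p q r : ZMod 7, -(p * p) - q * r = 1 → q * p = 0 → r * p = 0 → p = 0 ∧ q * r = -1 := by decide +kernel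

theorem arith3 (p q r s : ZMod 7) (h1 : p * s - q * r = 1) (h2 : p * p + q * r = r * q + s * s) (h3 : q * (p + s) = 0)
    (h4 : r * (p + s) = 0) (h5 : (4 * p) * (4 * p) + (4 * q) * (2 * r) = (2 * r) * (4 * q) + (2 * s) * (2 * s))
    (h6 : (4 * q) * (4 * p + 2 * s) = 0) (h7 : (2 * r) * (4 * p + 2 * s) = 0) : p = 0 ∧ s = 0 ∧ q * r = -1 := by
  rcases arith3a q r (p + s) h3 h4 with h | ⟨hq, hr⟩
  · have hs : s = -p := eq_neg_of_add_eq_zero_right h
    subst hs
    obtain ⟨hp, hqr⟩ := arith3c p q r (by linear_combination h1) (by linear_combination h6 - q * p * seven0)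
      (by linear_combination 2 * h7 - r * p * seven0)
    exact ⟨hp, by rw [hp, neg_zero], hqr⟩
  · subst hq
    subst hr
    exact (arith3b p s (by linear_combination h1) (by linear_combination h2) (by linear_combination h5 - 2 * p * p * seven0)).elim

theorem arith5 : ∀ q r : ZMod 7, q * r = -1 → r * (r * r - 1) = 0 → r * r = 1 ∧ q = -r := by decide

/-- entries of the identity modulo the centre -/
theorem eq_of_mk_one {x : SL7.Γ} (hx : mk7 x = 1) :
    (x : Matrix (Fin 2) (Fin 2) (ZMod 7)) 0 0 = (x : Matrix (Fin 2) (Fin 2) (ZMod 7)) 1 1 ∧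
    (x : Matrix (Fin 2) (Fin 2) (ZMod 7)) 0 1 = 0 ∧ (x : Matrix (Fin 2) (Fin 2) (ZMod 7)) 1 0 = 0 := by
  rw [← map_one mk7] at hx
  obtain ⟨ε, -, he⟩ := eq_of_mk hx
  have h00 := he 0 0
  have h01 := he 0 1
  have h10 := he 1 0
  have h11 := he 1 1
  rw [Matrix.SpecialLinearGroup.coe_one] at h00 h01 h10 h11
  rw [h00, h01, h10, h11]
  simp

/-- the image of the Weyl element -/
theorem image_w {x : SL7.Γ} (h1 : mk7 (x * x) = 1) (h2 : mk7 ((dt 4 z4 * x) * (dt 4 z4 * x)) = 1)
    (h3 : mk7 ((ux 1 * x) * ((ux 1 * x) * (ux 1 * x))) = 1) : mk7 x = mk7 (NN 0) := by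
  have hd := x.2
  rw [Matrix.det_fin_two] at hd
  have e1 := eq_of_mk_one h1
  have e2 := eq_of_mk_one h2
  have e3 := eq_of_mk_one h3
  simp only [Matrix.SpecialLinearGroup.coe_mul, Matrix.mul_apply, Fin.sum_univ_two] at e1 e2 e3
  set p := (x : Matrix (Fin 2) (Fin 2) (ZMod 7)) 0 0
  set q := (x : Matrix (Fin 2) (Fin 2) (ZMod 7)) 0 1
  set r := (x : Matrix (Fin 2) (Fin 2) (ZMod 7)) 1 0
  set s := (x : Matrix (Fin 2) (Fin 2) (ZMod 7)) 1 1
  have d00 : ((dt 4 z4 : SL7.Γ) : Matrix (Fin 2) (Fin 2) (ZMod 7)) 0 0 = 4 := rfl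
  have d01 : ((dt 4 z4 : SL7.Γ) : Matrix (Fin 2) (Fin 2) (ZMod 7)) 0 1 = 0 := rfl
  have d10 : ((dt 4 z4 : SL7.Γ) : Matrix (Fin 2) (Fin 2) (ZMod 7)) 1 0 = 0 := rfl
  have d11 : ((dt 4 z4 : SL7.Γ) : Matrix (Fin 2) (Fin 2) (ZMod 7)) 1 1 = 2 := rfl
  have u00 : ((ux 1 : SL7.Γ) : Matrix (Fin 2) (Fin 2) (ZMod 7)) 0 0 = 1 := rfl
  have u01 : ((ux 1 : SL7.Γ) : Matrix (Fin 2) (Fin 2) (ZMod 7)) 0 1 = 1 := rfl
  have u10 : ((ux 1 : SL7.Γ) : Matrix (Fin 2) (Fin 2) (ZMod 7)) 1 0 = 0 := rfl
  have u11 : ((ux 1 : SL7.Γ) : Matrix (Fin 2) (Fin 2) (ZMod 7)) 1 1 = 1 := rfl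
  simp only [d00, d01, d10, d11] at e2
  simp only [u00, u01, u10, u11] at e3
  obtain ⟨hp, hs, hqr⟩ := arith3 p q r s hd (by linear_combination e1.1) (by linear_combination e1.2.1)
    (by linear_combination e1.2.2) (by linear_combination e2.1) (by linear_combination e2.2.1)
    (by linear_combination e2.2.2)
  have h4 := e3.2.2
  obtain ⟨hr, hq⟩ := arith5 q r hqr (by rw [hp, hs] at h4; linear_combination h4 - r * hqr)
  refine mk_eq_of (ε := r) hr fun i j => ?_
  fin_cases i <;> fin_cases j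
  · change p = r * 0
    rw [hp, mul_zero]
  · change q = r * -1
    rw [hq]; ring
  · change r = r * 1
    rw [mul_one]
  · change s = r * 0
    rw [hs, mul_zero]

theorem g1 : ∀ y : ZMod 7, ux (2 * y) * (dt 4 z4 * ux y) = dt 4 z4 * ux (2 * y) := by decide +kernel
theorem g2 : ∀ y : ZMod 7, ux y * ux 1 = ux 1 * ux y := by decide +kernel
theorem g3 : NN 0 * NN 0 = dt 6 z6 := by decide
theorem g4 : (dt 4 z4 * NN 0) * (dt 4 z4 * NN 0) = dt 6 z6 := by decide
theorem g5 : (ux 1 * NN 0) * ((ux 1 * NN 0) * (ux 1 * NN 0)) = dt 6 z6 := by decide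
theorem g6 : ∀ i : Fin 8, i ≠ 7 → NN i = ux (pt i).1 * NN 0 := by decide +kernel
theorem g7 : NN 7 = 1 := by decide
theorem g8 : dt 4 z4 * ux 1 = ux 2 * dt 4 z4 := by decide

theorem mk_six : mk7 (dt 6 z6) = 1 := by
  refine (QuotientGroup.eq_one_iff _).2 ?_
  rw [dt_eq]
  exact H24.Om.dg_neg_one_mem

theorem uu_eq : (uu : T7) = mk7 (ux 1) := rfl

theorem mk_ux (y : ZMod 7) : mk7 (ux y) = uu ^ y.val := by
  rw [uu_eq, ← map_pow]
  congr 1
  rw [ux_eq, ux_eq, H24.Om.ut_pow, mul_one, ZMod.natCast_val, ZMod.cast_id]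

/-- **Rigidity**: a homomorphism fixing the element of order seven is conjugation by a power of it. -/
theorem rigid (ψ : T7 →* T7) (hu : ψ uu = uu) : ∃ k : ℕ, ∀ g, uu ^ k * ψ g * (uu ^ k)⁻¹ = g := by
  obtain ⟨x, hx⟩ := QuotientGroup.mk_surjective (ψ (mk7 (dt 4 z4)))
  have hx : mk7 x = ψ (mk7 (dt 4 z4)) := hx
  obtain ⟨y, hy⟩ := image_s (x := x) (by
    have h2 : mk7 (ux 2) = uu ^ 2 := mk_ux 2
    rw [map_mul, map_mul, hx, ← uu_eq, h2, ← hu, ← map_pow, ← map_mul, ← map_mul]
    congr 1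
    rw [← h2, uu_eq, ← map_mul, ← map_mul, g8])
  refine ⟨(2 * y).val, ?_⟩
  rw [← mk_ux]
  set c := mk7 (ux (2 * y)) with hc
  let ψ' : T7 →* T7 := (MulAut.conj c).toMonoidHom.comp ψ
  have hψ : ∀ g, ψ' g = c * ψ g * c⁻¹ := fun g => rfl
  change ∀ g, ψ' g = g
  have hu' : ψ' uu = uu := by
    rw [hψ, hu, hc, uu_eq, ← map_mul, g2, map_mul, mul_inv_cancel_right]
  have hs' : ψ' (mk7 (dt 4 z4)) = mk7 (dt 4 z4) := by
    rw [hψ, ← hx, hy, hc, ← map_mul, g1, map_mul, mul_inv_cancel_right]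
  have hw' : ψ' (mk7 (NN 0)) = mk7 (NN 0) := by
    obtain ⟨x', hx'⟩ := QuotientGroup.mk_surjective (ψ' (mk7 (NN 0)))
    have hx' : mk7 x' = ψ' (mk7 (NN 0)) := hx'
    rw [← hx']
    apply image_w
    · rw [map_mul, hx', ← map_mul, ← map_mul, g3, mk_six, map_one]
    · rw [map_mul, map_mul, hx', ← hs', ← map_mul, ← map_mul, ← map_mul, ← map_mul, g4, mk_six, map_one]
    · have e : mk7 (ux 1 * x') = ψ' (mk7 (ux 1 * NN 0)) := by
        rw [map_mul, map_mul, map_mul, hx', ← uu_eq, hu']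
      have e' : mk7 ((ux 1 * x') * ((ux 1 * x') * (ux 1 * x'))) = mk7 (ux 1 * x') * (mk7 (ux 1 * x') * mk7 (ux 1 * x')) := by
        rw [map_mul mk7 (ux 1 * x'), map_mul mk7 (ux 1 * x') (ux 1 * x')]
      rw [e', e, ← map_mul, ← map_mul, ← map_mul, ← map_mul, g5, mk_six, map_one]
  let S : Subgroup T7 := ψ'.eqLocus (MonoidHom.id T7)
  have hS : ∀ g, g ∈ S ↔ ψ' g = g := fun g => Iff.rfl
  have hux : ∀ y, mk7 (ux y) ∈ S := by
    intro y
    rw [mk_ux]
    exact pow_mem ((hS _).2 hu') _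
  have h4 : mk7 (dt 4 z4) ∈ S := (hS _).2 hs'
  have h6 : mk7 (dt 6 z6) ∈ S := by rw [mk_six]; exact one_mem _
  have h2 : mk7 (dt 2 z2) ∈ S := by rw [e3, map_mul]; exact mul_mem h4 h4
  have hdt : ∀ t (ht : t ≠ 0), mk7 (dt t ht) ∈ S := by
    intro t ht
    have key : ∀ t : ZMod 7, t ≠ 0 → t = 1 ∨ t = 2 ∨ t = 3 ∨ t = 4 ∨ t = 5 ∨ t = 6 := by decide
    rcases key t ht with rfl | rfl | rfl | rfl | rfl | rfl
    · rw [e4, map_one]; exact one_mem _
    · exact h2
    · rw [e5, map_mul]; exact mul_mem h6 h4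
    · exact h4
    · rw [e6, map_mul]; exact mul_mem h6 h2
    · exact h6
  have hNN : ∀ i, mk7 (NN i) ∈ S := by
    intro i
    by_cases hi : i = 7
    · rw [hi, g7, map_one]; exact one_mem _
    · rw [g6 i hi, map_mul]
      exact mul_mem (hux _) ((hS _).2 hw')
  intro g
  obtain ⟨x, rfl⟩ := QuotientGroup.mk_surjective g
  have hne : ((x : Matrix (Fin 2) (Fin 2) (ZMod 7)) 0 0, (x : Matrix (Fin 2) (Fin 2) (ZMod 7)) 1 0) ≠ (0, 0) := by
    intro h0
    have hd := x.2
    rw [Matrix.det_fin_two] at hd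
    have z0 := congrArg Prod.fst h0
    have z1 := congrArg Prod.snd h0
    simp only at z0 z1
    rw [z0, z1, zero_mul, mul_zero, sub_zero] at hd
    exact absurd hd (by decide)
  obtain ⟨i, r, hr, a0, a1⟩ := SL7.exists_pt _ _ hne
  obtain ⟨x', rfl⟩ := SL7.eq_of_col hr a0 a1
  have hmem : mk7 (NN i * dt r hr * ux x') ∈ S := by
    rw [map_mul, map_mul]
    exact mul_mem (mul_mem (hNN i) (hdt r hr)) (hux x')
  exact hmem

/-! ### Conclusion -/

/-- **`PSL₂(7)` is not the core of a maximal subgroup of `Ω₈⁻(q)`**, `p ≠ 2, 3, 7`. -/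
theorem no_l27 {F : Type u} [Field F] [Fintype F] (h : OC F T7) (h2 : (2 : F) ≠ 0) (h3 : (3 : F) ≠ 0) (h7 : (7 : F) ≠ 0)
    {H : Subgroup (GL (Fin 8) F)} (hmax : IsMaximalIn (omegaGL h.Q) H)
    (hnorm : ∀ x ∈ H, ∀ t, ∃ t', x * h.ρ t * x⁻¹ = h.ρ t') : False := by
  obtain ⟨f, hf0, hf, hu⟩ := exists_form h h2 h3 h7
  have h7' : ((7 : ℕ) : AlgebraicClosure F) ≠ 0 := H24.Om.cast_ne_zero (by exact_mod_cast h7)
  obtain ⟨ζ, hζ⟩ := exists_root (K := AlgebraicClosure F) (N := 7) h7'
  have hζ7 := hζ.pow_eq_one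
  obtain ⟨a, ha, hk⟩ := Tor7.exists_a (algebraMap F (AlgebraicClosure F)) hζ h2 h3
  have ht := form_tt h ha h7 hf
  have ht2 : f.compLinearMap (ac (tt h ha * tt h ha)) = f := by rw [← comp_comp, ht, ht]
  have htH := mem_of_form h h2 hmax hnorm hf0 hf hu (tt_sq_mem h ha h2) ht2
  set t2 := tt h ha * tt h ha with ht2def
  -- the automorphism
  choose φ hφ using hnorm t2 htH
  let ψ : T7 →* T7 :=
    { toFun := φ
      map_one' := by
        apply h.inj
        rw [← hφ, map_one, mul_one, mul_inv_cancel]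
      map_mul' := fun x y => by
        apply h.inj
        rw [map_mul, ← hφ, ← hφ, ← hφ, map_mul]
        group }
  have hcomm : t2 * h.ρ uu = h.ρ uu * t2 := by
    have c : Commute (tt h ha) (h.ρ uu) := tt_uu h ha
    exact (c.mul_left c).eq
  have hψu : ψ uu = uu := by
    apply h.inj
    change h.ρ (φ uu) = h.ρ uu
    rw [← hφ, hcomm, mul_inv_cancel_right]
  obtain ⟨k, hk'⟩ := rigid ψ hψu
  -- `A ^ k t2` is central, so it is one
  set c := h.ρ (uu ^ k) * t2 with hcdef
  have hcc : ∀ g, c * h.ρ g = h.ρ g * c := by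
    intro g
    have h5 : t2 * h.ρ g = h.ρ (ψ g) * t2 := by
      change _ = h.ρ (φ g) * t2
      rw [← hφ, inv_mul_cancel_right]
    rw [hcdef, mul_assoc, h5, ← mul_assoc, ← map_mul]
    have h6 : uu ^ k * ψ g = g * uu ^ k := by
      have := hk' g
      rw [mul_inv_eq_iff_eq_mul] at this
      exact this
    rw [h6, map_mul, mul_assoc]
  -- a fixed vector
  obtain ⟨v, hv, hv0⟩ := exists_fix_of_pos (U := W 7 ζ (fun k => h.σ ((![uu] : Fin 1 → T7) k)) ![0]) (by
    rw [(weights_l27 (ZMod.card 7) h h7 hζ).2]; norm_num)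
  have hvu : h.σ uu v = (1 : AlgebraicClosure F) • v := by
    have := mem_W.1 hv 0
    change h.σ uu v = ζ ^ (0 : ZMod 7).val • v at this
    rwa [ZMod.val_zero, pow_zero] at this
  have hpowu : ∀ (z : AlgebraicClosure F) (w : Fin 8 → AlgebraicClosure F), h.σ uu w = z • w → ∀ k : ℕ,
      h.σ (uu ^ k) w = z ^ k • w := by
    intro z w hw k
    rw [map_pow]
    exact pow_apply hw k
  have hct : ∀ (z : AlgebraicClosure F) (w : Fin 8 → AlgebraicClosure F), z ^ 7 = 1 → h.σ uu w = z • w →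
      ac c w = (cc a z * cc a z * z ^ k) • w := by
    intro z w hz hw
    rw [hcdef, map_mul, Module.End.mul_apply, ht2def, map_mul, Module.End.mul_apply, ac_tt h ha hz hw, map_smul,
      ac_tt h ha hz hw, smul_smul, map_smul, ac_rho, hpowu z w hw k, smul_smul]
  have hcv : ac c v = v := by
    rw [hct 1 v (one_pow 7) hvu, cc_one ha, one_pow, mul_one, mul_one, one_smul]
  have hall : ∀ w, ac c w = w := by
    let E : Submodule (AlgebraicClosure F) (Fin 8 → AlgebraicClosure F) := LinearMap.ker (ac c - 1)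
    have hE : ∀ w, w ∈ E ↔ ac c w = w := by
      intro w
      rw [LinearMap.mem_ker, LinearMap.sub_apply, Module.End.one_apply, sub_eq_zero]
    have htop : E = ⊤ := by
      refine h.eq_top_of_inv E ?_ ((hE v).2 hcv) hv0
      intro g w hw
      rw [hE] at hw ⊢
      rw [← ac_rho, ← Module.End.mul_apply, ← map_mul, hcc, map_mul, Module.End.mul_apply, hw]
    intro w
    exact (hE w).1 (by rw [htop]; trivial)
  -- the weights
  obtain ⟨j, hj⟩ := hk ((7 - k % 7) % 7) (Nat.mod_lt _ (by norm_num))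
  apply hj
  set z := ζ ^ j with hz
  have hz7 : z ^ 7 = 1 := by rw [hz, ← pow_mul, mul_comm, pow_mul, hζ7, one_pow]
  obtain ⟨w, hw, hw0⟩ : ∃ w : Fin 8 → AlgebraicClosure F, h.σ uu w = z • w ∧ w ≠ 0 := by
    have hfr : 0 < finrank (AlgebraicClosure F) (W 7 ζ (fun k => h.σ ((![uu] : Fin 1 → T7) k)) ![(j : ZMod 7)]) := by
      by_cases h0 : (j : ZMod 7) = 0
      · rw [h0, (weights_l27 (ZMod.card 7) h h7 hζ).2]; norm_num
      · rw [(weights_l27 (ZMod.card 7) h h7 hζ).1 _ h0]; norm_num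
    obtain ⟨w, hw, hw0⟩ := exists_fix_of_pos hfr
    refine ⟨w, ?_, hw0⟩
    have h5 := mem_W.1 hw 0
    change h.σ uu w = ζ ^ (j : ZMod 7).val • w at h5
    rw [h5, ZMod.val_natCast, pow_mod_of_pow_eq_one hζ7]
  have h5 := hall w
  rw [hct z w hz7 hw] at h5
  have h6 : cc a z * cc a z * z ^ k = 1 := by
    have h8 : (cc a z * cc a z * z ^ k - 1) • w = 0 := by rw [sub_smul, h5, one_smul, sub_self]
    exact sub_eq_zero.1 ((smul_eq_zero.1 h8).resolve_right hw0)
  have hpow : ∀ j : ℕ, (z ^ j) ^ 7 = 1 := fun j => by rw [← pow_mul, mul_comm, pow_mul, hz7, one_pow]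
  have n1 := sub_ne ha hz7
  have n3 := sub_ne ha (hpow 3)
  have h8 : z ^ k * z ^ ((7 - k % 7) % 7) = 1 := by
    rw [← pow_add, ← pow_mod_of_pow_eq_one hz7, show (k + (7 - k % 7) % 7) % 7 = 0 by omega, pow_zero]
  have h9 : cc a z * cc a z = z ^ ((7 - k % 7) % 7) := by
    calc cc a z * cc a z = cc a z * cc a z * z ^ k * z ^ ((7 - k % 7) % 7) := by rw [mul_assoc, h8, mul_one]
      _ = z ^ ((7 - k % 7) % 7) := by rw [h6, one_mul]
  rw [← h9, cc]
  field_simp

end Cfsg.Agent.H917.L27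
end

private theorem dce_f1a7c657e0d0 : _root_.True := by
  try have : _root_.True := by simp only [_root_.Cfsg.Agent.H917.SL7.af.congr_simp]
  try have : _root_.True := by simp only [_root_.Cfsg.Agent.H871.Par.dg.congr_simp]
  try have : _root_.True := by simp only [_root_.Cfsg.Agent.H917.L27.R.congr_simp]
  try have : _root_.True := by simp only [_root_.Cfsg.Agent.H24.Om.tr.eq_1]
  try have : _root_.True := by simp only [_root_.Cfsg.Agent.H24.Om.uu.eq_1]
  try have : _root_.True := by simp only [_root_.Cfsg.Agent.H917.L27.tt.eq_1]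
  try have : _root_.True := by simp only [_root_.Cfsg.Agent.H917.L27.cc.eq_1]
  try have : _root_.True := by simp only [_root_.Cfsg.Agent.H917.SL7.dt.congr_simp]
  try have : _root_.True := by simp only [_root_.Cfsg.Agent.H917.SL7.chi.eq_1]
  try have : _root_.True := by simp only [_root_.Cfsg.Agent.H24.Om.rp.eq_1]
  try have : _root_.True := by simp only [_root_.Cfsg.Agent.H917.L27.AA.eq_1]
  try have : _root_.True := by simp only [_root_.Cfsg.Agent.H917.SL7.mf.eq_1]
  exact _root_.True.intro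
end

-- part: H929/UThreePlus
section
prune_inst 0x252040403842000000008500300000202400009000000000e0a002440b01a000844008403a30100010a800804001000001440080020000000a000000001f00000000000480480000020010000080000000000000000000000000000000000004000000000
set_option linter.all false
open scoped Cfsg.Agent.FastGrp

/-!
# Self-dual cores of type `PSU(3, q)` in dimension eight: the type of the form (helper929)

* `SU3Data.exists_rat` : the vectors `V` are multiples of vectors over `F`;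
* `SU3Data.polar_rat` : their Gram matrix;
* **`plus_psu3`** : `q ≡ 2 mod 3` ⟹ every fixed quadratic form is of plus type;
* **`mod_three_psu3`** : a fixed quadratic form that is not of plus type ⟹ `q ≡ 1 mod 3`.
-/

set_option autoImplicit false
set_option linter.unusedSectionVars false
set_option linter.style.haveILetI false

namespace Cfsg.Agent.H929.U3

open Cfsg Cfsg.Geo Cfsg.Agent.LieClassical.HermSiegel Cfsg.Agent.LieClassical.HermBasic Matrix Cfsg.Agent.H906
  Cfsg.Agent.H915.LD Cfsg.Agent.H905.Md Cfsg.Agent.H914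

universe u

/-- elements fixed by the Frobenius of `F` come from `F` -/
theorem exists_alg {F K : Type*} [Field F] [Fintype F] [Field K] (i : F →+* K) {x : K}
    (h : x ^ Fintype.card F = x) : ∃ y, i y = x := by
  classical
  have h1 := Fintype.one_lt_card (α := F)
  set P : Polynomial K := Polynomial.X ^ Fintype.card F - Polynomial.X with hP
  have hP0 : P ≠ 0 := FiniteField.X_pow_card_sub_X_ne_zero K h1
  have h2 : (Finset.univ.image i) ⊆ P.roots.toFinset := by
    intro y hy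
    obtain ⟨a, -, rfl⟩ := Finset.mem_image.1 hy
    rw [Multiset.mem_toFinset, Polynomial.mem_roots hP0, Polynomial.IsRoot.def, hP, Polynomial.eval_sub,
      Polynomial.eval_pow, Polynomial.eval_X, ← map_pow, FiniteField.pow_card, sub_self]
  have h3 : P.roots.toFinset.card ≤ (Finset.univ.image i).card := by
    rw [Finset.card_image_of_injective _ i.injective, Finset.card_univ]
    refine (Multiset.toFinset_card_le _).trans ((Polynomial.card_roots' P).trans ?_)
    rw [hP, FiniteField.X_pow_card_sub_X_natDegree_eq K h1]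
  have h4 := Finset.eq_of_subset_of_card_le h2 h3
  have h5 : x ∈ P.roots.toFinset := by
    rw [Multiset.mem_toFinset, Polynomial.mem_roots hP0, Polynomial.IsRoot.def, hP, Polynomial.eval_sub,
      Polynomial.eval_pow, Polynomial.eval_X, h, sub_self]
  rw [← h4] at h5
  obtain ⟨a, -, ha⟩ := Finset.mem_image.1 h5
  exact ⟨a, ha⟩

section Data

variable {F : Type u} [Field F] [Finite F] {ι : Type} [Fintype ι] [DecidableEq ι] {P : Subgroup (GL ι F)}
  (p : ℕ) [hp : Fact p.Prime] [hFp : CharP F p] {E : Type} [Field E] [Fintype E] [hEp : CharP E p]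

include p hp hFp hEp in
/-- **rational vectors** -/
theorem SU3Data.exists_rat {q : ℕ} (hC : Core P) (hsd : SD P) (hq3 : 3 ≤ q) (hE : Fintype.card E = q ^ 2)
    {e : Soc P ≃* PSU 3 E q} (hn : Fintype.card ι ≤ 12) (D : SU3Data P p E q e) :
    ∃ (lam : AlgebraicClosure F) (V : Iso q E → ι → F), lam ≠ 0 ∧
      ∀ w, (fun i => algebraMap F (AlgebraicClosure F) (V w i)) = lam • D.V w := by
  classical
  have : Fintype F := Fintype.ofFinite F
  have hchar : CharP (AlgebraicClosure F) p := charP_of_injective_algebraMap (algebraMap F _).injective p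
  have hcard := card_psu3_sd p hC hsd hq3 hE e hn
  rw [Nat.card_eq_fintype_card] at hcard
  have hn3 : Fintype.card ι < q ^ 3 := by
    have : 3 ^ 3 ≤ q ^ 3 := Nat.pow_le_pow_left hq3 3
    omega
  obtain ⟨σ, hσ⟩ := exists_frob F p D.f
  have hσq : ∀ x, σ x = x ^ q := fun x => by rw [hσ, ← D.hq]
  have hpow : ∀ x : F, x ^ q = x := by
    intro x
    rw [← hcard]
    exact FiniteField.pow_card x
  have hfix : ∀ g, (acRep D.rep g).map σ = acRep D.rep g := by
    intro g
    ext x y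
    rw [acRep_apply, Matrix.map_apply, Matrix.map_apply, hσq, ← map_pow, hpow]
  have h1 : (σ ∘ D.v : ι → AlgebraicClosure F) ∈ fixSub (acRep D.rep) (Stab q D.e₀) := by
    intro u hu
    have h2 := comp_mulVec σ (acRep D.rep u) D.v
    rw [hfix, D.v_mem u hu] at h2
    exact h2.symm
  obtain ⟨k, hk⟩ := fix_unique (j := D.j) hE D.iso D.ne D.span p hn3 D.v_mem h1 D.v_ne
  have hk0 : k ≠ 0 := by
    rintro rfl
    rw [zero_smul] at hk
    apply D.v_ne
    funext i
    have h3 := congrFun hk i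
    rw [Function.comp_apply, Pi.zero_apply] at h3
    exact (map_eq_zero σ).1 h3
  obtain ⟨lam, hlam⟩ := IsAlgClosed.exists_pow_nat_eq k⁻¹ (n := q - 1) (by omega)
  have hlam0 : lam ≠ 0 := by
    rintro rfl
    rw [zero_pow (by omega)] at hlam
    exact inv_ne_zero hk0 hlam.symm
  have hlq : lam ^ q * k = lam := by
    have h3 : lam ^ q = lam ^ (q - 1) * lam := by rw [← pow_succ, Nat.sub_add_cancel (by omega)]
    rw [h3, hlam]
    field_simp
  have key : ∀ (w : Iso q E) (i : ι), ∃ y : F, algebraMap F (AlgebraicClosure F) y = lam * D.V w i := by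
    intro w i
    apply exists_alg
    rw [hcard]
    obtain ⟨g, rfl⟩ := exists_actIso hE D.iso D.ne w
    have h4 := congrFun (comp_mulVec σ (acRep D.rep g) D.v) i
    rw [hfix, hk, Matrix.mulVec_smul, Pi.smul_apply, smul_eq_mul, ← D.V_eq] at h4
    rw [mul_pow, ← hσq (D.V _ i)]
    have h5 : σ (D.V (actIso g ⟨D.e₀, D.iso, D.ne⟩) i) = k * D.V (actIso g ⟨D.e₀, D.iso, D.ne⟩) i := h4
    rw [h5, ← mul_assoc, hlq]
  choose V hV using key
  exact ⟨lam, V, hlam0, fun w => funext fun i => hV w i⟩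

include p hp hFp hEp in
/-- **the Gram matrix of the rational vectors** -/
theorem SU3Data.polar_rat {q : ℕ} (hC : Core P) (hsd : SD P) (hq4 : 4 ≤ q) (hE : Fintype.card E = q ^ 2)
    {e : Soc P ≃* PSU 3 E q} (hn : Fintype.card ι ≤ 12) (D : SU3Data P p E q e) {Q : (ι → F) → F}
    (hQ : IsNondegenerateQuadraticForm Q) (hfix : FixesQuadForm (matrixSet P) Q) :
    ∃ (V : Iso q E → ι → F) (c : F), c ≠ 0 ∧ (∀ w, Q (V w) = 0) ∧ ∀ u w,
      algebraMap F (AlgebraicClosure F) (QuadraticMap.polar Q (V u) (V w)) =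
        algebraMap F (AlgebraicClosure F) c * D.j (hermForm 3 E q w.1 u.1) ^ (1 + q) := by
  classical
  have hne := hC.nonempty
  have hq3 : 3 ≤ q := by omega
  have hchar : CharP (AlgebraicClosure F) p := charP_of_injective_algebraMap (algebraMap F _).injective p
  have hb := (D.sd_iff p hC hq3 hE hn).1 hsd
  have hn3 : Fintype.card ι < q ^ 3 := by
    have : 3 ^ 3 ≤ q ^ 3 := Nat.pow_le_pow_left hq3 3
    omega
  obtain ⟨lam, V, hlam, hV⟩ := D.exists_rat p hC hsd hq3 hE hn
  set f := QuadraticMap.polar Q with hf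
  have hfb : IsBilinearForm f := hQ.polar_bilinear
  have hff : FixesForm (matrixSet P) f := by
    intro s hs v w
    rw [hf]
    unfold QuadraticMap.polar
    rw [← Matrix.mulVec_add, hfix s hs, hfix s hs, hfix s hs]
  have hJ0 := det_gram_ne_zero (IsSesq.of_bilinear hfb) hQ.nondegenerate
  have hJ : ∀ g ∈ P, (g : Matrix ι ι F)ᵀ * gramMatrix f * (g : Matrix ι ι F) = gramMatrix f :=
    fun g hg => gram_fix hfb hff hg
  obtain ⟨c, hc⟩ := D.gram p hE hn3 (J := (gramMatrix f).map (algebraMap F (AlgebraicClosure F))) (D.inv_map _ hJ)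
  -- the form over the closure
  have hfe : ∀ x y : ι → F, algebraMap F (AlgebraicClosure F) (f x y) =
      (fun i => algebraMap F (AlgebraicClosure F) (x i)) ⬝ᵥ
        ((gramMatrix f).map (algebraMap F (AlgebraicClosure F)) *ᵥ
          (fun i => algebraMap F (AlgebraicClosure F) (y i))) := by
    intro x y
    rw [form_eq_gram hfb]
    simp only [dotProduct, Matrix.mulVec, map_sum, map_mul, Matrix.map_apply]
  have hfV : ∀ u w, algebraMap F (AlgebraicClosure F) (f (V u) (V w)) =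
      (lam * lam * c) * D.j (hermForm 3 E q w.1 u.1) ^ (1 + q) := by
    intro u w
    rw [hfe, hV, hV, Matrix.mulVec_smul, hc, smul_dotProduct, dotProduct_smul, dotProduct_smul, dotProduct_comm,
      D.ker.coef, hb]
    simp only [smul_eq_mul]
    ring
  obtain ⟨e₂, e₃, hfr⟩ := exists_fr hE D.iso D.ne
  have h3 : e₃ ≠ 0 := by
    rintro rfl
    have := hfr.h13
    rw [herm_zero_right hE] at this
    exact zero_ne_one this
  have hc1 : algebraMap F (AlgebraicClosure F) (f (V ⟨D.e₀, D.iso, D.ne⟩) (V ⟨e₃, hfr.h33, h3⟩)) = lam * lam * c := by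
    rw [hfV, hfr.h31 hE, map_one, one_pow, mul_one]
  have hc0 : c ≠ 0 := by
    rintro rfl
    have h6 : ∀ x, (gramMatrix f).map (algebraMap F (AlgebraicClosure F)) *ᵥ x = 0 := by
      intro x
      have hx : x ∈ Submodule.span (AlgebraicClosure F) (Set.range D.V) := by rw [D.ker.spanR]; trivial
      induction hx using Submodule.span_induction with
      | mem x hx =>
        obtain ⟨w, rfl⟩ := hx
        rw [hc, zero_smul]
      | zero => rw [Matrix.mulVec_zero]
      | add x y _ _ hx hy => rw [Matrix.mulVec_add, hx, hy, add_zero]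
      | smul c x _ hx => rw [Matrix.mulVec_smul, hx, smul_zero]
    have h7 : ((gramMatrix f).map (algebraMap F (AlgebraicClosure F))).det ≠ 0 := by
      rw [← RingHom.mapMatrix_apply, ← RingHom.map_det]
      exact (map_ne_zero _).2 hJ0
    apply h7
    have h8 : (gramMatrix f).map (algebraMap F (AlgebraicClosure F)) = 0 := by
      ext a b
      have := congrFun (h6 (Pi.single b 1)) a
      rwa [Matrix.mulVec_single_one, Matrix.col_apply] at this
    rw [h8, Matrix.det_zero]
  refine ⟨V, f (V ⟨D.e₀, D.iso, D.ne⟩) (V ⟨e₃, hfr.h33, h3⟩), ?_, ?_, ?_⟩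
  · intro h0
    rw [h0, map_zero] at hc1
    exact mul_ne_zero (mul_ne_zero hlam hlam) hc0 hc1.symm
  · intro w
    -- a generator of the multiplicative group
    obtain ⟨t, ht⟩ := IsCyclic.exists_generator (α := Eˣ)
    have hord : orderOf t = q ^ 2 - 1 := by
      rw [orderOf_eq_card_of_forall_mem_zpowers ht, Nat.card_eq_fintype_card, Fintype.card_units, hE]
    have ht0 : (t : E) ≠ 0 := t.ne_zero
    let tw : Iso q E := ⟨(t : E) • w.1, by rw [herm_smul_left, herm_smul_right, w.2.1, mul_zero, mul_zero],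
      smul_ne_zero ht0 w.2.2⟩
    -- `V (t w) = N (t) V w`
    have h4 : D.V tw = D.j (t : E) ^ (1 + q) • D.V w := by
      have h5 : ∀ y : ι → AlgebraicClosure F, y ⬝ᵥ (D.V tw - D.j (t : E) ^ (1 + q) • D.V w) = 0 := by
        intro y
        have hy : y ∈ Submodule.span (AlgebraicClosure F) (Set.range D.Φ) := by rw [D.ker.spanL]; trivial
        induction hy using Submodule.span_induction with
        | mem y hy =>
          obtain ⟨u, rfl⟩ := hy
          rw [dotProduct_sub, dotProduct_smul, D.ker.coef, D.ker.coef, hb]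
          change D.j (hermForm 3 E q u.1 ((t : E) • w.1)) ^ (1 + q) - _ = 0
          rw [herm_smul_right, smul_eq_mul, ← mul_pow, ← map_mul, ← map_pow, ← map_pow, mul_pow, mul_pow, sub_eq_zero]
          congr 2
          rw [pow_add, pow_add, pow_one, pow_one, pow_q_pow_q hE, mul_comm]
        | zero => rw [zero_dotProduct]
        | add x y _ _ hx hy => rw [add_dotProduct, hx, hy, add_zero]
        | smul c x _ hx => rw [smul_dotProduct, hx, smul_zero]
      funext i
      have h6 := h5 (Pi.single i 1)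
      rw [single_dotProduct, one_mul, Pi.sub_apply, sub_eq_zero] at h6
      exact h6
    -- both are in the same orbit
    obtain ⟨g, hg⟩ : ∃ g : SU 3 E q, actIso g w = tw := by
      obtain ⟨g, hg⟩ := exists_act hE w.2.1 w.2.2 tw.2.1 tw.2.2
      exact ⟨g, Subtype.ext hg⟩
    have hgP : D.rep g ∈ P := D.range_rep.le ⟨g, rfl⟩
    have h7 : (D.rep g : Matrix ι ι F) *ᵥ V w = V tw := by
      funext i
      apply (algebraMap F (AlgebraicClosure F)).injective
      have h8 := congrFun (hV tw) i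
      rw [h8, ← hg, D.V_act hE, Pi.smul_apply, ← Pi.smul_apply, ← Matrix.mulVec_smul, ← hV]
      simp only [Matrix.mulVec, dotProduct, map_sum, map_mul, acRep_apply, Matrix.map_apply]
    -- `N (t)` is rational
    obtain ⟨n, hn'⟩ : ∃ n : F, algebraMap F (AlgebraicClosure F) n = D.j (t : E) ^ (1 + q) := by
      have : Fintype F := Fintype.ofFinite F
      have hcard := card_psu3_sd p hC hsd hq3 hE e hn
      rw [Nat.card_eq_fintype_card] at hcard
      apply exists_alg
      rw [hcard, ← map_pow, ← map_pow]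
      congr 1
      have h9 : (t : E) ^ (q ^ 2) = t := by rw [← hE, FiniteField.pow_card]
      rw [← pow_mul, add_mul, one_mul, ← pow_two, pow_add, h9, pow_add, pow_one, mul_comm]
    have h8 : V tw = n • V w := by
      funext i
      apply (algebraMap F (AlgebraicClosure F)).injective
      have h9 := congrFun (hV tw) i
      have h10 := congrFun (hV w) i
      rw [h9, h4, Pi.smul_apply, Pi.smul_apply, Pi.smul_apply, smul_eq_mul, smul_eq_mul, smul_eq_mul, map_mul, hn', h10,
        Pi.smul_apply, smul_eq_mul]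
      ring
    have h9 := hfix _ ⟨D.rep g, hgP, rfl⟩ (V w)
    rw [h7, h8, hQ.smul] at h9
    by_contra h0
    have h10 : n ^ 2 = 1 := by
      have h11 : (n ^ 2 - 1) * Q (V w) = 0 := by linear_combination h9
      exact sub_eq_zero.1 ((mul_eq_zero.1 h11).resolve_right h0)
    have h11 : t ^ ((1 + q) * 2) = 1 := by
      apply Units.ext
      rw [Units.val_pow_eq_pow_val, Units.val_one]
      apply D.j.injective
      rw [map_one, pow_mul, map_pow, map_pow, ← hn', ← map_pow, h10, map_one]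
    have h12 := orderOf_dvd_of_pow_eq_one h11
    have h13 : q ^ 2 - 1 = (1 + q) * (q - 1) := by
      obtain ⟨r, rfl⟩ : ∃ r, q = r + 1 := ⟨q - 1, by omega⟩
      rw [Nat.add_sub_cancel]
      have : (r + 1) ^ 2 = (1 + (r + 1)) * r + 1 := by ring
      rw [this, Nat.add_sub_cancel]
    rw [hord, h13] at h12
    have h14 : q - 1 ∣ 2 := Nat.dvd_of_mul_dvd_mul_left (by omega) h12
    have := Nat.le_of_dvd (by norm_num) h14
    omega
  · intro u w
    rw [hfV, hc1]

end Data

/-! ### The explicit totally singular subspace -/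

section Explicit

/-- the Gram matrix of eight isotropic vectors -/
def G8 : Fin 8 → Fin 8 → ℤ :=
  ![![0, 1, 1, 1, 1, 1, 1, 1], ![1, 0, 1, 1, 1, 1, 1, 1], ![1, 1, 0, 3, 3, 3, 3, 9], ![1, 1, 3, 0, 3, 9, 3, 3],
    ![1, 1, 3, 3, 0, 3, 9, 3], ![1, 1, 3, 9, 3, 0, 3, 3], ![1, 1, 3, 3, 9, 3, 0, 3], ![1, 1, 9, 3, 3, 3, 3, 0]]

/-- a totally singular subspace -/
def A8 : Fin 4 → Fin 8 → ℤ :=
  ![![1, 0, 0, 0, 0, 0, 0, 0], ![0, 0, 1, -1, 0, -1, 1, 0], ![0, 0, 0, 1, -1, 0, -1, 1], ![-3, -3, 1, 1, 1, 0, 0, 0]]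

/-- the dual vectors -/
def B8 : Fin 4 → Fin 8 → ℤ :=
  ![![0, 9, 0, 0, 0, 0, 0, 0], ![0, 0, 0, -1, 1, 0, 0, 0], ![0, 0, 1, -1, 0, 0, 0, 0], ![0, 0, -1, 0, 0, 1, 0, 0]]

theorem AGA : ∀ s t, ∑ i, ∑ j, A8 s i * A8 t j * G8 i j = 0 := by decide +kernel

theorem AGB : ∀ s t, ∑ i, ∑ j, A8 s i * B8 t j * G8 i j = if s = t then 9 else 0 := by decide +kernel

theorem AGd : ∀ s, ∑ i, ∑ j, (if i < j then A8 s i * A8 s j * G8 i j else 0) = 0 := by decide +kernel

/-- `(a, b)` stands for `a + b ω` -/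
def zm (u v : ℤ × ℤ) : ℤ × ℤ := (u.1 * v.1 - u.2 * v.2, u.1 * v.2 + u.2 * v.1 - u.2 * v.2)

/-- conjugate -/
def zc (u : ℤ × ℤ) : ℤ × ℤ := (u.1 - u.2, -u.2)

/-- norm -/
def zn (u : ℤ × ℤ) : ℤ := u.1 * u.1 - u.1 * u.2 + u.2 * u.2

/-- Hermitian form -/
def zh (u v : Fin 3 → ℤ × ℤ) : ℤ × ℤ := zm (u 0) (zc (v 2)) + zm (u 1) (zc (v 1)) + zm (u 2) (zc (v 0))

/-- coordinates of the eight vectors -/
def W8 : Fin 8 → Fin 3 → ℤ × ℤ :=
  ![![(1, 0), (0, 0), (0, 0)], ![(0, 0), (0, 0), (1, 0)], ![(0, 1), (1, 0), (1, 0)], ![(0, 1), (0, 1), (1, 0)],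
    ![(0, 1), (-1, -1), (1, 0)], ![(-1, -1), (1, 0), (1, 0)], ![(-1, -1), (0, 1), (1, 0)],
    ![(-1, -1), (-1, -1), (1, 0)]]

theorem W8_G8 : ∀ i j, zn (zh (W8 i) (W8 j)) = G8 i j := by decide +kernel

theorem W8_self : ∀ i, zh (W8 i) (W8 i) = (0, 0) := by decide

theorem W8_ne : ∀ i, (W8 i 0 = (1, 0) ∧ W8 i 1 = (0, 0) ∧ W8 i 2 = (0, 0)) ∨ W8 i 2 = (1, 0) := by decide

theorem exists_eight {E : Type*} [Field E] [Fintype E] {q : ℕ} (hE : Fintype.card E = q ^ 2) (p : ℕ)
    [hp : Fact p.Prime] [CharP E p] {f : ℕ} (hq : q = p ^ f) (h3 : q % 3 = 2) {e₁ e₂ e₃ : Fin 3 → E}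
    (h : Fr q e₁ e₂ e₃) (h1 : e₁ ≠ 0) :
    ∃ w : Fin 8 → Iso q E, ∀ i j, hermForm 3 E q (w i).1 (w j).1 ^ (1 + q) = ((G8 i j : ℤ) : E) := by
  classical
  obtain ⟨ω, hω⟩ : ∃ ω : Eˣ, orderOf ω = 3 := by
    have : Fact (Nat.Prime 3) := ⟨Nat.prime_three⟩
    apply exists_prime_orderOf_dvd_card 3
    rw [Fintype.card_units, hE]
    obtain ⟨r, rfl⟩ : ∃ r, q = 3 * r + 2 := ⟨q / 3, by omega⟩
    refine ⟨3 * r ^ 2 + 4 * r + 1, ?_⟩
    have : (3 * r + 2) ^ 2 = 3 * (3 * r ^ 2 + 4 * r + 1) + 1 := by ring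
    rw [this, Nat.add_sub_cancel]
  have hω3 : (ω : E) ^ 3 = 1 := by
    have := pow_orderOf_eq_one ω
    rw [hω] at this
    rw [← Units.val_pow_eq_pow_val, this, Units.val_one]
  have hω1 : (ω : E) - 1 ≠ 0 := by
    intro h0
    have : ω = 1 := Units.ext (sub_eq_zero.1 h0)
    rw [this, orderOf_one] at hω
    norm_num at hω
  have hω2 : (ω : E) ^ 2 + ω + 1 = 0 := by
    have : ((ω : E) - 1) * ((ω : E) ^ 2 + ω + 1) = 0 := by linear_combination hω3
    exact (mul_eq_zero.1 this).resolve_left hω1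
  have hωq : (ω : E) ^ q = -1 - ω := by
    obtain ⟨r, hr⟩ : ∃ r, q = 3 * r + 2 := ⟨q / 3, by omega⟩
    rw [hr, pow_add, pow_mul, hω3, one_pow, one_mul]
    linear_combination hω2
  set φ : ℤ × ℤ → E := fun u => (u.1 : E) + u.2 * ω with hφ
  have hφm : ∀ u v, φ (zm u v) = φ u * φ v := by
    intro u v
    simp only [hφ, zm]
    push_cast
    linear_combination (-(u.2 : E) * v.2) * hω2
  have hφa : ∀ u v, φ (u + v) = φ u + φ v := by
    intro u v
    simp only [hφ, Prod.fst_add, Prod.snd_add]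
    push_cast
    ring
  have hφc : ∀ u, φ (zc u) = φ u ^ q := by
    intro u
    have h4 : ∀ x : E, x ^ q = iterateFrobenius E p f x := fun x => by rw [iterateFrobenius_def, hq]
    simp only [hφ, zc]
    rw [h4, map_add, map_mul, map_intCast, map_intCast, ← h4, hωq]
    push_cast
    ring
  have hφn : ∀ u, φ u ^ (1 + q) = ((zn u : ℤ) : E) := by
    intro u
    rw [pow_add, pow_one, ← hφc]
    simp only [hφ, zc, zn]
    push_cast
    linear_combination (-(u.2 : E) * u.2) * hω2
  let W : Fin 8 → Fin 3 → E := fun i => φ (W8 i 0) • e₁ + φ (W8 i 1) • e₂ + φ (W8 i 2) • e₃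
  have hW : ∀ i j, hermForm 3 E q (W i) (W j) = φ (zh (W8 i) (W8 j)) := by
    intro i j
    simp only [W, zh]
    rw [h.herm_comb hE, hφa, hφa, hφm, hφm, hφm, hφc, hφc, hφc]
  have hφ0 : φ (0, 0) = 0 := by simp [hφ]
  have hφ1 : φ (1, 0) = 1 := by simp [hφ]
  refine ⟨fun i => ⟨W i, by rw [hW, W8_self, hφ0], ?_⟩, fun i j => ?_⟩
  · rcases W8_ne i with ⟨h5, h6, h7⟩ | h5
    · simp only [W]
      rw [h5, h6, h7, hφ0, hφ1, zero_smul, zero_smul, add_zero, add_zero, one_smul]
      exact h1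
    · exact h.comb_ne_zero hE (by rw [h5, hφ1]; exact one_ne_zero)
  · rw [hW, hφn, W8_G8]

variable {F : Type u} [Field F] {ι : Type} [Fintype ι] [DecidableEq ι] {Q : (ι → F) → F}

theorem quad_add (Q : (ι → F) → F) (x y : ι → F) : Q (x + y) = Q x + Q y + QuadraticMap.polar Q x y := by
  rw [QuadraticMap.polar]
  ring

theorem quad_zero (hQ : IsNondegenerateQuadraticForm Q) : Q 0 = 0 := by
  have := hQ.smul 0 0
  rwa [zero_smul, zero_pow two_ne_zero, zero_mul] at this

theorem polar_sum_left (hQ : IsNondegenerateQuadraticForm Q) {τ : Type*} (s : Finset τ) (x : τ → ι → F) (y : ι → F) :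
    QuadraticMap.polar Q (∑ i ∈ s, x i) y = ∑ i ∈ s, QuadraticMap.polar Q (x i) y :=
  (IsSesq.of_bilinear hQ.polar_bilinear).sum_left s x y

theorem polar_sum_right (hQ : IsNondegenerateQuadraticForm Q) {τ : Type*} (s : Finset τ) (x : τ → ι → F) (y : ι → F) :
    QuadraticMap.polar Q y (∑ i ∈ s, x i) = ∑ i ∈ s, QuadraticMap.polar Q y (x i) :=
  (IsSesq.of_bilinear hQ.polar_bilinear).sum_right s x y

theorem quad_sum (hQ : IsNondegenerateQuadraticForm Q) (n : ℕ) (x : Fin n → ι → F) :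
    Q (∑ i, x i) = ∑ i, Q (x i) + ∑ i, ∑ j, if i < j then QuadraticMap.polar Q (x i) (x j) else 0 := by
  induction n with
  | zero => simp [quad_zero hQ]
  | succ n ih =>
    rw [Fin.sum_univ_castSucc, quad_add Q, ih, Fin.sum_univ_castSucc, Fin.sum_univ_castSucc, polar_sum_left hQ]
    have h1 : ∑ j, (if Fin.last n < j then QuadraticMap.polar Q (x (Fin.last n)) (x j) else 0) = 0 :=
      Finset.sum_eq_zero fun j _ => if_neg (not_lt.2 (Fin.le_last j))
    have h2 : ∀ i : Fin n, ∑ j, (if i.castSucc < j then QuadraticMap.polar Q (x i.castSucc) (x j) else 0) =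
        (∑ j : Fin n, if i < j then QuadraticMap.polar Q (x i.castSucc) (x j.castSucc) else 0) +
          QuadraticMap.polar Q (x i.castSucc) (x (Fin.last n)) := by
      intro i
      rw [Fin.sum_univ_castSucc, if_pos (Fin.castSucc_lt_last i)]
      simp only [Fin.castSucc_lt_castSucc_iff]
    rw [h1, add_zero]
    simp only [h2, Finset.sum_add_distrib]
    ring

/-- **the criterion** -/
theorem plus_of_gram (hQ : IsNondegenerateQuadraticForm Q) (h8 : Fintype.card ι = 8) (h3 : (3 : F) ≠ 0) {c : F}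
    (hc : c ≠ 0) (x : Fin 8 → ι → F) (h0 : ∀ i, Q (x i) = 0)
    (hG : ∀ i j, QuadraticMap.polar Q (x i) (x j) = c * ((G8 i j : ℤ) : F)) : IsPlusTypeOn Q ⊤ := by
  classical
  have hb := hQ.polar_bilinear
  have hpol : ∀ (A B : Fin 8 → ℤ), QuadraticMap.polar Q (∑ i, (A i : F) • x i) (∑ j, (B j : F) • x j) =
      c * ((∑ i, ∑ j, A i * B j * G8 i j : ℤ) : F) := by
    intro A B
    rw [polar_sum_left hQ]
    push_cast
    rw [Finset.mul_sum]
    refine Finset.sum_congr rfl fun i _ => ?_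
    rw [polar_sum_right hQ, Finset.mul_sum]
    refine Finset.sum_congr rfl fun j _ => ?_
    rw [hb.smul_left, hb.smul_right, hG]
    ring
  let y : Fin 4 → ι → F := fun s => ∑ i, (A8 s i : F) • x i
  let z : Fin 4 → ι → F := fun s => ∑ i, (B8 s i : F) • x i
  have hyy : ∀ s t, QuadraticMap.polar Q (y s) (y t) = 0 := by
    intro s t
    rw [hpol, AGA, Int.cast_zero, mul_zero]
  have hyz : ∀ s t, QuadraticMap.polar Q (y s) (z t) = if s = t then c * 9 else 0 := by
    intro s t
    rw [hpol, AGB]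
    split_ifs
    · norm_num
    · rw [Int.cast_zero, mul_zero]
  have hy : ∀ s, Q (y s) = 0 := by
    intro s
    change Q (∑ i, (A8 s i : F) • x i) = 0
    rw [quad_sum hQ]
    have h4 : ∑ i, Q ((A8 s i : F) • x i) = 0 := Finset.sum_eq_zero fun i _ => by rw [hQ.smul, h0, mul_zero]
    have h5 : c * ((∑ i, ∑ j, (if i < j then A8 s i * A8 s j * G8 i j else 0) : ℤ) : F) = c * ((0 : ℤ) : F) := by
      rw [AGd]
    rw [h4, zero_add]
    rw [Int.cast_zero, mul_zero] at h5
    refine Eq.trans ?_ h5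
    push_cast
    rw [Finset.mul_sum]
    refine Finset.sum_congr rfl fun i _ => ?_
    rw [Finset.mul_sum]
    refine Finset.sum_congr rfl fun j _ => ?_
    split_ifs
    · rw [hb.smul_left, hb.smul_right, hG]
      ring
    · rw [mul_zero]
  have h9 : c * 9 ≠ 0 := by
    have : (9 : F) = 3 * 3 := by norm_num
    rw [this]
    exact mul_ne_zero hc (mul_ne_zero h3 h3)
  have hli : LinearIndependent F y := by
    rw [Fintype.linearIndependent_iff]
    intro b hb0 t
    have h4 : QuadraticMap.polar Q (∑ s, b s • y s) (z t) = 0 := by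
      rw [hb0]
      exact (IsSesq.of_bilinear hb).zero_left _
    rw [polar_sum_left hQ] at h4
    simp only [hb.smul_left, hyz, mul_ite, mul_zero] at h4
    rw [Finset.sum_ite_eq' Finset.univ t, if_pos (Finset.mem_univ _)] at h4
    exact (mul_eq_zero.1 h4).resolve_right h9
  have hspan : ∀ v ∈ Submodule.span F (Set.range y), Q v = 0 ∧ ∀ s, QuadraticMap.polar Q v (y s) = 0 := by
    have hp' : ∀ v ∈ Submodule.span F (Set.range y), ∀ s, QuadraticMap.polar Q v (y s) = 0 := by
      intro v hv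
      induction hv using Submodule.span_induction with
      | mem v hv => obtain ⟨t, rfl⟩ := hv; exact fun s => hyy t s
      | zero => exact fun s => (IsSesq.of_bilinear hb).zero_left _
      | add v w _ _ hv hw => exact fun s => by rw [hb.add_left, hv, hw, add_zero]
      | smul a v _ hv => exact fun s => by rw [hb.smul_left, hv, mul_zero]
    have hp'' : ∀ v ∈ Submodule.span F (Set.range y), ∀ w ∈ Submodule.span F (Set.range y),
        QuadraticMap.polar Q v w = 0 := by
      intro v hv w hw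
      induction hw using Submodule.span_induction with
      | mem w hw => obtain ⟨t, rfl⟩ := hw; exact hp' v hv t
      | zero => exact (IsSesq.of_bilinear hb).zero_right _
      | add w w' _ _ hw hw' => rw [hb.add_right, hw, hw', add_zero]
      | smul a w _ hw => rw [hb.smul_right, hw, mul_zero]
    intro v hv
    refine ⟨?_, hp' v hv⟩
    induction hv using Submodule.span_induction with
    | mem v hv => obtain ⟨t, rfl⟩ := hv; exact hy t
    | zero => exact quad_zero hQ
    | add v w hv hw hv' hw' => rw [quad_add Q, hv', hw', hp'' v hv w hw, add_zero, add_zero]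
    | smul a v _ hv => rw [hQ.smul, hv, mul_zero]
  refine ⟨Submodule.span F (Set.range y), le_top, fun v hv => (hspan v hv).1, ?_⟩
  rw [finrank_span_eq_card hli, finrank_top, Module.finrank_fintype_fun_eq_card, h8, Fintype.card_fin]

end Explicit

section Main

variable {F : Type u} [Field F] [Finite F] {ι : Type} [Fintype ι] [DecidableEq ι] {P : Subgroup (GL ι F)}
  (p : ℕ) [hp : Fact p.Prime] [hFp : CharP F p] {E : Type} [Field E] [Fintype E] [hEp : CharP E p]

include p hp hFp hEp in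
/-- **`q ≡ 2 mod 3` : plus type** -/
theorem plus_psu3 {q : ℕ} (hC : Core P) (hq3 : 3 ≤ q) (hE : Fintype.card E = q ^ 2) (e : Soc P ≃* PSU 3 E q)
    (h8 : Fintype.card ι = 8) {Q : (ι → F) → F} (hQ : IsNondegenerateQuadraticForm Q)
    (hfix : FixesQuadForm (matrixSet P) Q) (h3 : q % 3 = 2) : IsPlusTypeOn Q ⊤ := by
  classical
  have hsd : SD P := by
    have hff : FixesForm (matrixSet P) (QuadraticMap.polar Q) := by
      intro s hs v w
      unfold QuadraticMap.polar
      rw [← Matrix.mulVec_add, hfix s hs, hfix s hs, hfix s hs]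
    exact sd_of_gram (det_gram_ne_zero (IsSesq.of_bilinear hQ.polar_bilinear) hQ.nondegenerate)
      (fun g hg => gram_fix hQ.polar_bilinear hff hg)
  obtain ⟨D⟩ := core_model p hC hq3 hE e (by omega)
  obtain ⟨V, c, hc, h0, hV⟩ := D.polar_rat p hC hsd (by omega) hE (by omega) hQ hfix
  obtain ⟨e₂, e₃, hfr⟩ := exists_fr hE D.iso D.ne
  obtain ⟨w, hw⟩ := exists_eight hE p D.hq h3 hfr D.ne
  have h3F : (3 : F) ≠ 0 := by
    have h5 := (cast_ne_iff (K := F) (p := p) (m := 3)).2 (fun hd => by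
      have h6 := (Nat.prime_dvd_prime_iff_eq hp.out Nat.prime_three).1 hd
      have h7 := D.hq
      rcases Nat.eq_zero_or_pos D.f with h8 | h8
      · rw [h8, pow_zero] at h7
        omega
      · have : p ∣ q := by
          rw [h7]
          exact dvd_pow_self p h8.ne'
        rw [h6] at this
        omega)
    simpa only [_root_.ne_eq, _root_.Nat.cast_ofNat] using h5
  refine plus_of_gram hQ h8 h3F hc (fun i => V (w i)) (fun i => h0 _) (fun i j => ?_)
  apply (algebraMap F (AlgebraicClosure F)).injective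
  rw [hV, ← map_pow, hw, map_mul, map_intCast, map_intCast]
  congr 2
  revert i j
  decide +kernel

include p hp hFp hEp in
/-- **not of plus type ⟹ `|F| = q ≡ 1 mod 3`** -/
theorem mod_three_psu3 {q : ℕ} (hC : Core P) (hq3 : 3 ≤ q) (hE : Fintype.card E = q ^ 2) (e : Soc P ≃* PSU 3 E q)
    (h8 : Fintype.card ι = 8) {Q : (ι → F) → F} (hQ : IsNondegenerateQuadraticForm Q)
    (hfix : FixesQuadForm (matrixSet P) Q) (hm : ¬ IsPlusTypeOn Q ⊤) : Nat.card F = q ∧ q % 3 = 1 := by
  have hsd : SD P := by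
    have hff : FixesForm (matrixSet P) (QuadraticMap.polar Q) := by
      intro s hs v w
      unfold QuadraticMap.polar
      rw [← Matrix.mulVec_add, hfix s hs, hfix s hs, hfix s hs]
    exact sd_of_gram (det_gram_ne_zero (IsSesq.of_bilinear hQ.polar_bilinear) hQ.nondegenerate)
      (fun g hg => gram_fix hQ.polar_bilinear hff hg)
  refine ⟨card_psu3_sd p hC hsd hq3 hE e (by omega), ?_⟩
  have h1 : q % 3 ≠ 2 := fun h => hm (plus_psu3 p hC hq3 hE e h8 hQ hfix h)
  have h2 : q % 3 ≠ 0 := by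
    intro h
    have h3 : 3 ∣ q := Nat.dvd_of_mod_eq_zero h
    obtain ⟨f, hq⟩ : ∃ f, q = p ^ f := by
      obtain ⟨m, -, hm⟩ := FiniteField.card E p
      rw [hE] at hm
      exact (Nat.dvd_prime_pow hp.out).1 (hm ▸ Dvd.intro_left q (by ring) : q ∣ p ^ (m : ℕ)) |>.imp fun k hk => hk.2
    rw [hq] at h3
    have h4 := Nat.prime_three.dvd_of_dvd_pow h3
    have h5 := (Nat.prime_dvd_prime_iff_eq Nat.prime_three hp.out).1 h4
    rcases core_psu3_sd p hC hq3 hE e (by omega) hsd with h6 | h6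
    · omega
    · exact h6.1 h5.symm
  omega

end Main

end Cfsg.Agent.H929.U3

private theorem dce_fc9857a487d4 : _root_.True := by
  try have : _root_.True := by simp only [_root_.Cfsg.Agent.H929.U3.zm.eq_1]
  try have : _root_.True := by simp only [_root_.Cfsg.Agent.H929.U3.zn.eq_1]
  try have : _root_.True := by simp only [_root_.Cfsg.Agent.H929.U3.zc.eq_1]
  try have : _root_.True := by simp only [_root_.Cfsg.Agent.H929.U3.zh.eq_1]
  exact _root_.True.intro
end

-- part: H917/OmOwn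
section
prune_inst 0x24004000304202000000801010000020200000000000000000a0080409018002000000003a1020001080808050080000014400a0020000000a000400001d002088800204a048a104060099800000000000000000000000000000000000000000000000000
set_option linter.all false
open scoped Cfsg.Agent.FastGrp

-- part: H917/OmCore
section
/-!
# The core of a subgroup of `Ω₈⁻(q)` in the residual class is simple (helper917, row S5827)

* `neg_one_not_mem` : `-1 ∉ Ω₈⁻(q)`, `q` odd;
* `scalars_bot` : subgroups of `Ω₈⁻(q)` contain no non-trivial scalars;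
* `toOC` : the context `OC F T`.
-/

set_option autoImplicit false
set_option linter.unusedSectionVars false

namespace Cfsg.Agent.H917.Om

open Cfsg Cfsg.Geo Module Matrix Cfsg.Agent.H915.LD

universe u v

variable {F : Type u} [Field F] [Fintype F] {Q : (Fin 8 → F) → F}

theorem card_one_of_minus (nd : IsNondegenerateQuadraticForm Q) (minus : ¬ IsPlusTypeOn Q ⊤) :
    Fintype.card F * Nat.card {v : Fin 8 → F // Q v = 1} = Fintype.card F ^ 8 + Fintype.card F ^ 4 := by
  have hnd : LieClassical.OrthCore.Nondeg (H925.qf nd) := by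
    intro x hx
    by_contra h0
    obtain ⟨-, y, hxy⟩ := nd.nondegenerate x h0
    exact hxy (hx y)
  have hP : ¬ H955.IsPlus (H925.qf nd) := by
    rintro ⟨U, hU, hd⟩
    exact minus ⟨U, le_top, hU, by rw [finrank_top]; exact hd⟩
  have h1 := H955.card_eq_one_of_not_isPlus hnd (m := 4) (by rw [Module.finrank_fin_fun]) hP
  rw [Nat.card_eq_fintype_card] at h1
  exact h1

/-- `-1 ∉ Ω₈⁻(q)` -/
theorem neg_one_not_mem (h2 : (2 : F) ≠ 0) (nd : IsNondegenerateQuadraticForm Q) (minus : ¬ IsPlusTypeOn Q ⊤)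
    {g : GL (Fin 8) F} (hg : g ∈ omegaGL Q) (hg1 : (g : Matrix (Fin 8) (Fin 8) F) = -1) : False := by
  classical
  obtain ⟨w, hw, rfl⟩ := hg
  have h0 : Q 0 = 0 := by
    have h1 := nd.smul 0 0
    rw [zero_smul] at h1
    simpa using h1
  have h1 := ClassicalGeometry.NegOneOmega.four_dvd_card_of_mem_Omega h2 Q 1 (by rw [h0]; exact zero_ne_one)
    ⟨w, hw, hg1⟩
  have h3 := card_one_of_minus nd minus
  rw [Nat.card_eq_fintype_card] at h3
  obtain ⟨c, hc⟩ := h1
  have hq : Fintype.card F % 2 = 1 := FiniteField.odd_card_of_char_ne_two (by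
    intro h4
    apply h2
    have := CharP.cast_eq_zero F (ringChar F)
    rw [h4] at this
    exact_mod_cast this)
  set q := Fintype.card F with hqdef
  have h4 : q * (4 * c) = q ^ 8 + q ^ 4 := by rw [← h3, ← hc]
  have h5 : (q * (4 * c)) % 4 = 0 := by
    rw [show q * (4 * c) = 4 * (q * c) by ring]
    exact Nat.mul_mod_right 4 _
  rw [h4] at h5
  have h6 : q % 4 = 1 ∨ q % 4 = 3 := by omega
  have h7 : (q ^ 8 + q ^ 4) % 4 = 2 := by
    rcases h6 with h6 | h6 <;> simp [Nat.add_mod, Nat.pow_mod, h6]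
  omega

/-- subgroups of `Ω₈⁻(q)` contain no non-trivial scalars -/
theorem scalars_bot (nd : IsNondegenerateQuadraticForm Q) (minus : ¬ IsPlusTypeOn Q ⊤)
    {P : Subgroup (GL (Fin 8) F)} (hP : P ≤ omegaGL Q) : (scalars (Fin 8) F).subgroupOf P = ⊥ := by
  rw [Subgroup.eq_bot_iff_forall]
  intro z hz
  rw [Subgroup.mem_subgroupOf, mem_scalars_iff] at hz
  obtain ⟨c, hc⟩ := hz
  obtain ⟨v, hv⟩ : ∃ v, Q v = 1 := by
    have h1 := card_one_of_minus nd minus
    by_contra hno
    push Not at hno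
    have h2 : Nat.card {v : Fin 8 → F // Q v = 1} = 0 := by
      rw [Nat.card_eq_zero]
      left
      exact ⟨fun v => hno v.1 v.2⟩
    rw [h2, mul_zero] at h1
    have : 0 < Fintype.card F ^ 8 := pow_pos Fintype.card_pos 8
    omega
  have h1 := mem_omegaGL_fix (hP z.2) v
  rw [hc, Matrix.smul_mulVec, Matrix.one_mulVec, nd.smul, hv, mul_one] at h1
  have h2 : (c : F) = 1 ∨ (c : F) = -1 := by
    have : ((c : F) - 1) * ((c : F) + 1) = 0 := by linear_combination h1
    rcases mul_eq_zero.1 this with h | h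
    · exact Or.inl (sub_eq_zero.1 h)
    · exact Or.inr (eq_neg_of_add_eq_zero_left h)
  have key : (c : F) = 1 := by
    rcases h2 with h2 | h2
    · exact h2
    · by_cases h3 : (2 : F) = 0
      · have h4 : (-1 : F) = 1 := by linear_combination -h3
        rw [h2, h4]
      · exfalso
        refine neg_one_not_mem h3 nd minus (hP z.2) ?_
        rw [hc, h2, neg_one_smul]
  apply Subtype.ext
  apply Units.ext
  rw [hc, key, one_smul]
  rfl

/-- **The context.** -/
noncomputable def toOC {T : Type v} [Group T] (nd : IsNondegenerateQuadraticForm Q) (minus : ¬ IsPlusTypeOn Q ⊤)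
    {P : Subgroup (GL (Fin 8) F)} (hP : P ≤ omegaGL Q) (hirr : ActsAbsolutelyIrreducibly (matrixSet P))
    (e : Soc P ≃* T) : OC F T :=
  let e' : P ≃* T := (MulEquiv.ofBijective (toSoc P) ⟨by
    rw [← MonoidHom.ker_eq_bot_iff, ker_toSoc]
    exact scalars_bot nd minus hP, toSoc_surjective P⟩).trans e
  { ρ := P.subtype.comp e'.symm.toMonoidHom
    Q := Q
    nd := nd
    minus := minus
    mem := fun g => hP (e'.symm g).2
    irr := by
      have h1 : (P.subtype.comp e'.symm.toMonoidHom).range = P := by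
        ext x
        constructor
        · rintro ⟨y, rfl⟩
          exact (e'.symm y).2
        · intro hx
          refine ⟨e' ⟨x, hx⟩, ?_⟩
          change ((e'.symm (e' ⟨x, hx⟩) : P) : GL (Fin 8) F) = x
          rw [MulEquiv.symm_apply_apply]
      rw [h1]
      exact hirr
    inj := P.subtype_injective.comp e'.symm.injective }

end Cfsg.Agent.H917.Om
end

-- part: H875/TwoPlus
section
/-!
# Characteristic two, dimension 8: the invariant quadratic form is of plus type (helper875)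

* `quad_unique` : `P` a core covered by `SL_2(E)`, `char 2`: every invariant quadratic form vanishes where `qq` does;
* `W₂` : the second layer of the socle of the unipotent group; over `F` it has dimension at least that over `k`;
* `plus_two` : `Soc P ≃* PSL_2(E)`, `char 2`, dimension 8: `P` fixes `Q` ⟹ `Q` is of plus type;
* `omega_minus_eight` : no core with socle `PSL_2(E)`, defining characteristic, in `omegaGL Q`, `Q` of minus type,
  dimension 8, any characteristic.
-/

set_option autoImplicit false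
set_option linter.unusedSectionVars false
set_option linter.unusedSimpArgs false

namespace Cfsg.Agent.H875.TwoPlus

open Cfsg Cfsg.Geo Matrix Cfsg.Agent.H911.SLTwo Cfsg.Agent.H915.LD Cfsg.Agent.H875.Fn Cfsg.Agent.H875.Psl2
  Cfsg.Agent.H875.TwoQuad

universe u v w

/-! ### arithmetic -/

section arith

theorem SS_of_eight {r : ℕ} (h : (SS 2 r).card = 8) : ∃ a b c : ℕ, a < b ∧ b < c ∧ r = 2 ^ a + (2 ^ b + 2 ^ c) := by
  have := Fact.mk Nat.prime_two
  have key : ∀ {r : ℕ} (n : ℕ), n ≠ 0 → (SS 2 r).card = 2 * n →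
      ∃ a x, (SS 2 x).card = n ∧ r = 2 ^ a + 2 ^ (a + 1) * x := by
    intro r n hn h
    have hr : r ≠ 0 := by
      rintro rfl
      rw [card_SS_lt (by norm_num)] at h
      omega
    obtain ⟨a, c, x, hc0, hc, hr⟩ := exists_digit (p := 2) hr
    have hc1 : c = 1 := by omega
    subst hc1
    refine ⟨a, x, ?_, by rw [hr, mul_one]⟩
    have h1 : 2 ^ a * 1 < 2 ^ (a + 1) := by
      rw [pow_succ]
      exact Nat.mul_lt_mul_of_pos_left (by norm_num) (pow_pos (by norm_num) a)
    rw [hr, card_SS_add h1 (Dvd.intro _ rfl), card_SS_digit hc, card_SS_pow_mul] at h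
    omega
  obtain ⟨a, x, hx, hr⟩ := key 4 (by norm_num) h
  obtain ⟨b, y, hy, hx'⟩ := key 2 (by norm_num) hx
  obtain ⟨c, hc⟩ := eq_pow_of_card_two 2 hy
  refine ⟨a, a + 1 + b, a + 1 + (b + 1) + c, by omega, by omega, ?_⟩
  rw [hr, hx', hc]
  ring

theorem ne_of_two {a b c : ℕ} (hab : a < b) (hbc : b < c) {m m' : ℕ} (hm : m = 0 ∨ ∃ e, m = 2 ^ e)
    (hm' : m' = 0 ∨ ∃ e, m' = 2 ^ e) : m + m' ≠ 2 ^ a + (2 ^ b + 2 ^ c) := by
  have hab' : 2 ^ (a + 1) ≤ 2 ^ b := Nat.pow_le_pow_right (by norm_num) hab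
  have hbc' : 2 ^ (b + 1) ≤ 2 ^ c := Nat.pow_le_pow_right (by norm_num) hbc
  have ha0 : 0 < 2 ^ a := pow_pos (by norm_num) a
  rw [pow_succ] at hab' hbc'
  -- a power of two is not of this shape
  have key2 : ∀ {u v : ℕ}, 0 < u → u < 2 ^ v → ∀ e, 2 ^ e ≠ u + 2 ^ v := by
    intro u v hu huv e he
    rcases Nat.lt_or_ge v e with h1 | h1
    · have h2 : 2 ^ (v + 1) ≤ 2 ^ e := Nat.pow_le_pow_right (by norm_num) h1
      rw [pow_succ] at h2
      omega
    · have h2 : 2 ^ e ≤ 2 ^ v := Nat.pow_le_pow_right (by norm_num) h1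
      omega
  have key3 : ∀ e, 2 ^ e ≠ 2 ^ a + (2 ^ b + 2 ^ c) := by
    intro e he
    exact key2 (u := 2 ^ a + 2 ^ b) (v := c) (by omega) (by omega) e (by omega)
  have key4 : ∀ e f, e ≤ f → 2 ^ e + 2 ^ f ≠ 2 ^ a + (2 ^ b + 2 ^ c) := by
    intro e f hef he
    rcases Nat.eq_or_lt_of_le hef with rfl | hlt
    · exact key3 (e + 1) (by rw [pow_succ]; omega)
    · have h1 : 2 ^ (e + 1) ≤ 2 ^ f := Nat.pow_le_pow_right (by norm_num) hlt
      rw [pow_succ] at h1
      have he0 : 0 < 2 ^ e := pow_pos (by norm_num) e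
      rcases Nat.lt_trichotomy f c with h2 | h2 | h2
      · have h3 : 2 ^ (f + 1) ≤ 2 ^ c := Nat.pow_le_pow_right (by norm_num) h2
        rw [pow_succ] at h3
        omega
      · subst h2
        exact key2 (u := 2 ^ a) (v := b) (by omega) (by omega) e (by omega)
      · have h3 : 2 ^ (c + 1) ≤ 2 ^ f := Nat.pow_le_pow_right (by norm_num) h2
        rw [pow_succ] at h3
        omega
  intro h
  rcases hm with rfl | ⟨e, rfl⟩
  · rcases hm' with rfl | ⟨f, rfl⟩
    · omega
    · exact key3 f (by omega)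
  · rcases hm' with rfl | ⟨f, rfl⟩
    · exact key3 e (by omega)
    · rcases le_total e f with h1 | h1
      · exact key4 e f h1 h
      · exact key4 f e h1 (by omega)

/-- no proper submask -/
theorem eq_of_no_sub {m : ℕ} (h : ∀ l ∈ SS 2 m, l = 0 ∨ l = m) : m = 0 ∨ ∃ e, m = 2 ^ e := by
  have := Fact.mk Nat.prime_two
  by_cases hm : m = 0
  · exact Or.inl hm
  · right
    refine eq_pow_of_card_two 2 ?_
    have h1 : SS 2 m ⊆ {0, m} := by
      intro l hl
      rw [Finset.mem_insert, Finset.mem_singleton]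
      exact h l hl
    have h2 := Finset.card_le_card h1
    rw [Finset.card_pair (Ne.symm hm)] at h2
    have h3 := two_le_card_SS (p := 2) hm
    omega

theorem mem_three {a b c : ℕ} (hab : a < b) (hbc : b < c) :
    0 ∈ SS 2 (2 ^ a + (2 ^ b + 2 ^ c)) ∧ 2 ^ a ∈ SS 2 (2 ^ a + (2 ^ b + 2 ^ c)) ∧
      2 ^ b ∈ SS 2 (2 ^ a + (2 ^ b + 2 ^ c)) ∧ 2 ^ c ∈ SS 2 (2 ^ a + (2 ^ b + 2 ^ c)) := by
  have := Fact.mk Nat.prime_two
  have h1 : 2 ^ a < 2 ^ b := Nat.pow_lt_pow_right (by norm_num) hab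
  have h2 : 2 ^ b < 2 ^ c := Nat.pow_lt_pow_right (by norm_num) hbc
  have h3 : 2 ^ b ∣ 2 ^ b + 2 ^ c := (dvd_refl _).add (pow_dvd_pow 2 hbc.le)
  have key : ∀ {t r₁ r₂ m₁ m₂ : ℕ}, r₁ < 2 ^ t → 2 ^ t ∣ r₂ → m₁ ∈ SS 2 r₁ → m₂ ∈ SS 2 r₂ → m₁ + m₂ ∈ SS 2 (r₁ + r₂) := by
    intro t r₁ r₂ m₁ m₂ h1 h2 hm₁ hm₂
    exact (addEquiv h1 h2 (⟨m₁, hm₁⟩, ⟨m₂, hm₂⟩)).2
  have h4 : 2 ^ b ∈ SS 2 (2 ^ b + 2 ^ c) := by
    have := key h2 (dvd_refl _) (self_mem_SS (2 ^ b)) (zero_mem_SS (2 ^ c))
    rwa [add_zero] at this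
  have h5 : 2 ^ c ∈ SS 2 (2 ^ b + 2 ^ c) := by
    have := key h2 (dvd_refl _) (zero_mem_SS (2 ^ b)) (self_mem_SS (2 ^ c))
    rwa [zero_add] at this
  refine ⟨zero_mem_SS _, ?_, ?_, ?_⟩
  · have := key h1 h3 (self_mem_SS (2 ^ a)) (zero_mem_SS (2 ^ b + 2 ^ c))
    rwa [add_zero] at this
  · have := key h1 h3 (zero_mem_SS (2 ^ a)) h4
    rwa [zero_add] at this
  · have := key h1 h3 (zero_mem_SS (2 ^ a)) h5
    rwa [zero_add] at this

end arith

/-! ### additive polynomial functions -/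

section poly

open Polynomial

theorem coeff_of_additive {E : Type u} [Field E] [Fintype E] {k : Type v} [Field k] (j : E →+* k) {g : Polynomial k}
    (hg : g.natDegree < Fintype.card E) (h : ∀ t y : E, g.eval (j t + j y) - g.eval (j y) = g.eval (j t) - g.eval 0)
    {m l : ℕ} (hl0 : l ≠ 0) (hlm : l < m) : ((m.choose l : ℕ) : k) * g.coeff m = 0 := by
  have hinj : Function.Injective (j : E → k) := j.injective
  have h1 : ∀ y : E, taylor (j y) g = g + C (g.eval (j y) - g.eval 0) := by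
    intro y
    rw [← sub_eq_zero]
    refine eq_zero_of_natDegree_lt_card_of_eval_eq_zero _ hinj (fun t => ?_) ?_
    · rw [eval_sub, taylor_eval, eval_add, eval_C]
      linear_combination h t y
    · refine lt_of_le_of_lt (natDegree_sub_le_of_le (natDegree_taylor g (j y)).le
        (natDegree_add_le_of_degree_le le_rfl ((natDegree_C _).le.trans (Nat.zero_le _)))) ?_
      rwa [max_self]
  have hn : m - l ≠ 0 := by omega
  have h2 : hasseDeriv (m - l) g = C (g.coeff (m - l)) := by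
    rw [← sub_eq_zero]
    refine eq_zero_of_natDegree_lt_card_of_eval_eq_zero _ hinj (fun y => ?_) ?_
    · rw [eval_sub, eval_C, ← taylor_coeff, h1, coeff_add, coeff_C, if_neg hn]
      ring
    · refine lt_of_le_of_lt (natDegree_sub_le_of_le (natDegree_hasseDeriv_le g _) (natDegree_C _).le) ?_
      have : max (g.natDegree - (m - l)) 0 ≤ g.natDegree := max_le (Nat.sub_le _ _) (Nat.zero_le _)
      omega
  have h3 := congrArg (fun f => coeff f l) h2
  rw [hasseDeriv_coeff, coeff_C, if_neg hl0] at h3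
  have h4 : l + (m - l) = m := by omega
  rw [h4, Nat.choose_symm hlm.le] at h3
  exact h3

end poly

/-! ### the second layer of the socle of the unipotent group -/

section layer

variable {E : Type u} [Field E] [Fintype E] {k : Type v} [Field k] {V : Type w} [AddCommGroup V] [Module k V]

/-- the second layer -/
def W₂ (R : SpecialLinearGroup (Fin 2) E →* Module.End k V) : Submodule k V :=
  ⨅ s : E, ⨅ t : E, LinearMap.ker ((R (U s) - 1) * (R (U t) - 1))

theorem mem_W₂ {R : SpecialLinearGroup (Fin 2) E →* Module.End k V} {v : V} :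
    v ∈ W₂ R ↔ ∀ s t : E, R (U s) (R (U t) v - v) = R (U t) v - v := by
  unfold W₂
  simp only [Submodule.mem_iInf, LinearMap.mem_ker, Module.End.mul_apply, LinearMap.sub_apply, Module.End.one_apply,
    sub_eq_zero]

end layer

section coeff

variable {E : Type u} [Field E] [Fintype E] {k : Type v} [Field k] (j : E →+* k) [CharP k 2]

open Polynomial in
/-- coefficients of the second layer -/
theorem repr_eq_zero {r : ℕ} (hr : r ≤ Fintype.card E - 1) {x : L j r}
    (h : ∀ s t : E, act E k (U s) (act E k (U t) x - x) = act E k (U t) x - x) (m : SS 2 r) {l : ℕ}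
    (hl : l ∈ SS 2 (m : ℕ)) (hl0 : l ≠ 0) (hlm : l ≠ m) : (bas j 2 hr).repr x m = 0 := by
  have := Fact.mk Nat.prime_two
  set c := (bas j 2 hr).repr x with hc
  let g : Polynomial k := ∑ m : SS 2 r, C (c m) * X ^ (m : ℕ)
  have hgd : g.natDegree ≤ r := natDegree_sum_le_of_forall_le _ _ fun m _ =>
    (natDegree_C_mul_X_pow_le _ _).trans (mem_SS.1 m.2).1
  have hcard := two_le_card (E := E)
  have hge : ∀ y : E, g.eval (j y) = (x : E × E → k) (1, y) := by
    intro y
    have h1 := (bas j 2 hr).sum_repr x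
    have h2 : (x : E × E → k) (1, y) = ∑ m : SS 2 r, c m * j y ^ (m : ℕ) := by
      conv_lhs => rw [← h1]
      rw [Submodule.coe_sum, Finset.sum_apply]
      refine Finset.sum_congr rfl fun m _ => ?_
      rw [Submodule.coe_smul, Pi.smul_apply, bas_apply, mono_apply, map_one, one_pow, one_mul, smul_eq_mul]
    rw [h2]
    change (∑ m : SS 2 r, C (c m) * X ^ (m : ℕ)).eval (j y) = _
    rw [eval_finsetSum]
    refine Finset.sum_congr rfl fun m _ => ?_
    rw [eval_mul, eval_C, eval_pow, eval_X]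
  have hadd : ∀ t y : E, g.eval (j t + j y) - g.eval (j y) = g.eval (j t) - g.eval 0 := by
    intro t y
    have h1 := congrFun (h y t) (1, 0)
    rw [act_apply, vm_U] at h1
    rw [Pi.sub_apply, Pi.sub_apply, act_apply, act_apply, vm_U, vm_U] at h1
    simp only [one_mul, add_zero] at h1
    rw [← map_add, hge, hge, hge, ← map_zero j, hge]
    rw [← h1]
  have h1 := coeff_of_additive j (g := g) (by omega) hadd hl0
    (lt_of_le_of_ne (mem_SS.1 hl).1 hlm)
  have h2 : g.coeff (m : ℕ) = c m := by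
    change (∑ m : SS 2 r, C (c m) * X ^ (m : ℕ)).coeff (m : ℕ) = _
    rw [finsetSum_coeff, Finset.sum_eq_single m]
    · rw [coeff_C_mul_X_pow, if_pos rfl]
    · intro b _ hb
      rw [coeff_C_mul_X_pow, if_neg]
      intro h
      exact hb (Subtype.ext h.symm)
    · intro h
      exact absurd (Finset.mem_univ _) h
  rw [h2, choose_eq_one hl, one_mul] at h1
  exact h1

/-- the form vanishes on the second layer -/
theorem QL_eq_zero {r : ℕ} (hr : r ≤ Fintype.card E - 1) (h8 : (SS 2 r).card = 8) {x : L j r}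
    (h : ∀ s t : E, act E k (U s) (act E k (U t) x - x) = act E k (U t) x - x) : QL j hr x = 0 := by
  obtain ⟨a, b, c, hab, hbc, hrr⟩ := SS_of_eight h8
  unfold QL
  rw [← (bas j 2 hr).sum_repr x]
  simp only [map_sum, LinearMap.sum_apply, map_smul, LinearMap.smul_apply, smul_eq_mul, Bq_bas]
  refine Finset.sum_eq_zero fun m _ => ?_
  rw [Finset.mul_sum]
  refine Finset.sum_eq_zero fun m' _ => ?_
  by_cases hmm : m = cpl 2 r m'
  · by_cases h1 : ∃ l ∈ SS 2 (m : ℕ), l ≠ 0 ∧ l ≠ m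
    · obtain ⟨l, hl, hl0, hlm⟩ := h1
      rw [repr_eq_zero j hr h m hl hl0 hlm]
      ring
    · by_cases h2 : ∃ l ∈ SS 2 (m' : ℕ), l ≠ 0 ∧ l ≠ m'
      · obtain ⟨l, hl, hl0, hlm⟩ := h2
        rw [repr_eq_zero j hr h m' hl hl0 hlm]
        ring
      · exfalso
        push Not at h1 h2
        have h3 := eq_of_no_sub fun l hl => by
          by_cases hl0 : l = 0
          · exact Or.inl hl0
          · exact Or.inr (h1 l hl hl0)
        have h4 := eq_of_no_sub fun l hl => by
          by_cases hl0 : l = 0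
          · exact Or.inl hl0
          · exact Or.inr (h2 l hl hl0)
        apply ne_of_two hab hbc h3 h4
        rw [hmm, ← hrr]
        have h5 := (mem_SS.1 m'.2).1
        change r - (m' : ℕ) + m' = r
        omega
  · rw [if_neg (fun h => hmm h.1)]
    ring

/-- the powers of two give elements of the second layer -/
theorem mono_layer {r m : ℕ} (hm : m ≤ r) (h : m = 0 ∨ ∃ e, m = 2 ^ e) (s t : E) :
    act E k (U s) (act E k (U t) (mono j (r - m) m) - mono j (r - m) m) =
      act E k (U t) (mono j (r - m) m) - mono j (r - m) m := by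
  have h1 : ∃ a : k, act E k (U t) (mono j (r - m) m) - mono j (r - m) m = a • mono j r 0 := by
    rcases h with rfl | ⟨e, rfl⟩
    · refine ⟨0, ?_⟩
      rw [Nat.sub_zero, act_U_mono, sub_self, zero_smul]
    · refine ⟨j t ^ 2 ^ e, ?_⟩
      funext v
      rw [Pi.sub_apply, Pi.smul_apply, act_apply, vm_U]
      unfold mono
      simp only
      rw [map_add, map_mul, add_pow_char_pow, mul_pow, smul_eq_mul, pow_zero, mul_one]
      have h3 : j v.1 ^ r = j v.1 ^ (r - 2 ^ e) * j v.1 ^ 2 ^ e := by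
        rw [← pow_add]
        congr 1
        omega
      rw [h3]
      ring
  obtain ⟨a, ha⟩ := h1
  rw [ha, map_smul, act_U_mono]

end coeff

/-! ### descent -/

section descent

variable {ι : Type} [Fintype ι] [DecidableEq ι] {F : Type u} [Field F] {E : Type w} [Field E] [Fintype E]
  {ρ : SpecialLinearGroup (Fin 2) E →* GL ι F} {k : Type v} [Field k] [Algebra F k]

theorem coord_lin (φ : k →ₗ[F] F) (g : SpecialLinearGroup (Fin 2) E) (v : ι → k) :
    (fun a => φ (lin ρ (algebraMap F k) g v a)) = lin ρ (RingHom.id F) g (fun a => φ (v a)) := by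
  funext a
  rw [lin_apply', lin_apply']
  simp only [Matrix.mulVec, dotProduct, map_sum, Matrix.map_apply, RingHom.id_apply]
  refine Finset.sum_congr rfl fun b _ => ?_
  rw [← Algebra.smul_def, map_smul, smul_eq_mul]

theorem coord_mem (φ : k →ₗ[F] F) {v : ι → k} (hv : v ∈ W₂ (lin ρ (algebraMap F k))) :
    (fun a => φ (v a)) ∈ W₂ (lin ρ (RingHom.id F)) := by
  rw [mem_W₂] at hv ⊢
  intro s t
  have h1 : ∀ w : ι → k, (lin ρ (RingHom.id F) (U t) fun a => φ (w a)) - (fun a => φ (w a)) =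
      fun a => φ ((lin ρ (algebraMap F k) (U t) w - w) a) := by
    intro w
    rw [← coord_lin]
    funext a
    exact (map_sub φ _ _).symm
  rw [h1, ← coord_lin, hv]

theorem mem_span_bc {W : Submodule F (ι → F)} {v : ι → k} (h : ∀ φ : k →ₗ[F] F, (fun a => φ (v a)) ∈ W) :
    v ∈ Submodule.span k (bc (algebraMap F k) '' (W : Set (ι → F))) := by
  classical
  let b := Module.Basis.ofVectorSpace F k
  let T := Finset.univ.biUnion fun a : ι => (b.repr (v a)).support
  have h1 : v = ∑ c ∈ T, b c • bc (algebraMap F k) (fun a => b.coord c (v a)) := by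
    funext a
    rw [Finset.sum_apply]
    conv_lhs => rw [← b.linearCombination_repr (v a)]
    rw [Finsupp.linearCombination_apply, Finsupp.sum_of_support_subset _ (s := T)]
    · refine Finset.sum_congr rfl fun c _ => ?_
      rw [Pi.smul_apply, smul_eq_mul, mul_comm]
      exact Algebra.smul_def _ _
    · exact Finset.subset_biUnion_of_mem (fun a : ι => (b.repr (v a)).support) (Finset.mem_univ a)
    · intro c _
      exact zero_smul _ _
  rw [h1]
  exact Submodule.sum_mem _ fun c _ => Submodule.smul_mem _ _ (Submodule.subset_span ⟨_, h (b.coord c), rfl⟩)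

theorem finrank_span_bc (W : Submodule F (ι → F)) :
    Module.finrank k (Submodule.span k (bc (algebraMap F k) '' (W : Set (ι → F)))) ≤ Module.finrank F W := by
  let B := Module.finBasis F W
  have h1 : Submodule.span k (bc (algebraMap F k) '' (W : Set (ι → F))) ≤
      Submodule.span k (Set.range fun n => bc (algebraMap F k) ((B n : W) : ι → F)) := by
    rw [Submodule.span_le]
    rintro _ ⟨v, hv, rfl⟩
    have h2 : v = ∑ n, B.repr ⟨v, hv⟩ n • ((B n : W) : ι → F) := by
      have h3 := congrArg (Subtype.val) (B.sum_repr ⟨v, hv⟩)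
      rw [Submodule.coe_sum] at h3
      exact h3.symm
    have h3 : bc (algebraMap F k) v = ∑ n, algebraMap F k (B.repr ⟨v, hv⟩ n) • bc (algebraMap F k) ((B n : W) : ι → F) := by
      conv_lhs => rw [h2]
      funext a
      rw [Finset.sum_apply]
      unfold bc
      rw [Finset.sum_apply, map_sum]
      refine Finset.sum_congr rfl fun n _ => ?_
      rw [Pi.smul_apply, Pi.smul_apply, smul_eq_mul, smul_eq_mul, map_mul]
    rw [SetLike.mem_coe, h3]
    exact Submodule.sum_mem _ fun n _ => Submodule.smul_mem _ _ (Submodule.subset_span ⟨n, rfl⟩)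
  refine (Submodule.finrank_mono h1).trans ?_
  have h2 := finrank_range_le_card (R := k) (fun n => bc (algebraMap F k) ((B n : W) : ι → F))
  rw [Fintype.card_fin] at h2
  exact h2

theorem finrank_le :
    Module.finrank k (W₂ (lin ρ (algebraMap F k))) ≤ Module.finrank F (W₂ (lin ρ (RingHom.id F))) := by
  refine le_trans (Submodule.finrank_mono ?_) (finrank_span_bc (k := k) _)
  intro v hv
  exact mem_span_bc fun φ => coord_mem φ hv

theorem bc_mem {v : ι → F} (hv : v ∈ W₂ (lin ρ (RingHom.id F))) :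
    bc (algebraMap F k) v ∈ W₂ (lin ρ (algebraMap F k)) := by
  rw [mem_W₂] at hv ⊢
  intro s t
  have h1 : ∀ (g : SpecialLinearGroup (Fin 2) E) (w : ι → F), lin ρ (RingHom.id F) g w = (ρ g : Matrix ι ι F) *ᵥ w := by
    intro g w
    rw [lin_apply']
    congr 1
  have h2 : ∀ (g : SpecialLinearGroup (Fin 2) E) (w : ι → F),
      lin ρ (algebraMap F k) g (bc (algebraMap F k) w) = bc (algebraMap F k) (lin ρ (RingHom.id F) g w) := by
    intro g w
    rw [lin_bc, h1]
  have h3 : ∀ a b : ι → F, bc (algebraMap F k) (a - b) = bc (algebraMap F k) a - bc (algebraMap F k) b := by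
    intro a b
    funext c
    exact map_sub _ _ _
  rw [h2, ← h3, h2, hv]

end descent

/-! ### the form -/

section core

variable {ι : Type} [Fintype ι] [DecidableEq ι] {F : Type u} [Field F] {E : Type w} [Field E] [Fintype E]
  {P : Subgroup (GL ι F)}

/-- an invariant semilinear function is zero -/
theorem semi_zero (hC : Core P) {D : (ι → F) → F} (hadd : ∀ x y, D (x + y) = D x + D y)
    (hsmul : ∀ (c : F) x, D (c • x) = c ^ 2 * D x) (hinv : ∀ g ∈ P, ∀ x, D ((g : Matrix ι ι F) *ᵥ x) = D x)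
    (v : ι → F) : D v = 0 := by
  have h0 : D 0 = 0 := by
    have h1 := hsmul 0 0
    rw [zero_smul] at h1
    rw [h1]
    ring
  let W : Submodule F (ι → F) :=
    { carrier := {x | D x = 0}
      add_mem' := fun {a b} ha hb => by
        change D (a + b) = 0
        rw [hadd, ha, hb, add_zero]
      zero_mem' := h0
      smul_mem' := fun c x hx => by
        change D (c • x) = 0
        rw [hsmul, hx, mul_zero] }
  rcases hC.absIrred.1 W (by
    rintro _ ⟨g, hg, rfl⟩ _ ⟨x, hx, rfl⟩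
    rw [Matrix.toLin'_apply]
    change D _ = 0
    rw [hinv g hg]
    exact hx) with h | h
  · exfalso
    have h1 : ∀ g ∈ P, g = 1 := by
      intro g hg
      apply Units.ext
      rw [Units.val_one]
      refine Matrix.mulVec_injective (funext fun x => ?_)
      have h2 : (g : Matrix ι ι F) *ᵥ x - x ∈ W := by
        change D _ = 0
        have h3 : (g : Matrix ι ι F) *ᵥ x - x = (g : Matrix ι ι F) *ᵥ x + (-1 : F) • x := by
          rw [neg_one_smul, sub_eq_add_neg]
        have h4 : D ((g : Matrix ι ι F) *ᵥ x - x + x) = D ((g : Matrix ι ι F) *ᵥ x - x) + D x := hadd _ _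
        rw [sub_add_cancel, hinv g hg] at h4
        exact (left_eq_add.1 (h4.trans (add_comm _ _)))
      rw [h] at h2
      rw [Matrix.one_mulVec]
      exact sub_eq_zero.1 ((Submodule.mem_bot F).1 h2)
    apply hC.nonabelian
    refine ⟨⟨fun a b => ?_⟩⟩
    have h2 : Subsingleton P := ⟨fun a b => Subtype.ext ((h1 a a.2).trans (h1 b b.2).symm)⟩
    have h3 : Subsingleton (P ⧸ (scalars ι F).subgroupOf P) := (QuotientGroup.mk_surjective).subsingleton
    exact Subsingleton.elim _ _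
  · have h1 : v ∈ W := by rw [h]; trivial
    exact h1

variable {θ : SpecialLinearGroup (Fin 2) E →* P} {k : Type v} [Field k] [Algebra F k] {j : E →+* k}
  {r : ℕ} {Φ : (ι → k) →ₗ[k] (E × E → k)} [CharP k 2]

/-- **Uniqueness of the invariant quadratic form.** -/
theorem quad_unique (hC : Core P) (hθ : Function.Surjective θ)
    (hM : IsModel j (lin (P.subtype.comp θ) (algebraMap F k)) r Φ) (h4 : 4 ∣ (SS 2 r).card) {Q : (ι → F) → F}
    (hQ : IsNondegenerateQuadraticForm Q) (hPQ : FixesQuadForm (matrixSet P) Q) {v : ι → F} (hv : qq hM v = 0) :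
    Q v = 0 := by
  obtain ⟨τ, h1, h2⟩ := quad_of hC hθ hM h4
  have hpol : ∀ {Q : (ι → F) → F}, FixesQuadForm (matrixSet P) Q → FixesForm (matrixSet P) (QuadraticMap.polar Q) := by
    intro Q hQ s hs u v
    unfold QuadraticMap.polar
    rw [← Matrix.mulVec_add, hQ s hs, hQ s hs, hQ s hs]
  obtain ⟨c, hc⟩ := H920.form_unique hC.absIrred h1.polar_bilinear h1.nondegenerate (hpol h2) hQ.polar_bilinear
    (hpol hPQ)
  have h3 := semi_zero hC (D := fun x => Q x - c * τ (qq hM x)) ?_ ?_ ?_ v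
  · rw [hv, map_zero, mul_zero, sub_zero] at h3
    exact h3
  · intro x y
    have h5 := hc x y
    unfold QuadraticMap.polar at h5
    linear_combination h5
  · intro a x
    have h5 := h1.smul a x
    have h6 := hQ.smul a x
    rw [h5, h6]
    ring
  · intro g hg x
    have h5 : τ (qq hM ((g : Matrix ι ι F) *ᵥ x)) = τ (qq hM x) := h2 _ ⟨g, hg, rfl⟩ x
    have h6 : Q ((g : Matrix ι ι F) *ᵥ x) = Q x := hPQ _ ⟨g, hg, rfl⟩ x
    change Q ((g : Matrix ι ι F) *ᵥ x) - c * τ (qq hM ((g : Matrix ι ι F) *ᵥ x)) = Q x - c * τ (qq hM x)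
    rw [h5, h6]

/-- four-dimensional subspaces -/
theorem exists_sub {F : Type u} [Field F] {M : Type v} [AddCommGroup M] [Module F M] [Module.Finite F M]
    (W : Submodule F M) {n : ℕ} (hn : n ≤ Module.finrank F W) :
    ∃ W' : Submodule F M, W' ≤ W ∧ Module.finrank F W' = n := by
  let B := Module.finBasis F W
  let f : Fin n → M := fun a => ((B (Fin.castLE hn a) : W) : M)
  have h1 : LinearIndependent F f := by
    have h2 := (B.linearIndependent.comp (Fin.castLE hn) (Fin.castLE_injective hn))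
    exact h2.map' W.subtype (Submodule.ker_subtype W)
  refine ⟨Submodule.span F (Set.range f), ?_, ?_⟩
  · rw [Submodule.span_le]
    rintro _ ⟨a, rfl⟩
    exact (B (Fin.castLE hn a) : W).2
  · rw [finrank_span_eq_card h1, Fintype.card_fin]

end core

/-! ### the dimension of the second layer -/

section dim

variable {ι : Type} [Fintype ι] [DecidableEq ι] {F : Type u} [Field F] {E : Type w} [Field E] [Fintype E]
  {ρ : SpecialLinearGroup (Fin 2) E →* GL ι F} {k : Type v} [Field k] {i : F →+* k} {j : E →+* k}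
  {r : ℕ} {Φ : (ι → k) →ₗ[k] (E × E → k)} [CharP k 2]

theorem mem_iff (hM : IsModel j (lin ρ i) r Φ) {v : ι → k} : v ∈ W₂ (lin ρ i) ↔
    ∀ s t : E, act E k (U s) (act E k (U t) (Φ v) - Φ v) = act E k (U t) (Φ v) - Φ v := by
  rw [mem_W₂]
  refine forall_congr' fun s => forall_congr' fun t => ?_
  rw [← hM.act, ← map_sub, ← hM.act]
  exact hM.inj.eq_iff.symm

theorem four_le_finrank (hM : IsModel j (lin ρ i) r Φ) (h8 : (SS 2 r).card = 8) :
    4 ≤ Module.finrank k (W₂ (lin ρ i)) := by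
  obtain ⟨a, b, c, hab, hbc, hrr⟩ := SS_of_eight h8
  obtain ⟨h0, ha, hb, hc⟩ := mem_three hab hbc
  rw [← hrr] at h0 ha hb hc
  have hab' : 2 ^ a < 2 ^ b := Nat.pow_lt_pow_right (by norm_num) hab
  have hbc' : 2 ^ b < 2 ^ c := Nat.pow_lt_pow_right (by norm_num) hbc
  have ha' : 0 < 2 ^ a := pow_pos (by norm_num) a
  let f : Fin 4 → SS 2 r := ![⟨0, h0⟩, ⟨2 ^ a, ha⟩, ⟨2 ^ b, hb⟩, ⟨2 ^ c, hc⟩]
  have hf : StrictMono fun n => ((f n : SS 2 r) : ℕ) := by
    rw [Fin.strictMono_iff_lt_succ]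
    intro n
    fin_cases n
    · exact ha'
    · exact hab'
    · exact hbc'
  have hinj : Function.Injective f := by
    intro x y hxy
    exact hf.injective (congrArg Subtype.val hxy)
  have hpow : ∀ n, ((f n : SS 2 r) : ℕ) = 0 ∨ ∃ e, ((f n : SS 2 r) : ℕ) = 2 ^ e := by
    intro n
    fin_cases n
    · exact Or.inl rfl
    · exact Or.inr ⟨a, rfl⟩
    · exact Or.inr ⟨b, rfl⟩
    · exact Or.inr ⟨c, rfl⟩
  let B := (bas j 2 hM.le).map (psiK hM).symm
  have hB : ∀ m, Φ (B m) = mono j (r - m) m := by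
    intro m
    rw [← psiK_coe hM]
    change ((psiK hM ((psiK hM).symm (bas j 2 hM.le m)) : L j r) : E × E → k) = _
    rw [LinearEquiv.apply_symm_apply, bas_apply]
  have hmem : ∀ n, B (f n) ∈ W₂ (lin ρ i) := by
    intro n
    rw [mem_iff hM]
    intro s t
    rw [hB]
    exact mono_layer j (mem_SS.1 (f n).2).1 (hpow n) s t
  have hli : LinearIndependent k fun n : Fin 4 => (⟨B (f n), hmem n⟩ : W₂ (lin ρ i)) := by
    refine LinearIndependent.of_comp (W₂ (lin ρ i)).subtype ?_
    exact B.linearIndependent.comp f hinj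
  have h := hli.fintype_card_le_finrank
  rwa [Fintype.card_fin] at h

end dim

section final

variable {ι : Type} [Fintype ι] [DecidableEq ι] {F : Type u} [Field F] [Fintype F] {E : Type w} [Field E] [Fintype E]
  {H P : Subgroup (GL ι F)}

/-- **Dimension eight, characteristic two: the form is of plus type.** -/
theorem plus_two [CharP E 2] [CharP F 2] (hC : Core P) (e : Soc P ≃* ProjectiveSpecialLinearGroup (Fin 2) E)
    (hn : Fintype.card ι = 8) {Q : (ι → F) → F} (hQ : IsNondegenerateQuadraticForm Q)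
    (hPQ : FixesQuadForm (matrixSet P) Q) : IsPlusTypeOn Q ⊤ := by
  have := Fact.mk Nat.prime_two
  obtain ⟨θ, hsurj, -⟩ := DefCov.exists_cover (m := 1) hC 2 (perf hC e) e
  obtain ⟨j⟩ := exists_emb F E 2
  have hk : CharP (AlgebraicClosure F) 2 := charP_of_injective_ringHom (algebraMap F (AlgebraicClosure F)).injective 2
  obtain ⟨s, r₀, Φ, hs0, hs, hr0, hlt, hcard, hM⟩ := exists_param 2 θ hC hsurj (algebraMap F (AlgebraicClosure F)) j
  have h8 := hM.finrank 2
  rw [Module.finrank_fintype_fun_eq_card, hn] at h8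
  have h1 := four_le_finrank hM h8.symm
  obtain ⟨W, hW, hW4⟩ := exists_sub _ (h1.trans finrank_le)
  refine ⟨W, le_top, ?_, ?_⟩
  · intro w hw
    refine quad_unique hC hsurj hM (by rw [← h8]; decide) hQ hPQ ?_
    have h2 := (mem_iff hM).1 (bc_mem (k := AlgebraicClosure F) (hW hw))
    unfold qq
    exact QL_eq_zero j hM.le h8.symm h2
  · rw [hW4, finrank_top, Module.finrank_fintype_fun_eq_card, hn]

/-- **`PSL_2(E)` is not in `Ω_8^-(F)`**, defining characteristic. -/
theorem omega_minus_eight (p : ℕ) [hp : Fact p.Prime] [CharP E p] [CharP F p] {Q : (ι → F) → F}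
    (hQ : IsNondegenerateQuadraticForm Q) (hminus : ¬ IsPlusTypeOn Q ⊤) (hn : Fintype.card ι = 8)
    (hH : IsMaximalIn (omegaGL Q) H) (hc : IsResidualCore H P) (e : Soc P ≃* ProjectiveSpecialLinearGroup (Fin 2) E) :
    False := by
  by_cases h2 : (2 : F) = 0
  · have hp2 : p = 2 := by
      have h1 : ((2 : ℕ) : F) = 0 := by exact_mod_cast h2
      exact (Nat.prime_dvd_prime_iff_eq hp.out Nat.prime_two).1 ((CharP.cast_eq_zero_iff F p 2).1 h1)
    subst hp2
    refine hminus (plus_two (core_of_residual hc) e hn hQ ?_)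
    rintro _ ⟨x, hx, rfl⟩ v
    exact H925.mem_iso_iff.1 (H925.omegaGL_le_iso Q (hH.1.le (hc.le hx))) v
  · exact PslRows.omega_eight p h2 hQ hn hH hc e

end final

end Cfsg.Agent.H875.TwoPlus
end

-- part: H917/OmOwn
section
/-!
# `Ω₈⁻(q)`: the residual class, defining characteristic (helper917, row S5827)
-/

set_option autoImplicit false
set_option linter.unusedSectionVars false

namespace Cfsg.Agent.H917.Om

open Cfsg Cfsg.Geo Module Matrix Cfsg.Agent.H915.LD

universe u v

/-- the conclusion -/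
def Concl (F : Type u) [Field F] [Fintype F] (T : Type v) [Group T] : Prop :=
  (Nonempty (T ≃* ProjectiveSpecialLinearGroup (Fin 3) F) ∧ Fintype.card F % 3 = 2) ∨
  ((∃ (K : Type) (_ : Field K) (_ : Fintype K), Fintype.card K = Fintype.card F ^ 2 ∧
    Nonempty (T ≃* PSU 3 K (Fintype.card F))) ∧ Fintype.card F % 3 = 1)

variable {F : Type u} [Field F] [Fintype F] {Q : (Fin 8 → F) → F} {H P : Subgroup (GL (Fin 8) F)}

theorem own (p : ℕ) [hp : Fact p.Prime] [CharP F p] (nd : IsNondegenerateQuadraticForm Q)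
    (minus : ¬ IsPlusTypeOn Q ⊤) (hH : IsMaximalIn (omegaGL Q) H) (hc : IsResidualCore H P)
    (hL : IsLieTypeChar p (Soc P)) : Concl F (Soc P) := by
  have hC := core_of_residual hc
  have hs := hC.simple
  have h8 : Fintype.card (Fin 8) = 8 := Fintype.card_fin 8
  have hle : P ≤ omegaGL Q := hc.le.trans hH.1.le
  have hfix : FixesQuadForm (matrixSet P) Q := by
    rintro _ ⟨x, hx, rfl⟩ v
    exact mem_omegaGL_fix (hle hx) v
  have hFQ : FixQ P := ⟨Q, nd, hfix⟩
  have hsd : SD P := H879.Nine.sd_of_fixQ hFQ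
  rcases H905.Md.small_dc hC.absIrred.1 hC.perfect hL (by rw [h8]; norm_num) with h | h | h | h | h | h | h | h | h | h | h
  · obtain ⟨K, i1, i2, i3, l, hl, hK, ⟨e⟩⟩ := h
    rcases (show l = 1 ∨ l = 2 ∨ 3 ≤ l by omega) with rfl | rfl | hl3
    · exact (H875.TwoPlus.omega_minus_eight p nd minus h8 hH hc e).elim
    · left
      obtain ⟨h1, -, h2, h4⟩ := H911.Ad.sd_psl3 (p := p) hC hsd e (by rw [h8]; norm_num)
      have hp3 : p ≠ 3 := by
        rcases h2 with h2 | h2
        · exact h2.1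
        · have := h2.2; omega
      have hne1 : Nat.card F % 3 ≠ 1 := fun h => minus (h4 h Q nd hfix)
      have hne0 : Nat.card F % 3 ≠ 0 := by
        intro h0
        have h5 : 3 ∣ Fintype.card F := by rw [← Nat.card_eq_fintype_card]; exact Nat.dvd_of_mod_eq_zero h0
        obtain ⟨k, -, hk⟩ := FiniteField.card F p
        rw [hk] at h5
        exact hp3 ((Nat.prime_dvd_prime_iff_eq Nat.prime_three hp.out).1 (Nat.prime_three.dvd_of_dvd_pow h5)).symm
      refine ⟨⟨e.trans (LieClassical.FieldTransfer.pslCongr (ι := Fin 3) (FiniteField.ringEquivOfCardEq ?_))⟩, ?_⟩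
      · rw [← Nat.card_eq_fintype_card, ← Nat.card_eq_fintype_card, h1]
      · rw [← Nat.card_eq_fintype_card]
        omega
    · exfalso
      rcases (show l + 1 < 8 ∨ l + 1 = 8 ∨ 9 ≤ l + 1 by omega) with h | h | h
      · have := (H887.DS.sd_of_psl p hC (m := l + 1) (by omega) (by rw [h8]; exact h) (by rw [h8]; omega) e).2.1
        omega
      · have h1 := H905.Md.psl_eq p hC.absIrred hC.perfect hl hK e hC.no_subfield h.symm
        rw [h1.2] at hFQ
        exact H879.Nine.not_fixQ_sl (by norm_num) hFQ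
      · have h1 := H905.Md.psl_rank p hC.absIrred hC.perfect hl hK e
        rw [h8] at h1
        omega
  · exfalso
    obtain ⟨K, i1, i2, i3, m, hm, hm8, hK, ⟨e⟩⟩ := h
    rw [h8] at hm8
    rcases (show m = 2 ∨ m = 3 ∨ m = 4 by omega) with rfl | rfl | rfl
    · obtain ⟨-, -, h1⟩ := H905.Sp4.core_psp4 (p := p) hC (by rw [Nat.card_eq_fintype_card]; exact hK rfl) e
        (by rw [h8]; norm_num)
      rw [h8] at h1
      omega
    · rcases H924.D5.psp6 (p := p) hC (by rw [h8]; norm_num) e with ⟨-, h⟩ | h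
      · have := h.card_eq
        simp at this
      · exact minus (h.plus nd hfix)
    · obtain ⟨-, h1⟩ := H925.Nat.psp (p := p) hC (by rw [h8]; norm_num) le_rfl (by norm_num) e
      exact h1.sp_not_fixQ (by norm_num) hFQ
  · obtain ⟨K, i1, i2, i3, N, q, hKq, hN, hN8, hq, ⟨e⟩⟩ := h
    rcases (show N = 3 ∨ N = 4 ∨ 5 ≤ N by omega) with rfl | rfl | hN5
    · right
      have hq3 : 3 ≤ q := by
        have h1 : 1 < Fintype.card K := Fintype.one_lt_card
        rw [hKq] at h1
        by_contra hcon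
        have h4 : q ≠ 2 := fun h => hq ⟨rfl, h⟩
        interval_cases q <;> simp at h1 h4
      obtain ⟨h1, h2⟩ := H929.U3.mod_three_psu3 p hC hq3 hKq e h8 nd hfix minus
      rw [Nat.card_eq_fintype_card] at h1
      subst h1
      exact ⟨⟨K, i1, i2, hKq, ⟨e⟩⟩, h2⟩
    · have := H876.D3.core_psu_four p K (by rw [h8]; norm_num) hKq hC e
      rw [h8] at this
      omega
    · exact (H879.Nine.own_psu (p := p) (by norm_num) hC hsd hN5 hKq e).elim
  · exfalso
    obtain ⟨rfl, K, i1, i2, m, hm, hK, ⟨e⟩⟩ := h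
    exact H861.SzN.sz_false hC hm hK e (by rw [h8]; norm_num) (by rw [h8]; norm_num)
  · exfalso
    obtain ⟨rfl, K, i1, i2, m, hm, hK, ⟨e⟩⟩ := h
    have := H708.ReeSix.ree_eq_seven hC hm hK e (by rw [h8]; norm_num)
    omega
  · exfalso
    obtain ⟨K, i1, i2, i3, m, hm, hm8, hodd, ⟨e⟩⟩ := h
    rw [h8] at hm8
    have h2 : (2 : K) ≠ 0 := by
      intro h0
      have h3 : CharP K 2 := CharTwo.of_one_ne_zero_of_two_eq_zero one_ne_zero h0
      obtain ⟨k, -, hk⟩ := FiniteField.card K 2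
      rw [hk] at hodd
      exact absurd hodd (by
        rw [Nat.not_odd_iff_even]
        exact (even_two).pow_of_ne_zero k.ne_zero)
    rcases (show m = 3 ∨ m = 4 by omega) with rfl | rfl
    · rcases H924.D5.po7 (p := p) hC (by rw [h8]; norm_num) h2 e with ⟨-, h⟩ | h
      · have := h.card_eq
        simp at this
      · exact minus (h.plus nd hfix)
    · have h1 := (H925.Nat.po_odd (p := p) hC (by rw [h8]; norm_num) le_rfl (by norm_num) h2 e).2.card_eq
      simp at h1
  · exfalso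
    obtain ⟨K, i1, i2, i3, m, hm, hm8, ⟨e⟩⟩ := h
    rw [h8] at hm8
    obtain rfl : m = 4 := by omega
    exact minus ((H924.D5.po8plus (p := p) hC (by rw [h8]; norm_num) e).plus nd hfix)
  · exfalso
    obtain ⟨K, i1, i2, i3, m, a, b, hm, hm8, hab, ⟨e⟩⟩ := h
    rw [h8] at hm8
    rcases (show m = 4 ∨ m = 5 by omega) with rfl | rfl
    · rcases H924.D5.po8minus (p := p) hC (by rw [h8]; norm_num) hab e with ⟨τ, h⟩ | h
      · refine h.not_maximal_omega hc ?_ nd hH
        rw [← LieClassical.OrthForms.coe_minusForm]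
        refine H925.isND_of_nondeg (LieClassical.OrthForms.nondeg_minusForm 3 F (τ a) (τ b) fun z₁ z₂ hz => ?_)
        have h4 := hab (τ.symm z₁) (τ.symm z₂) (by
          apply τ.injective
          simpa using hz)
        exact ⟨by simpa using h4.1, by simpa using h4.2⟩
      · exact minus (h.plus nd hfix)
    · obtain ⟨τ, h1⟩ := H925.Nat.po_minus (p := p) hC (by rw [h8]; norm_num) (m := 4) le_rfl (by norm_num) hab e
      have := h1.card_eq
      simp at this
  · exfalso
    obtain ⟨-, K, i1, i2, i3, hK, ⟨e⟩⟩ := h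
    have := (H927.G2.core_g2 p hC (by rw [Nat.card_eq_fintype_card]; exact hK) e (by rw [h8]; norm_num)).2.2.2.2
    rw [h8] at this
    omega
  · exfalso
    obtain ⟨-, K, i1, i2, i3, q, hq, hK, ⟨e⟩⟩ := h
    exact minus ((H392.TD.d4_small p hC hq hK e (by rw [h8]; norm_num)).2.2.2.2 Q nd hfix)
  · exfalso
    obtain ⟨-, hp2, h⟩ := h
    have := H927.LDTwF4.card_le_iso hp2 hC.perfect h
    rw [h8] at this
    omega

end Cfsg.Agent.H917.Om
end
end

-- part: H917/OmMain
section
prune_inst 0x4000000004000000000851030000044000004000000000088800004010000200d000840000020000820000000010000010000a00200000008000400000100000880000400000000000000000000000000000000000000000000000000000000000000000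
set_option linter.all false
open scoped Cfsg.Agent.FastGrp

-- part: H917/OmAlt3
section
/-!
# Alternating groups in `Ω₈⁻(q)`, continued (helper917, row S5827)

* `not_quat9` : no `3²:Q₈`, `p ≠ 3`; `not_frob11` : no `11:5`, `p ≠ 11`; `frob8` : `2³:7` acts as `1 + 7`;
* `no_A8` : `A₈`, `p` odd;
* `no_Am` : `A_m`, `9 ≤ m`, all `p`.
-/

set_option autoImplicit false
set_option linter.unusedSectionVars false

namespace Cfsg.Agent.H917.Om

open Cfsg Cfsg.Geo Module Equiv Equiv.Perm
open Cfsg.Agent.H637.JW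
open Cfsg.Agent.H637.SevenA8 (exists_translates dichotomy eq_of_rel exists_map)
open Cfsg.Agent.H871.Par (Quat9 Frob8 Frob11 quat9_alt)

universe u v

variable {F : Type u} [Field F] {T : Type v} [Group T]

namespace OC

variable (h : OC F T)

/-! ### Relations between translates -/

theorem hasFix_of_eq {n : ℕ} (j : alternatingGroup (Fin n) →* T) {u : Fin n → (Fin 8 → AlgebraicClosure F)}
    {a : Fin n} (ha : u a ≠ 0)
    (hu : ∀ (g : alternatingGroup (Fin n)) i, (h.σ.comp j) g (u i) = u ((g : Perm (Fin n)) i))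
    (he : ∀ k l, u k = u l) : h.HasFix j := by
  refine ⟨u a, ha, fun g => ?_⟩
  have h1 := hu g a
  rw [he ((g : Perm (Fin n)) a) a] at h1
  exact h1

/-- `V^{A₈} ≠ 0`, `p` odd -/
theorem hasFix_eight (h2 : (2 : F) ≠ 0) (j : alternatingGroup (Fin 8) →* T) : h.HasFix j := by
  obtain ⟨u, hu0, hu⟩ := h.translates (n := 7) (by norm_num) j (h.hasFix_seven h2 j)
  have h2' : (2 : AlgebraicClosure F) ≠ 0 := by
    have := cast_ne_zero_ac (F := F) (n := 2) (by exact_mod_cast h2)
    exact_mod_cast this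
  by_cases hs : ∑ i, u i = 0
  swap
  · exact ⟨_, hs, h.sum_fixed hu⟩
  by_cases he : ∀ k l, u k = u l
  · exact h.hasFix_of_eq j hu0 hu he
  -- only the constant relations
  have hrel : ∀ x : Fin 8 → AlgebraicClosure F, ∑ i, x i • u i = 0 → ∀ i j, x i = x j := by
    intro x hx i k
    by_contra hik
    exact he (eq_of_rel (by norm_num) h2' hu hx hik)
  have hli : LinearIndependent (AlgebraicClosure F) (fun j : Fin 7 => u j.castSucc) := by
    rw [Fintype.linearIndependent_iff]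
    intro y hy k
    let y' : Fin 8 → AlgebraicClosure F := Fin.lastCases 0 y
    have h1 : ∑ k, y' k • u k = 0 := by
      rw [Fin.sum_univ_castSucc]
      simp only [y', Fin.lastCases_castSucc, Fin.lastCases_last, zero_smul, add_zero]
      exact hy
    have h3 := hrel y' h1 k.castSucc (Fin.last 7)
    simpa only [y', Fin.lastCases_castSucc, Fin.lastCases_last] using h3
  let S := Submodule.span (AlgebraicClosure F) (Set.range u)
  have hS : finrank (AlgebraicClosure F) S = 7 := by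
    have h3 : S = Submodule.span (AlgebraicClosure F) (Set.range fun j : Fin 7 => u j.castSucc) := by
      refine le_antisymm (Submodule.span_le.2 ?_) (Submodule.span_mono ?_)
      · rintro _ ⟨i, rfl⟩
        induction i using Fin.lastCases with
        | cast i => exact Submodule.subset_span ⟨i, rfl⟩
        | last =>
          rw [Fin.sum_univ_castSucc] at hs
          rw [show u (Fin.last 7) = -∑ i : Fin 7, u i.castSucc from eq_neg_of_add_eq_zero_right hs]
          exact Submodule.neg_mem _ (Submodule.sum_mem _ fun i _ => Submodule.subset_span ⟨i, rfl⟩)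
      · rintro _ ⟨i, rfl⟩
        exact ⟨_, rfl⟩
    rw [h3, finrank_span_eq_card hli, Fintype.card_fin]
  have hO := h.finrank_orth S
  have hO1 : finrank (AlgebraicClosure F) (h.Bf.orthogonal S) = 1 := by omega
  obtain ⟨w, hw0, hw⟩ := finrank_eq_one_iff'.1 hO1
  have hw0' : (w : Fin 8 → AlgebraicClosure F) ≠ 0 := fun h0 => hw0 (Subtype.ext h0)
  refine h.fixed_of_line (by norm_num) j hw0' fun g => ?_
  have hinv : h.σ (j g) w.1 ∈ h.Bf.orthogonal S := by
    rw [LinearMap.BilinForm.mem_orthogonal_iff]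
    intro s hs'
    change h.B s (h.σ (j g) w.1) = 0
    have hs2 : h.σ (j g⁻¹) s ∈ S := by
      have : ∀ s ∈ S, h.σ (j g⁻¹) s ∈ S := by
        intro s hs
        induction hs using Submodule.span_induction with
        | mem x hx =>
          obtain ⟨i, rfl⟩ := hx
          exact Submodule.subset_span ⟨_, (hu g⁻¹ i).symm⟩
        | zero => rw [map_zero]; exact zero_mem _
        | add x y _ _ hx hy => rw [map_add]; exact add_mem hx hy
        | smul a x _ hx => rw [map_smul]; exact Submodule.smul_mem _ _ hx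
      exact this s hs'
    rw [← h.B_inv (j g⁻¹), ← mul_apply', ← map_mul, inv_mul_cancel, map_one, map_one, Module.End.one_apply]
    exact (LinearMap.BilinForm.mem_orthogonal_iff.1 w.2) _ hs2
  obtain ⟨c, hc⟩ := hw ⟨_, hinv⟩
  exact ⟨c, (congrArg Subtype.val hc).symm⟩

theorem no_A8 (h : OC F (alternatingGroup (Fin 8))) (h2 : (2 : F) ≠ 0) : False :=
  h.not_hasFix (h.hasFix_eight h2 (MonoidHom.id _))

/-- `V^{A₉} ≠ 0`, `p = 3` -/
theorem hasFix_nine (h3 : (3 : F) = 0) (j : alternatingGroup (Fin 9) →* T) : h.HasFix j := by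
  have h2 : (2 : F) ≠ 0 := by
    intro h0
    apply one_ne_zero (α := F)
    linear_combination h3 - h0
  have h2' : (2 : AlgebraicClosure F) ≠ 0 := by
    have := cast_ne_zero_ac (F := F) (n := 2) (by exact_mod_cast h2)
    exact_mod_cast this
  have h3' : (3 : AlgebraicClosure F) = 0 := by
    have := congrArg (algebraMap F (AlgebraicClosure F)) h3
    rwa [map_ofNat, map_zero] at this
  obtain ⟨u, hu0, hu⟩ := h.translates (n := 8) (by norm_num) j (h.hasFix_eight h2 (j.comp (up 8)))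
  rcases dichotomy (by norm_num) h2' hu (by rw [Module.finrank_fin_fun]; norm_num) with he | ⟨hs, -, hrel⟩
  · exact h.hasFix_of_eq j hu0 hu he
  exfalso
  -- Gram matrix
  have hB : ∀ (g : alternatingGroup (Fin 9)) i k, h.B (u ((g : Perm (Fin 9)) i)) (u ((g : Perm (Fin 9)) k)) = h.B (u i) (u k) := by
    intro g i k
    rw [← hu, ← hu]
    exact h.B_inv (j g) _ _
  have hd : ∀ i k, h.B (u i) (u i) = h.B (u k) (u k) := by
    intro i k
    obtain ⟨g, hg⟩ := exists_map (n := 9) (by norm_num) i k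
    rw [← hB g i i, hg]
  have ho : ∀ i k l, i ≠ k → i ≠ l → h.B (u i) (u k) = h.B (u i) (u l) := by
    intro i k l hik hil
    by_cases hkl : k = l
    · rw [hkl]
    -- a 3-cycle on k, l and a further point different from i
    obtain ⟨m, hm⟩ : ∃ m, m ∉ ({i, k, l} : Finset (Fin 9)) := by
      by_contra hno
      push Not at hno
      have h1 : (Finset.univ : Finset (Fin 9)) ⊆ {i, k, l} := fun x _ => hno x
      have h4 := Finset.card_le_card h1
      rw [Finset.card_univ, Fintype.card_fin] at h4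
      have h5 : ({i, k, l} : Finset (Fin 9)).card ≤ 3 := Finset.card_le_three
      omega
    simp only [Finset.mem_insert, Finset.mem_singleton, not_or] at hm
    let g : alternatingGroup (Fin 9) := ⟨swap k m * swap k l, by
      rw [Equiv.Perm.mem_alternatingGroup, Equiv.Perm.sign_mul, sign_swap (Ne.symm hm.2.1), sign_swap hkl]; rfl⟩
    have g1 : (g : Perm (Fin 9)) k = l := by
      change (swap k m * swap k l) k = l
      rw [Equiv.Perm.mul_apply, swap_apply_left, swap_apply_of_ne_of_ne (Ne.symm hkl) (Ne.symm hm.2.2)]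
    have g2 : (g : Perm (Fin 9)) i = i := by
      change (swap k m * swap k l) i = i
      rw [Equiv.Perm.mul_apply, swap_apply_of_ne_of_ne hik hil, swap_apply_of_ne_of_ne hik (Ne.symm hm.1)]
    rw [← hB g i k, g1, g2]
  have hall : ∀ i k, h.B (u i) (u k) = h.B (u i) (u i) := by
    intro i k
    by_cases hik : i = k
    · rw [hik]
    have h1 : h.B (u i) (∑ l, u l) = 0 := by
      rw [hs]
      exact (h.Bf (u i)).map_zero
    have h4 : h.B (u i) (∑ l, u l) = ∑ l, h.B (u i) (u l) := by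
      change h.Bf (u i) _ = _
      rw [map_sum]
      rfl
    rw [h4, ← Finset.add_sum_erase _ _ (Finset.mem_univ i), Finset.sum_congr rfl (g := fun _ => h.B (u i) (u k))] at h1
    · rw [Finset.sum_const, Finset.card_erase_of_mem (Finset.mem_univ i), Finset.card_univ, Fintype.card_fin,
        nsmul_eq_mul] at h1
      push_cast at h1
      linear_combination -h1 + 3 * h.B (u i) (u k) * h3'
    · intro l hl
      exact ho i l k (Ne.symm (Finset.ne_of_mem_erase hl)) hik
  -- the `u i` span `V`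
  have hli : LinearIndependent (AlgebraicClosure F) (fun j : Fin 8 => u j.castSucc) := by
    rw [Fintype.linearIndependent_iff]
    intro y hy k
    let y' : Fin 9 → AlgebraicClosure F := Fin.lastCases 0 y
    have h1 : ∑ k, y' k • u k = 0 := by
      rw [Fin.sum_univ_castSucc]
      simp only [y', Fin.lastCases_castSucc, Fin.lastCases_last, zero_smul, add_zero]
      exact hy
    have h3 := hrel y' h1 k.castSucc (Fin.last 8)
    simpa only [y', Fin.lastCases_castSucc, Fin.lastCases_last] using h3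
  have hspan : Submodule.span (AlgebraicClosure F) (Set.range fun j : Fin 8 => u j.castSucc) = ⊤ := by
    apply Submodule.eq_top_of_finrank_eq
    rw [finrank_span_eq_card hli, Fintype.card_fin, Module.finrank_fin_fun]
  have hz : u 0 - u 1 = 0 := by
    apply h.B_nondeg
    intro x
    have hx : x ∈ Submodule.span (AlgebraicClosure F) (Set.range fun j : Fin 8 => u j.castSucc) := by rw [hspan]; trivial
    have key : ∀ k, h.B (u k) (u 0 - u 1) = 0 := by
      intro k
      have h1 : h.B (u k) (u 0 - u 1) = h.B (u k) (u 0) - h.B (u k) (u 1) := (h.Bf (u k)).map_sub _ _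
      rw [h1, hall k 0, hall k 1, sub_self]
    induction hx using Submodule.span_induction with
    | mem x hx =>
      obtain ⟨i, rfl⟩ := hx
      exact key _
    | zero =>
      rw [h.B_comm]
      exact (h.Bf _).map_zero
    | add x y _ _ hx hy => rw [h.B_add_left, hx, hy, add_zero]
    | smul a x _ hx => rw [h.B_smul_left, hx, mul_zero]
  have h5 := hrel (fun i => if i = 0 then 1 else if i = 1 then -1 else 0) (by
    rw [Finset.sum_eq_add (0 : Fin 9) 1 (by decide)]
    · simp only [if_true, one_smul, if_neg (show (1 : Fin 9) ≠ 0 by decide), neg_smul]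
      rw [← sub_eq_add_neg]
      exact hz
    · rintro i - ⟨h0, h1⟩
      simp [h0, h1]
    · simp
    · simp only [_root_.Nat.reduceAdd, _root_.Fin.isValue, _root_.Finset.mem_univ, _root_.not_true_eq_false, _root_.one_ne_zero, ↓ _root_.reduceIte, _root_.neg_smul, _root_.one_smul, _root_.neg_eq_zero, _root_.IsEmpty.forall_iff]) 0 2
  simp at h5

/-- chain of point stabilizers -/
theorem hasFix_succ (h2 : (2 : F) ≠ 0) {n : ℕ} (hn : 9 ≤ n) (IH : ∀ j : alternatingGroup (Fin n) →* T, h.HasFix j)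
    (j : alternatingGroup (Fin (n + 1)) →* T) : h.HasFix j := by
  have h2' : (2 : AlgebraicClosure F) ≠ 0 := by
    have := cast_ne_zero_ac (F := F) (n := 2) (by exact_mod_cast h2)
    exact_mod_cast this
  obtain ⟨u, hu0, hu⟩ := h.translates (n := n) (by omega) j (IH _)
  rcases dichotomy (by omega) h2' hu (by rw [Module.finrank_fin_fun]; omega) with he | ⟨-, hs, -⟩
  · exact h.hasFix_of_eq j hu0 hu he
  · rw [Module.finrank_fin_fun] at hs
    omega

theorem hasFix_all (h3 : (3 : F) = 0) {n : ℕ} (hn : 9 ≤ n) (j : alternatingGroup (Fin n) →* T) : h.HasFix j := by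
  have h2 : (2 : F) ≠ 0 := by
    intro h0
    apply one_ne_zero (α := F)
    linear_combination h3 - h0
  induction n, hn using Nat.le_induction with
  | base => exact h.hasFix_nine h3 j
  | succ n hn IH => exact h.hasFix_succ h2 hn IH j

/-! ### Frobenius subgroups -/

/-- **No `3²:Q₈`**, `p ≠ 3`. -/
theorem not_quat9 [Fintype F] (h : OC F T) (h3 : (3 : F) ≠ 0) (hT : Quat9 T) : False := by
  obtain ⟨a, b, i, j, ha3, ha1, hab, hi1, hi2, hj1, hj2, -, -⟩ := hT
  have h3' : ((3 : ℕ) : AlgebraicClosure F) ≠ 0 := cast_ne_zero_ac (by exact_mod_cast h3)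
  obtain ⟨ζ, hζ⟩ := exists_root (K := AlgebraicClosure F) (N := 3) h3'
  have hζ3 := hζ.pow_eq_one
  have hb3 : b ^ 3 = 1 := by rw [← hi1, conj_pow, ha3, mul_one, mul_inv_cancel]
  let x : Fin 2 → T := ![a, b]
  have hcx : ∀ i k, x i * x k = x k * x i := by
    intro i k
    fin_cases i <;> fin_cases k <;> first | rfl | exact hab | exact hab.symm
  have hxp : ∀ k, x k ^ 3 = 1 := by
    intro k
    fin_cases k
    · exact ha3
    · exact hb3
  have hc : ∀ i k, h.σ (x i) * h.σ (x k) = h.σ (x k) * h.σ (x i) := by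
    intro i k
    rw [← map_mul, ← map_mul, hcx]
  have hf : ∀ k, h.σ (x k) ^ 3 = 1 := by
    intro k
    rw [← map_pow, hxp, map_one]
  have hind := indep_W h3' hζ (f := fun k => h.σ (x k)) hc hf
  have hsum := sum_W h3' hζ (f := fun k => h.σ (x k)) hc hf
  set D : ZMod 3 → ZMod 3 → ℕ := fun c d =>
    finrank (AlgebraicClosure F) (W 3 ζ (fun k => h.σ (x k)) ![c, d]) with hD
  have inv_smul : ∀ (g : T) (c : ZMod 3) (w : Fin 8 → AlgebraicClosure F), h.σ g w = ζ ^ c.val • w →
      h.σ g⁻¹ w = ζ ^ (-c).val • w := by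
    intro g c w hw
    have h1 : h.σ g⁻¹ (h.σ g w) = w := by
      rw [← mul_apply', inv_mul_cancel, map_one, Module.End.one_apply]
    rw [hw, map_smul] at h1
    have h4 : ζ ^ (-c).val * ζ ^ c.val = 1 := by rw [← pow_val_add hζ3, neg_add_cancel, ZMod.val_zero, pow_zero]
    calc h.σ g⁻¹ w = (ζ ^ (-c).val * ζ ^ c.val) • h.σ g⁻¹ w := by rw [h4, one_smul]
      _ = ζ ^ (-c).val • w := by rw [mul_smul, h1]
  have hi : ∀ c d, D c d ≤ D (-d) c := by
    intro c d
    refine finrank_W_le i fun w hw k => ?_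
    rw [mem_W] at hw
    have e1 : h.σ a w = ζ ^ c.val • w := hw 0
    have e2 : h.σ b w = ζ ^ d.val • w := hw 1
    fin_cases k
    · change h.σ (i⁻¹ * a * i) w = ζ ^ (-d).val • w
      rw [show i⁻¹ * a * i = b⁻¹ by
        rw [show i⁻¹ * a * i = (i⁻¹ * a⁻¹ * i)⁻¹ by group, ← hi2]; group]
      exact inv_smul _ _ _ e2
    · change h.σ (i⁻¹ * b * i) w = ζ ^ c.val • w
      rw [show i⁻¹ * b * i = a by rw [← hi1]; group, e1]
  have hj : ∀ c d, D c d ≤ D (-(c + d)) (-(c - d)) := by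
    intro c d
    have k1 : j * (a * b) * j⁻¹ = a⁻¹ := by
      have : j * (a * b) * j⁻¹ = (j * a * j⁻¹) * (j * b * j⁻¹) := by group
      rw [this, hj1, hj2]
      have e : a * b * (a * b⁻¹) = a * a := by
        rw [mul_assoc, ← mul_assoc b, ← hab, mul_assoc a b, mul_inv_cancel, mul_one]
      rw [e, eq_inv_iff_mul_eq_one, ← pow_two, ← pow_succ, ha3]
    have k2 : j * (a * b⁻¹) * j⁻¹ = b⁻¹ := by
      have : j * (a * b⁻¹) * j⁻¹ = (j * a * j⁻¹) * (j * b * j⁻¹)⁻¹ := by group
      rw [this, hj1, hj2]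
      have hc' : Commute a b := hab
      have e : a * b * (a * b⁻¹)⁻¹ = b * b := by
        rw [mul_inv_rev, inv_inv]
        calc a * b * (b * a⁻¹) = a * (b * b) * a⁻¹ := by group
          _ = b * b := by rw [(hc'.mul_right hc').eq]; group
      rw [e, eq_inv_iff_mul_eq_one, ← pow_two, ← pow_succ, hb3]
    refine finrank_W_le j fun w hw k => ?_
    rw [mem_W] at hw
    have e1 : h.σ a w = ζ ^ c.val • w := hw 0
    have e2 : h.σ b w = ζ ^ d.val • w := hw 1
    fin_cases k
    · change h.σ (j⁻¹ * a * j) w = ζ ^ (-(c + d)).val • w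
      rw [show j⁻¹ * a * j = (a * b)⁻¹ by
        rw [show j⁻¹ * a * j = (j⁻¹ * a⁻¹ * j)⁻¹ by group, ← k1]; group]
      refine inv_smul _ _ _ ?_
      rw [act_mul e1 e2, pow_val_add hζ3]
    · change h.σ (j⁻¹ * b * j) w = ζ ^ (-(c - d)).val • w
      rw [show j⁻¹ * b * j = (a * b⁻¹)⁻¹ by
        calc j⁻¹ * b * j = (j⁻¹ * b⁻¹ * j)⁻¹ := by group
          _ = (j⁻¹ * (j * (a * b⁻¹) * j⁻¹) * j)⁻¹ := by rw [k2]
          _ = (a * b⁻¹)⁻¹ := by group]
      refine inv_smul _ _ _ ?_
      rw [act_mul e1 (inv_smul _ _ _ e2), sub_eq_add_neg, pow_val_add hζ3]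
  have hs : (D 0 0 + D 0 1 + D 0 2) + (D 1 0 + D 1 1 + D 1 2) + (D 2 0 + D 2 1 + D 2 2) = 8 := by
    rw [← Module.finrank_fin_fun (AlgebraicClosure F) (n := 8), ← hsum]
    simp only [sum_cons]
    change _ = ∑ i : Fin 3, ∑ i' : Fin 3, _
    simp only [Fin.sum_univ_three, Finset.univ_unique, Finset.sum_singleton]
    rfl
  -- fixed vector
  have h0 : 1 ≤ D 0 0 := by
    obtain ⟨v, hv0, hva, hvb⟩ := h.fixed_three h3 ha3 hb3 hab
    have hv : v ∈ W 3 ζ (fun k => h.σ (x k)) ![0, 0] := by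
      rw [mem_W]
      intro k
      fin_cases k
      · change h.σ a v = ζ ^ (0 : ZMod 3).val • v
        rw [ZMod.val_zero, pow_zero, one_smul, hva]
      · change h.σ b v = ζ ^ (0 : ZMod 3).val • v
        rw [ZMod.val_zero, pow_zero, one_smul, hvb]
    have : Nontrivial (W 3 ζ (fun k => h.σ (x k)) ![0, 0]) := ⟨⟨v, hv⟩, 0, fun h0 => hv0 (congrArg Subtype.val h0)⟩
    exact Module.finrank_pos
  have ht : D 0 0 ≠ 8 := by
    intro h8
    have htop : W 3 ζ (fun k => h.σ (x k)) ![0, 0] = ⊤ := by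
      apply Submodule.eq_top_of_finrank_eq
      rw [Module.finrank_fin_fun]
      exact h8
    apply ha1
    apply h.σ_injective
    rw [map_one]
    refine LinearMap.ext fun v => ?_
    have hv : v ∈ W 3 ζ (fun k => h.σ (x k)) ![0, 0] := by rw [htop]; trivial
    have h4 : h.σ a v = ζ ^ (0 : ZMod 3).val • v := mem_W.1 hv 0
    rw [h4, ZMod.val_zero, pow_zero, one_smul, Module.End.one_apply]
  clear_value D
  have a1 : D 0 1 ≤ D 2 0 := hi 0 1
  have a2 : D 2 0 ≤ D 0 2 := hi 2 0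
  have a3 : D 0 2 ≤ D 1 0 := hi 0 2
  have a4 : D 1 0 ≤ D 0 1 := hi 1 0
  have a5 : D 1 1 ≤ D 2 1 := hi 1 1
  have a6 : D 2 1 ≤ D 2 2 := hi 2 1
  have a7 : D 2 2 ≤ D 1 2 := hi 2 2
  have a8 : D 1 2 ≤ D 1 1 := hi 1 2
  have b1 : D 1 0 ≤ D 2 2 := hj 1 0
  have b2 : D 2 2 ≤ D 2 0 := hj 2 2
  (clear * - hs h0 ht a1 a2 a3 a4 a5 a6 a7 a8 b1 b2; omega)

/-- **No `11:5`**, `p ≠ 11`. -/
theorem not_frob11 (h : OC F T) (h11 : (11 : F) ≠ 0) (hT : Frob11 T) : False := by
  obtain ⟨a, y, ha, ha1, hy⟩ := hT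
  have h11' : ((11 : ℕ) : AlgebraicClosure F) ≠ 0 := cast_ne_zero_ac (by exact_mod_cast h11)
  obtain ⟨ζ, hζ⟩ := exists_root (K := AlgebraicClosure F) (N := 11) h11'
  let x : Fin 1 → T := ![a]
  have hcx : ∀ i k, x i * x k = x k * x i := by
    intro i k
    rw [Subsingleton.elim i k]
  have hxp : ∀ k, x k ^ 11 = 1 := by
    intro k
    rw [Subsingleton.elim k 0]
    exact ha
  have hc : ∀ i k, h.σ (x i) * h.σ (x k) = h.σ (x k) * h.σ (x i) := by
    intro i k
    rw [← map_mul, ← map_mul, hcx]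
  have hf : ∀ k, h.σ (x k) ^ 11 = 1 := by
    intro k
    rw [← map_pow, hxp, map_one]
  have hsum := sum_W h11' hζ (f := fun k => h.σ (x k)) hc hf
  set D : ZMod 11 → ℕ := fun c => finrank (AlgebraicClosure F) (W 11 ζ (fun k => h.σ (x k)) ![c]) with hD
  have hs : ∑ c, D c = 8 := by
    rw [← Module.finrank_fin_fun (AlgebraicClosure F) (n := 8), ← hsum]
    simp only [sum_cons]
    simp only [Finset.univ_unique, Finset.sum_singleton]
    rfl
  have hneg : ∀ c, D (-c) = D c := by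
    intro c
    have := h.finrank_W_neg h11' hζ (x := x) hcx hxp ![c]
    rwa [show -![c] = ![-c] from by ext i; fin_cases i; rfl] at this
  have h3 : ∀ c, D c ≤ D (4 * c) := by
    intro c
    refine finrank_W_le y fun w hw k => ?_
    rw [mem_W] at hw
    have e1 : h.σ a w = ζ ^ c.val • w := hw 0
    rw [Subsingleton.elim k 0]
    change h.σ (y⁻¹ * a * y) w = ζ ^ (4 * c).val • w
    have e2 : y⁻¹ * a * y = a ^ 4 := by
      have e3 : a = a ^ 12 := by rw [show 12 = 11 + 1 from rfl, pow_succ, ha, one_mul]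
      have e4 : y⁻¹ * (a ^ 3) * y = a := by rw [← hy]; group
      calc y⁻¹ * a * y = y⁻¹ * a ^ 12 * y := by rw [← e3]
        _ = (y⁻¹ * (a ^ 3) * y) ^ 4 := by
          have := conj_pow (i := 4) (a := y⁻¹) (b := a ^ 3)
          rw [inv_inv, ← pow_mul] at this
          exact this.symm
        _ = a ^ 4 := by rw [e4]
    rw [e2, map_pow, pow_apply e1, ← pow_mul, ← pow_mod_orderOf, ← hζ.eq_orderOf, ZMod.val_mul]
    congr 2
    rw [mul_comm]
    rfl
  have h0 : D 0 ≠ 8 := by
    intro h8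
    have htop : W 11 ζ (fun k => h.σ (x k)) ![0] = ⊤ := by
      apply Submodule.eq_top_of_finrank_eq
      rw [Module.finrank_fin_fun]
      exact h8
    apply ha1
    apply h.σ_injective
    rw [map_one]
    refine LinearMap.ext fun v => ?_
    have hv : v ∈ W 11 ζ (fun k => h.σ (x k)) ![0] := by rw [htop]; trivial
    have h4 : h.σ a v = ζ ^ (0 : ZMod 11).val • v := mem_W.1 hv 0
    rw [h4, ZMod.val_zero, pow_zero, one_smul, Module.End.one_apply]
  clear_value D
  have hs' : D 0 + D 1 + D 2 + D 3 + D 4 + D 5 + D 6 + D 7 + D 8 + D 9 + D 10 = 8 := by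
    have key : ∀ f : Fin 11 → ℕ, ∑ c, f c = f 0 + f 1 + f 2 + f 3 + f 4 + f 5 + f 6 + f 7 + f 8 + f 9 + f 10 := by
      intro f
      rw [Fin.sum_univ_castSucc, Fin.sum_univ_castSucc, Fin.sum_univ_castSucc, Fin.sum_univ_eight]
      rfl
    exact (key D).symm.trans hs
  have a1 : D 1 ≤ D 4 := h3 1
  have a2 : D 4 ≤ D 5 := h3 4
  have a3 : D 5 ≤ D 9 := h3 5
  have a4 : D 9 ≤ D 3 := h3 9
  have a5 : D 3 ≤ D 1 := h3 3
  have b1 : D 10 = D 1 := hneg 1
  have b2 : D 9 = D 2 := hneg 2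
  have b3 : D 8 = D 3 := hneg 3
  have b4 : D 7 = D 4 := hneg 4
  have b5 : D 6 = D 5 := hneg 5
  (clear * - h0 hs' a1 a2 a3 a4 a5 b1 b2 b3 b4 b5; omega)

theorem no_Am [Fintype F] {m : ℕ} (hm : 9 ≤ m) (h : OC F (alternatingGroup (Fin m))) : False := by
  by_cases h3 : (3 : F) = 0
  · exact h.not_hasFix (h.hasFix_all h3 hm (MonoidHom.id _))
  · exact h.not_quat9 h3 (quat9_alt hm)

end OC

end Cfsg.Agent.H917.Om
end

-- part: H936/OmA7
section
/-!
# `A₇` in `Ω₈⁻(q)`, characteristic three (task 2039 of helper917, row S5827)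

`no_A7_three`.
-/

set_option autoImplicit false
set_option linter.unusedSectionVars false

namespace Cfsg.Agent.H936.OmA7

open Cfsg Cfsg.Geo Module Equiv Equiv.Perm
open Cfsg.Agent.H637.JW Cfsg.Agent.H917.Om

universe u v

variable {F : Type u} [Field F] {T : Type v} [Group T]

/-- an element acting trivially is trivial -/
theorem eq_one_of_fix (h : OC F T) {x : T} (hx : ∀ v, h.σ x v = v) : x = 1 := by
  apply h.σ_injective
  rw [map_one]
  exact LinearMap.ext fun v => hx v

/-- Klein groups with an element of order three acting on them -/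
theorem fix_klein (h2 : (2 : F) ≠ 0) (h : OC F T) {s t α : T} (hs : s ^ 2 = 1) (ht : t ^ 2 = 1) (hst : s * t = t * s)
    (h1 : α⁻¹ * s * α = t) (h3 : α⁻¹ * t * α = s * t) :
    4 ≤ finrank (AlgebraicClosure F) (Fix h.σ s) := by
  have h2' : ((2 : ℕ) : AlgebraicClosure F) ≠ 0 := cast_ne_zero_ac (by exact_mod_cast h2)
  obtain ⟨ζ, hζ⟩ := exists_root (K := AlgebraicClosure F) (N := 2) h2'
  have hζ2 := hζ.pow_eq_one
  let x : Fin 2 → T := ![s, t]
  have hcx : ∀ j k, x j * x k = x k * x j := by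
    intro j k
    fin_cases j <;> fin_cases k <;> first | rfl | exact hst | exact hst.symm
  have hxp : ∀ k, x k ^ 2 = 1 := by
    intro k
    fin_cases k
    · exact hs
    · exact ht
  have hc : ∀ j k, h.σ (x j) * h.σ (x k) = h.σ (x k) * h.σ (x j) := by
    intro j k
    rw [← map_mul, ← map_mul, hcx]
  have hf : ∀ k, h.σ (x k) ^ 2 = 1 := by
    intro k
    rw [← map_pow, hxp, map_one]
  have hind := indep_W h2' hζ (f := fun k => h.σ (x k)) hc hf
  have hsum := sum_W h2' hζ (f := fun k => h.σ (x k)) hc hf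
  set D : ZMod 2 → ZMod 2 → ℕ := fun i j =>
    finrank (AlgebraicClosure F) (W 2 ζ (fun k => h.σ (x k)) ![i, j]) with hD
  have hDle : ∀ i j, D i j ≤ D j (i + j) := by
    intro i j
    refine finrank_W_le α fun v hv k => ?_
    rw [mem_W] at hv
    have ha : h.σ s v = ζ ^ i.val • v := hv 0
    have hb : h.σ t v = ζ ^ j.val • v := hv 1
    fin_cases k
    · change h.σ (α⁻¹ * s * α) v = ζ ^ j.val • v
      rw [h1, hb]
    · change h.σ (α⁻¹ * t * α) v = ζ ^ (i + j).val • v
      rw [h3, act_mul ha hb, pow_val_add hζ2]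
  have hs8 : ∑ i : Fin 2, ∑ j : Fin 2, D i j = 8 := by
    rw [← Module.finrank_fin_fun (AlgebraicClosure F) (n := 8), ← hsum]
    rw [← (piFinTwoEquiv (fun _ => ZMod 2)).symm.sum_comp, Fintype.sum_prod_type]
    rfl
  have hs' : D 0 0 + D 0 1 + (D 1 0 + D 1 1) = 8 := by
    rw [Fin.sum_univ_two, Fin.sum_univ_two, Fin.sum_univ_two] at hs8
    exact hs8
  have hA : ∑ j : ZMod 2, D 0 j ≤ finrank (AlgebraicClosure F) (Fix h.σ s) := by
    refine sum_le_of_inj hind (fun j : ZMod 2 => ![0, j]) (fun j k h => congrFun h 1) _ fun j => ?_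
    intro v hv
    rw [mem_W] at hv
    rw [mem_Fix]
    have := hv 0
    change h.σ s v = ζ ^ (0 : ZMod 2).val • v at this
    rw [this, ZMod.val_zero, pow_zero, one_smul]
  have hA' : D 0 0 + D 0 1 ≤ finrank (AlgebraicClosure F) (Fix h.σ s) := by
    refine le_trans (le_of_eq ?_) hA
    exact (Fin.sum_univ_two (fun j : Fin 2 => D 0 j)).symm
  have e1 : D 1 0 ≤ D 0 1 := hDle 1 0
  have e2 : D 0 1 ≤ D 1 1 := hDle 0 1
  have e3 : D 1 1 ≤ D 1 0 := hDle 1 1
  clear_value D
  omega

/-- an element of order five normalised by an element of order four -/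
theorem fix_five [Fintype F] (h5 : (5 : F) ≠ 0) (h : OC F T) {y w : T} (hy : y ^ 5 = 1) (hw : w⁻¹ * y * w = y * y) :
    4 ≤ finrank (AlgebraicClosure F) (Fix h.σ y) ∧ (y ≠ 1 → w ^ 4 = 1 →
      2 ≤ finrank (AlgebraicClosure F) (Fix h.σ w)) := by
  have h5' : ((5 : ℕ) : AlgebraicClosure F) ≠ 0 := cast_ne_zero_ac (by exact_mod_cast h5)
  obtain ⟨ζ, hζ⟩ := exists_root (K := AlgebraicClosure F) (N := 5) h5'
  have hζ5 := hζ.pow_eq_one
  let x : Fin 1 → T := ![y]
  have hcx : ∀ j k, x j * x k = x k * x j := by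
    intro j k
    fin_cases j; fin_cases k; rfl
  have hxp : ∀ k, x k ^ 5 = 1 := by
    intro k
    fin_cases k
    exact hy
  have hc : ∀ j k, h.σ (x j) * h.σ (x k) = h.σ (x k) * h.σ (x j) := by
    intro j k
    rw [← map_mul, ← map_mul, hcx]
  have hf : ∀ k, h.σ (x k) ^ 5 = 1 := by
    intro k
    rw [← map_pow, hxp, map_one]
  have hsum := sum_W h5' hζ (f := fun k => h.σ (x k)) hc hf
  set D : ZMod 5 → ℕ := fun i =>
    finrank (AlgebraicClosure F) (W 5 ζ (fun k => h.σ (x k)) ![i]) with hD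
  have hDle : ∀ i, D i ≤ D (i + i) := by
    intro i
    refine finrank_W_le w fun v hv k => ?_
    rw [mem_W] at hv
    have ha : h.σ y v = ζ ^ i.val • v := hv 0
    fin_cases k
    change h.σ (w⁻¹ * y * w) v = ζ ^ (i + i).val • v
    rw [hw, act_mul ha ha, pow_val_add hζ5]
  have hs8 : D 0 + D 1 + D 2 + D 3 + D 4 = 8 := by
    rw [← Module.finrank_fin_fun (AlgebraicClosure F) (n := 8), ← hsum]
    simp only [sum_cons]
    change _ = ∑ i : Fin 5, _
    simp only [Fin.sum_univ_five, Finset.univ_unique, Finset.sum_singleton]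
    rfl
  have hmem0 : ∀ v, v ∈ W 5 ζ (fun k => h.σ (x k)) ![0] ↔ h.σ y v = v := by
    intro v
    rw [mem_W]
    constructor
    · intro hv
      have := hv 0
      change h.σ y v = ζ ^ (0 : ZMod 5).val • v at this
      rwa [ZMod.val_zero, pow_zero, one_smul] at this
    · intro hv k
      fin_cases k
      change h.σ y v = ζ ^ (0 : ZMod 5).val • v
      rw [ZMod.val_zero, pow_zero, one_smul, hv]
  have hA : D 0 ≤ finrank (AlgebraicClosure F) (Fix h.σ y) := by
    refine Submodule.finrank_mono fun v hv => ?_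
    rw [mem_Fix]
    exact (hmem0 v).1 hv
  have hpos : 1 ≤ D 0 := by
    have hfo : IsOfFinOrder y := isOfFinOrder_iff_pow_eq_one.2 ⟨5, by norm_num, hy⟩
    have hfin : Finite (Subgroup.zpowers y) := hfo.finite_zpowers
    obtain ⟨v, hv0, hv⟩ := h.exists_fixed_of_isPGroup (ℓ := 5) (not_dvd_five h5) (Subgroup.zpowers y) (by
      rintro ⟨_, k, rfl⟩
      refine ⟨1, Subtype.ext ?_⟩
      change (y ^ k) ^ (5 ^ 1) = 1
      rw [pow_one, ← zpow_natCast, ← zpow_mul, mul_comm, zpow_mul, zpow_natCast, hy, one_zpow])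
    rw [Nat.one_le_iff_ne_zero, ← Nat.pos_iff_ne_zero]
    simp only [hD]
    rw [Module.finrank_pos_iff]
    exact ⟨⟨⟨v, (hmem0 v).2 (hv y (Subgroup.mem_zpowers y))⟩, 0, fun h0 => hv0 (congrArg Subtype.val h0)⟩⟩
  have e1 : D 1 ≤ D 2 := hDle 1
  have e2 : D 2 ≤ D 4 := hDle 2
  have e3 : D 4 ≤ D 3 := hDle 4
  have e4 : D 3 ≤ D 1 := hDle 3
  refine ⟨by omega, fun hy1 hw4 => ?_⟩
  have hD1 : 0 < D 1 := by
    rw [Nat.pos_iff_ne_zero]
    intro h0
    apply hy1
    refine eq_one_of_fix h fun v => ?_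
    rw [← mem_Fix]
    have h8 : finrank (AlgebraicClosure F) (Fix h.σ y) = finrank (AlgebraicClosure F) (Fin 8 → AlgebraicClosure F) := by
      refine le_antisymm (Submodule.finrank_le _) ?_
      rw [Module.finrank_fin_fun]
      omega
    rw [Submodule.eq_top_of_finrank_eq h8]
    trivial
  obtain ⟨v, hv, hv0⟩ := exists_fix_of_pos hD1
  rw [mem_W] at hv
  have hv1 : h.σ y v = ζ • v := by
    have : h.σ y v = ζ ^ (1 : ZMod 5).val • v := hv 0
    rwa [show (1 : ZMod 5).val = 1 from rfl, pow_one] at this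
  have key : ∀ i : ℕ, h.σ y (h.σ (w ^ i) v) = ζ ^ 2 ^ i • h.σ (w ^ i) v := by
    intro i
    induction i with
    | zero => rw [pow_zero, pow_zero, pow_one, map_one, Module.End.one_apply, hv1]
    | succ i ih =>
      have e : y * w ^ (i + 1) = w * (y * (y * w ^ i)) := by
        rw [pow_succ', ← mul_assoc, ← mul_assoc y y, ← hw]
        group
      rw [← mul_apply', e, mul_apply', mul_apply', mul_apply', ih, map_smul, ih, smul_smul, map_smul, ← mul_apply',
        ← pow_succ', ← pow_add]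
      congr 2
      ring
  let vi : Fin 4 → (Fin 8 → AlgebraicClosure F) := fun i => h.σ (w ^ (i : ℕ)) v
  have hli : LinearIndependent (AlgebraicClosure F) vi := by
    refine Module.End.eigenvectors_linearIndependent' (h.σ y) (fun i : Fin 4 => ζ ^ 2 ^ (i : ℕ)) ?_ vi fun i => ?_
    · intro i j hij
      have h6 : ζ ^ (2 ^ (i : ℕ) % 5) = ζ ^ (2 ^ (j : ℕ) % 5) := by
        rw [pow_mod_of_pow_eq_one hζ5, pow_mod_of_pow_eq_one hζ5]
        exact hij
      have h7 := hζ.pow_inj (Nat.mod_lt _ (by norm_num)) (Nat.mod_lt _ (by norm_num)) h6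
      have : ∀ i j : Fin 4, 2 ^ (i : ℕ) % 5 = 2 ^ (j : ℕ) % 5 → i = j := by decide
      exact this i j h7
    · rw [Module.End.hasEigenvector_iff, Module.End.mem_eigenspace_iff]
      refine ⟨key i, fun h0 => hv0 ?_⟩
      apply Cfsg.Agent.H637.JW.injective (σ := h.σ) (w ^ (i : ℕ))
      rw [map_zero]
      exact h0
  have hu0 : ∑ i, vi i ≠ 0 := by
    intro h0
    have h6 := Fintype.linearIndependent_iff.1 hli (fun _ => 1) (by simpa only [_root_.one_smul] using h0) 0
    exact one_ne_zero h6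
  have hu : h.σ w (∑ i, vi i) = ∑ i, vi i := by
    rw [Fin.sum_univ_four]
    simp only [map_add, vi, ← mul_apply']
    change h.σ (w * w ^ 0) v + h.σ (w * w ^ 1) v + h.σ (w * w ^ 2) v + h.σ (w * w ^ 3) v =
      h.σ (w ^ 0) v + h.σ (w ^ 1) v + h.σ (w ^ 2) v + h.σ (w ^ 3) v
    rw [← pow_succ', ← pow_succ', ← pow_succ', ← pow_succ', hw4, pow_zero]
    abel
  have hpos2 : 0 < finrank (AlgebraicClosure F) (Fix h.σ w) := by
    rw [Module.finrank_pos_iff]
    exact ⟨⟨⟨_, mem_Fix.2 hu⟩, 0, fun h0 => hu0 (congrArg Subtype.val h0)⟩⟩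
  obtain ⟨k, hk⟩ := h.even_fix w
  omega

/-! ### The elements -/

def mk6 (p : Perm (Fin 6)) (h : sign p = 1 := by decide) : alternatingGroup (Fin 6) :=
  ⟨p, mem_alternatingGroup.2 h⟩

def mk7 (p : Perm (Fin 7)) (h : sign p = 1 := by decide) : alternatingGroup (Fin 7) :=
  ⟨p, mem_alternatingGroup.2 h⟩

def w6 : alternatingGroup (Fin 6) := mk6 (swap (0 : Fin 6) 1 * swap (1 : Fin 6) 2 * swap (2 : Fin 6) 3 * swap (4 : Fin 6) 5)
def x6 : alternatingGroup (Fin 6) := mk6 (swap (0 : Fin 6) 4 * swap (1 : Fin 6) 2)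
def w7 : alternatingGroup (Fin 7) := mk7 (swap (0 : Fin 7) 1 * swap (1 : Fin 7) 2 * swap (2 : Fin 7) 3 * swap (4 : Fin 7) 5)
def x7 : alternatingGroup (Fin 7) := mk7 (swap (0 : Fin 7) 4 * swap (1 : Fin 7) 2)
def t7 : alternatingGroup (Fin 7) := mk7 (swap (0 : Fin 7) 1 * swap (4 : Fin 7) 2)
def al7 : alternatingGroup (Fin 7) := mk7 (swap (0 : Fin 7) 1 * swap (1 : Fin 7) 2)
def g7 : alternatingGroup (Fin 7) := mk7 (swap (2 : Fin 7) 4 * swap (4 : Fin 7) 5 * swap (5 : Fin 7) 3 * swap (1 : Fin 7) 6)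
def y7 : alternatingGroup (Fin 7) := mk7 (swap (6 : Fin 7) 0 * swap (0 : Fin 7) 3 * swap (3 : Fin 7) 1 * swap (1 : Fin 7) 2)

set_option maxRecDepth 20000 in
/-- **`A₇`, `p = 3`** -/
theorem no_A7_three [Fintype F] (h3 : (3 : F) = 0) (h : OC F (alternatingGroup (Fin 7))) : False := by
  have h2 : (2 : F) ≠ 0 := by
    intro h2
    exact one_ne_zero (α := F) (by linear_combination h3 - h2)
  have h5 : (5 : F) ≠ 0 := by
    intro h5
    exact one_ne_zero (α := F) (by linear_combination 2 * h3 - h5)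
  have hx := fix_klein h2 h (s := x7) (t := t7) (α := al7) (by decide) (by decide) (by decide) (by decide) (by decide)
  have hy := (fix_five h5 h (y := x7 * w7) (w := g7) (by decide +kernel) (by decide +kernel)).1
  have hw := (fix_five h5 h (y := y7) (w := w7) (by decide) (by decide)).2 (by decide) (by decide)
  obtain ⟨v, hv0, hvx, hvw⟩ : ∃ v : Fin 8 → AlgebraicClosure F, v ≠ 0 ∧ h.σ x7 v = v ∧ h.σ w7 v = v := by
    by_contra hno
    push Not at hno
    have h6 := h.scott (x := x7) (y := w7) (by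
      intro v h1 h4
      by_contra h0
      exact hno v h0 h1 h4)
    omega
  have hfix : h.HasFix ((MonoidHom.id _).comp (up 6)) := by
    refine ⟨v, hv0, fun g => ?_⟩
    have e1 : up 6 x6 = x7 := by decide
    have e2 : up 6 w6 = w7 := by decide
    have hxs : x6 ∈ stab (h.σ.comp (up 6)) v := by
      change h.σ (up 6 x6) v = v
      rw [e1]; exact hvx
    have hws : w6 ∈ stab (h.σ.comp (up 6)) v := by
      change h.σ (up 6 w6) v = v
      rw [e2]; exact hvw
    have h4 := eq_top_prim (stab (h.σ.comp (up 6)) v) 1 (x6 * w6) w6 (w6 * w6 * w6 * x6 * w6 * w6 * x6 * w6 * x6)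
      (mul_mem hxs hws) hws
      (mul_mem (mul_mem (mul_mem (mul_mem (mul_mem (mul_mem (mul_mem (mul_mem hws hws) hws) hxs) hws) hws) hxs) hws) hxs)
      (by decide) (by decide +kernel) (by decide) (card_support_eq_three_iff.1 (by decide +kernel))
    have : g ∈ stab (h.σ.comp (up 6)) v := by rw [h4]; trivial
    exact this
  obtain ⟨u, hu0, hu⟩ := h.translates (by norm_num) (MonoidHom.id _) hfix
  have h6 := h.span_orbit hu0
  have h7 : Submodule.span (AlgebraicClosure F) (Set.range u) = ⊤ := by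
    rw [eq_top_iff, ← h6]
    refine Submodule.span_mono ?_
    rintro _ ⟨g, rfl⟩
    exact ⟨_, (hu g _).symm⟩
  have h8 := finrank_le_of_span_eq_top h7
  rw [Module.finrank_fin_fun, Fintype.card_fin] at h8
  omega

end Cfsg.Agent.H936.OmA7
end

-- part: H219/OmL217
section
/-!
# `L₂(17)` in `Ω₈⁻(q)`, characteristic different from 17 (helper219, row S5827)
-/

set_option autoImplicit false
set_option linter.unusedSectionVars false

namespace Cfsg.Agent.H219.OmL217

open Cfsg Cfsg.Geo Module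
open Cfsg.Agent.H637.JW Cfsg.Agent.H917 Cfsg.Agent.H917.Om

universe u v

instance fact17 : Fact (Nat.Prime 17) := ⟨by norm_num⟩

variable {F : Type u} [Field F] {T : Type v} [Group T]

/-- an eigenvector with eigenvalue of order 17 -/
theorem exists_eigen (h : OC F T) (h17 : (17 : F) ≠ 0) {x : T} (hx : x ^ 17 = 1) (hx1 : x ≠ 1) :
    ∃ (w : Fin 8 → AlgebraicClosure F) (ω : AlgebraicClosure F), w ≠ 0 ∧ h.σ x w = ω • w ∧
      IsPrimitiveRoot ω 17 := by
  have h17' : ((17 : ℕ) : AlgebraicClosure F) ≠ 0 := by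
    intro h0
    apply h17
    have h1 : algebraMap F (AlgebraicClosure F) ((17 : ℕ) : F) = 0 := by rw [map_natCast]; exact h0
    have h2 := (map_eq_zero _).1 h1
    exact_mod_cast h2
  obtain ⟨ζ, hζ⟩ := exists_root (K := AlgebraicClosure F) (N := 17) h17'
  have htop := iSup_W (V := Fin 8 → AlgebraicClosure F) h17' hζ (f := fun _ : Unit => h.σ x) (fun _ _ => rfl)
    (fun _ => by rw [← map_pow, hx, map_one])
  have hex : ∃ c : Unit → ZMod 17, c () ≠ 0 ∧ W 17 ζ (fun _ : Unit => h.σ x) c ≠ ⊥ := by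
    by_contra hcon
    push Not at hcon
    apply hx1
    apply h.σ_injective
    rw [map_one]
    have h1 : (⊤ : Submodule (AlgebraicClosure F) (Fin 8 → AlgebraicClosure F)) ≤ _root_.Cfsg.Agent.H637.JW.Fix h.σ x := by
      rw [← htop]
      refine iSup_le fun c => ?_
      by_cases hc : c () = 0
      · intro v hv
        rw [mem_W] at hv
        rw [mem_Fix]
        have := hv ()
        rw [hc, ZMod.val_zero, pow_zero, one_smul] at this
        exact this
      · rw [hcon c hc]; exact bot_le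
    apply LinearMap.ext
    intro v
    exact mem_Fix.1 (h1 (Submodule.mem_top (x := v)))
  obtain ⟨c, hc, hW⟩ := hex
  obtain ⟨w, hw, hw0⟩ := Submodule.exists_mem_ne_zero_of_ne_bot hW
  refine ⟨w, ζ ^ (c ()).val, hw0, (mem_W.1 hw) (), hζ.pow_of_coprime _ ?_⟩
  rw [Nat.coprime_comm, Nat.Prime.coprime_iff_not_dvd (by norm_num)]
  intro hd
  apply hc
  rw [← ZMod.natCast_zmod_val (c ()), (ZMod.natCast_eq_zero_iff _ _).2 hd]

theorem no_rel (h : OC F T) (h17 : (17 : F) ≠ 0) {x t : T} (hx : x ^ 17 = 1) (hx1 : x ≠ 1) (ht : t ^ 8 = 1)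
    (hxt : t⁻¹ * x * t = x ^ 2) : False := by
  obtain ⟨w, ω, hw, hxw, hω⟩ := exists_eigen h h17 hx hx1
  -- the basis
  have hb : ∀ k : ℕ, h.σ x (h.σ (t ^ k) w) = ω ^ (2 ^ k) • h.σ (t ^ k) w := by
    intro k
    induction k with
    | zero => simpa only [_root_.pow_zero, _root_.map_one, _root_.Module.End.one_apply, _root_.pow_one] using hxw
    | succ k ih =>
      have h1 : x * t ^ (k + 1) = t * (x ^ 2 * t ^ k) := by
        rw [← hxt, pow_succ']; group
      rw [← mul_apply', h1, mul_apply', mul_apply', pow_two, mul_apply', ih, map_smul, ih, map_smul, map_smul,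
        smul_smul, ← pow_add, ← mul_apply', ← pow_succ']
      congr 2
      rw [pow_succ]; ring
  have hne : ∀ k : ℕ, h.σ (t ^ k) w ≠ 0 := by
    intro k h0
    apply hw
    apply Cfsg.Agent.H637.JW.injective (σ := h.σ) (t ^ k)
    rw [h0, map_zero]
  let b : Fin 8 → Fin 8 → AlgebraicClosure F := fun k => h.σ (t ^ (k : ℕ)) w
  have hinj : Function.Injective (fun k : Fin 8 => ω ^ (2 ^ (k : ℕ))) := by
    intro k l hkl
    have h1 : (2 ^ (k : ℕ)) % 17 = (2 ^ (l : ℕ)) % 17 := by
      have h2 : ω ^ ((2 ^ (k : ℕ)) % 17) = ω ^ ((2 ^ (l : ℕ)) % 17) := by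
        rw [pow_mod_of_pow_eq_one hω.pow_eq_one, pow_mod_of_pow_eq_one hω.pow_eq_one]; exact hkl
      exact hω.pow_inj (Nat.mod_lt _ (by norm_num)) (Nat.mod_lt _ (by norm_num)) h2
    have key : ∀ k l : Fin 8, (2 ^ (k : ℕ)) % 17 = (2 ^ (l : ℕ)) % 17 → k = l := by decide
    exact key k l h1
  have hli : LinearIndependent (AlgebraicClosure F) b :=
    Module.End.eigenvectors_linearIndependent' (h.σ x) (fun k : Fin 8 => ω ^ (2 ^ (k : ℕ))) hinj b
      (fun k => ⟨Module.End.mem_eigenspace_iff.2 (hb k), hne k⟩)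
  let B := basisOfLinearIndependentOfCardEqFinrank hli (by rw [Module.finrank_fin_fun, Fintype.card_fin])
  have hB : ∀ k, B k = b k := fun k => by
    rw [coe_basisOfLinearIndependentOfCardEqFinrank]
  -- the action of `t`
  have htb : ∀ k : Fin 8, h.σ t (B k) = B (k + 1) := by
    intro k
    rw [hB, hB]
    change h.σ t (h.σ (t ^ (k : ℕ)) w) = h.σ (t ^ ((k + 1 : Fin 8) : ℕ)) w
    rw [← mul_apply', ← pow_succ']
    congr 2
    fin_cases k <;> first | rfl | exact ht.trans (pow_zero t).symm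
  -- the fixed space is one-dimensional
  have hfix : _root_.Cfsg.Agent.H637.JW.Fix h.σ t = Submodule.span (AlgebraicClosure F) {∑ k, B k} := by
    apply le_antisymm
    · intro v hv
      rw [mem_Fix] at hv
      have h1 : ∀ k, B.repr v (k + 1) = B.repr v k := by
        intro k
        have h2 : h.σ t v = ∑ k, B.repr v k • B (k + 1) := by
          conv_lhs => rw [← B.sum_repr v]
          rw [map_sum]
          refine Finset.sum_congr rfl fun k _ => ?_
          rw [map_smul, htb]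
        have h3 : ∑ k, B.repr v k • B (k + 1) = ∑ k, B.repr v (k - 1) • B k := by
          rw [← Equiv.sum_comp (Equiv.addRight (1 : Fin 8)) (fun k => B.repr v (k - 1) • B k)]
          refine Finset.sum_congr rfl fun k _ => ?_
          rw [Equiv.coe_addRight, add_sub_cancel_right]
        rw [hv, h3] at h2
        have h4 := congrArg (fun u => B.repr u (k + 1)) h2
        beta_reduce at h4
        rw [B.repr_sum_self, add_sub_cancel_right] at h4
        exact h4
      have h2 : ∀ k : Fin 8, B.repr v k = B.repr v 0 := by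
        have e1 := h1 0
        have e2 := h1 1
        have e3 := h1 2
        have e4 := h1 3
        have e5 := h1 4
        have e6 := h1 5
        have e7 := h1 6
        intro k
        fin_cases k
        · rfl
        · exact e1
        · exact e2.trans e1
        · exact e3.trans (e2.trans e1)
        · exact e4.trans (e3.trans (e2.trans e1))
        · exact e5.trans (e4.trans (e3.trans (e2.trans e1)))
        · exact e6.trans (e5.trans (e4.trans (e3.trans (e2.trans e1))))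
        · exact e7.trans (e6.trans (e5.trans (e4.trans (e3.trans (e2.trans e1)))))
      rw [Submodule.mem_span_singleton]
      refine ⟨B.repr v 0, ?_⟩
      conv_rhs => rw [← B.sum_repr v]
      rw [Finset.smul_sum]
      exact Finset.sum_congr rfl fun k _ => by rw [h2 k]
    · rw [Submodule.span_singleton_le_iff_mem, mem_Fix, map_sum]
      rw [Finset.sum_congr rfl fun k _ => htb k]
      exact Equiv.sum_comp (Equiv.addRight (1 : Fin 8)) (fun k => B k)
  have hs : ∑ k, B k ≠ 0 := by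
    intro h0
    have h1 := congrArg (fun u => B.repr u 0) h0
    beta_reduce at h1
    have h2 : ∑ k, B k = ∑ k, (fun _ : Fin 8 => (1 : AlgebraicClosure F)) k • B k :=
      Finset.sum_congr rfl fun k _ => by rw [one_smul]
    rw [h2, B.repr_sum_self, LinearEquiv.map_zero] at h1
    exact one_ne_zero h1
  have h1 := h.even_fix t
  rw [hfix, finrank_span_singleton hs] at h1
  exact absurd h1 (by decide)

open Matrix in
/-- **`L₂(17)`, `p ≠ 17`** -/
theorem no_l217 {F : Type u} [Field F] [Fintype F] (h17 : (17 : F) ≠ 0) {K : Type v} [Field K] [Fintype K]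
    (hK : Fintype.card K = 17) (h : Om.OC F (Matrix.ProjectiveSpecialLinearGroup (Fin 2) K)) : False := by
  let e := LieClassical.FieldTransfer.pslCongr (ι := Fin 2)
    (ZMod.ringEquivOfPrime K (show Nat.Prime 17 by norm_num) hK)
  let X : _root_.Matrix.SpecialLinearGroup (Fin 2) (ZMod 17) := ⟨!![1, 1; 0, 1], by decide⟩
  let Y : _root_.Matrix.SpecialLinearGroup (Fin 2) (ZMod 17) := ⟨!![3, 0; 0, 6], by decide⟩
  let Z : _root_.Matrix.SpecialLinearGroup (Fin 2) (ZMod 17) := ⟨!![1, 0; 1, 1], by decide⟩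
  have hX : X ^ 17 = 1 := Subtype.ext (by decide +kernel)
  have hXZ : Z * X ≠ X * Z := fun h0 =>
    absurd (congrArg Subtype.val h0) (by decide +kernel)
  have hXY : X * Y = Y * X ^ 2 := Subtype.ext (by decide +kernel)
  have hY : Y ^ 8 = -1 := Subtype.ext (by decide +kernel)
  have hrel : Y⁻¹ * X * Y = X ^ 2 := by rw [mul_assoc, hXY, inv_mul_cancel_left]
  let π := QuotientGroup.mk' (Subgroup.center (_root_.Matrix.SpecialLinearGroup (Fin 2) (ZMod 17)))
  refine no_rel (h.congr e) h17 (x := π X) (t := π Y) ?_ ?_ ?_ ?_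
  · rw [← map_pow, hX, map_one]
  · intro h0
    have h1 : X ∈ Subgroup.center (_root_.Matrix.SpecialLinearGroup (Fin 2) (ZMod 17)) := (QuotientGroup.eq_one_iff X).1 h0
    exact hXZ (Subgroup.mem_center_iff.1 h1 Z)
  · rw [← map_pow, hY]
    refine (QuotientGroup.eq_one_iff _).2 (Subgroup.mem_center_iff.2 fun g => ?_)
    rw [mul_neg, neg_mul, mul_one, one_mul]
  · rw [← map_inv, ← map_mul, ← map_mul, ← map_pow, hrel]

end Cfsg.Agent.H219.OmL217
end

-- part: H24/Om/L28
section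
/-!
# `PSL₂(8)` in `Ω₈⁻(q)`, `q` odd (helper24, row S5827)
-/

set_option autoImplicit false
set_option linter.unusedSectionVars false

namespace Cfsg.Agent.H24.Om

open Matrix OnePoint Module
open Cfsg.Agent.H917.Om Cfsg.Agent.H637.JW
open Cfsg.Agent.H871.Par (ut dg ut_mul ut_inj dg_ut)

universe u v w

section frob

variable {F : Type u} [Field F] {T : Type v} [Group T] (h : H917.Om.OC F T)

/-- `2^3:7` : a vector `v`, not isotropic, fixed by the elementary abelian group and by the element of order seven -/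
theorem exists_frob_fixed (h2 : (2 : F) ≠ 0) {a b c y : T} (ha : a * a = 1) (ha1 : a ≠ 1) (hab : a * b = b * a)
    (hya : y * a * y⁻¹ = b) (hyb : y * b * y⁻¹ = c) (hyc : y * c * y⁻¹ = a * b) (hy : y ^ 7 = 1) :
    ∃ v : Fin 8 → AlgebraicClosure F, v ≠ 0 ∧ h.σ a v = v ∧ h.σ y v = v := by
  classical
  have h2' : ((2 : ℕ) : AlgebraicClosure F) ≠ 0 := cast_ne_zero (by exact_mod_cast h2)
  obtain ⟨ζ, hζ⟩ := exists_root (K := AlgebraicClosure F) (N := 2) h2'
  have conj2 : ∀ z w : T, y * z * y⁻¹ = w → z * z = 1 → w * w = 1 := by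
    intro z w hz hzz
    rw [← hz]
    have : y * z * y⁻¹ * (y * z * y⁻¹) = y * (z * z) * y⁻¹ := by group
    rw [this, hzz]; group
  have hb : b * b = 1 := conj2 a b hya ha
  have hc : c * c = 1 := conj2 b c hyb hb
  have hbc : b * c = c * b := by
    rw [← hyb]
    conv_lhs => rw [← hya]
    conv_rhs => rw [← hya]
    have e1 : y * a * y⁻¹ * (y * (y * a * y⁻¹) * y⁻¹) = y * (a * (y * a * y⁻¹)) * y⁻¹ := by group
    have e2 : y * (y * a * y⁻¹) * y⁻¹ * (y * a * y⁻¹) = y * ((y * a * y⁻¹) * a) * y⁻¹ := by group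
    rw [e1, e2, hya, hab]
  have hac : a * c = c * a := by
    -- `a b = y c y⁻¹` commutes with `c = y b y⁻¹`
    have h1 : (a * b) * c = c * (a * b) := by
      rw [← hyc]
      nth_rewrite 2 [← hyb]
      nth_rewrite 2 [← hyb]
      have e1 : y * c * y⁻¹ * (y * b * y⁻¹) = y * (c * b) * y⁻¹ := by group
      have e2 : y * b * y⁻¹ * (y * c * y⁻¹) = y * (b * c) * y⁻¹ := by group
      rw [e1, e2, hbc]
    have h2 : a * c * b = c * a * b := by
      rw [mul_assoc, ← hbc, ← mul_assoc, h1, mul_assoc]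
    exact mul_right_cancel h2
  let x : Fin 3 → T := ![a, b, c]
  have hcx : ∀ j k, x j * x k = x k * x j := by
    intro j k
    fin_cases j <;> fin_cases k <;>
      first | rfl | exact hab | exact hab.symm | exact hbc | exact hbc.symm | exact hac | exact hac.symm
  have hxp : ∀ k, x k ^ 2 = 1 := by
    intro k
    rw [pow_two]
    fin_cases k
    · exact ha
    · exact hb
    · exact hc
  have hcc : ∀ j k, h.σ (x j) * h.σ (x k) = h.σ (x k) * h.σ (x j) := by
    intro j k
    rw [← map_mul, ← map_mul, hcx]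
  have hf : ∀ k, h.σ (x k) ^ 2 = 1 := by
    intro k
    rw [← map_pow, hxp, map_one]
  have hsum := sum_W h2' hζ (f := fun k => h.σ (x k)) hcc hf
  set D : (Fin 3 → ZMod 2) → ℕ := fun c => finrank (AlgebraicClosure F) (W 2 ζ (fun k => h.σ (x k)) c) with hD
  have hζ2 := hζ.pow_eq_one
  have ya : y⁻¹ * a * y = c * a := by
    have h1 : a = y * c * y⁻¹ * b := by rw [hyc, mul_assoc, hb, mul_one]
    rw [h1]
    nth_rewrite 1 [← hya]
    have e1 : y⁻¹ * (y * c * y⁻¹ * (y * a * y⁻¹)) * y = c * a := by group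
    rw [e1]
    nth_rewrite 1 [h1]
    rfl
  have yb : y⁻¹ * b * y = a := by rw [← hya]; group
  have yc : y⁻¹ * c * y = b := by rw [← hyb]; group
  let φ : (Fin 3 → ZMod 2) → (Fin 3 → ZMod 2) := fun e => ![e 2 + e 0, e 0, e 1]
  have hmap : ∀ (e : Fin 3 → ZMod 2), ∀ v ∈ W 2 ζ (fun k => h.σ (x k)) e, ∀ k,
      h.σ (y⁻¹ * x k * y) v = ζ ^ (φ e k).val • v := by
    intro e v hv k
    rw [mem_W] at hv
    have hva : h.σ a v = ζ ^ (e 0).val • v := hv 0
    have hvb : h.σ b v = ζ ^ (e 1).val • v := hv 1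
    have hvc : h.σ c v = ζ ^ (e 2).val • v := hv 2
    fin_cases k
    · change h.σ (y⁻¹ * a * y) v = ζ ^ (e 2 + e 0).val • v
      rw [ya, Cfsg.Agent.H637.JW.act_mul hvc hva, pow_val_add hζ2]
    · change h.σ (y⁻¹ * b * y) v = ζ ^ (e 0).val • v
      rw [yb, hva]
    · change h.σ (y⁻¹ * c * y) v = ζ ^ (e 1).val • v
      rw [yc, hvb]
  have hDle : ∀ e, D e ≤ D (φ e) := fun e => finrank_W_le y (hmap e)
  have hDle' : ∀ n e, D e ≤ D (φ^[n] e) := by
    intro n
    induction n with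
    | zero => intro e; exact le_rfl
    | succ n ih => intro e; rw [Function.iterate_succ_apply]; exact (hDle e).trans (ih _)
  have hDeq : ∀ e, e ≠ 0 → D e = D ![1, 0, 0] := by
    intro e he
    have h1 : ∀ e : Fin 3 → ZMod 2, e ≠ 0 → (∃ n : Fin 7, φ^[n] e = ![1, 0, 0]) ∧ (∃ n : Fin 7, φ^[n] ![1, 0, 0] = e) := by
      decide +kernel
    obtain ⟨⟨n, hn⟩, ⟨m, hm⟩⟩ := h1 e he
    refine le_antisymm ?_ ?_
    · have := hDle' n e
      rwa [hn] at this
    · have := hDle' m ![1, 0, 0]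
      rwa [hm] at this
  have hs : D 0 + 7 * D ![1, 0, 0] = 8 := by
    have h1 : ∑ e, D e = 8 := by rw [← Module.finrank_fin_fun (AlgebraicClosure F) (n := 8), ← hsum]
    rw [← Finset.add_sum_erase _ _ (Finset.mem_univ 0),
      Finset.sum_congr rfl (g := fun _ => D ![1, 0, 0]) (fun e he => hDeq e (Finset.ne_of_mem_erase he)),
      Finset.sum_const] at h1
    have h2 : (Finset.univ.erase (0 : Fin 3 → ZMod 2)).card = 7 := by decide
    rwa [h2, smul_eq_mul] at h1
  have hne : D 0 ≠ 8 := by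
    intro h0
    have h1 : W 2 ζ (fun k => h.σ (x k)) 0 = ⊤ :=
      Submodule.eq_top_of_finrank_eq (by rw [Module.finrank_fin_fun]; exact h0)
    apply ha1
    apply h.σ_injective
    rw [map_one]
    apply LinearMap.ext
    intro v
    have h2 : v ∈ W 2 ζ (fun k => h.σ (x k)) 0 := by rw [h1]; trivial
    rw [mem_W] at h2
    have h3 : h.σ a v = ζ ^ (0 : ZMod 2).val • v := h2 0
    rw [h3, ZMod.val_zero, pow_zero, one_smul, Module.End.one_apply]
  have hD0 : D 0 = 1 := by
    clear_value D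
    omega
  obtain ⟨v, hv, hv0⟩ := exists_fix_of_pos (U := W 2 ζ (fun k => h.σ (x k)) 0) (by
    change 0 < D 0
    rw [hD0]; norm_num)
  have hva : h.σ a v = v := by
    have h3 : h.σ a v = ζ ^ (0 : ZMod 2).val • v := mem_W.1 hv 0
    rw [h3, ZMod.val_zero, pow_zero, one_smul]
  refine ⟨v, hv0, hva, ?_⟩
  -- `v` is not isotropic
  have hiso : h.B v v ≠ 0 := by
    intro h0
    apply hv0
    apply h.B_nondeg
    intro w
    have htop := iSup_W h2' hζ (f := fun k => h.σ (x k)) hcc hf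
    have hw : w ∈ (⨆ d, W 2 ζ (fun k => h.σ (x k)) d) := by rw [htop]; trivial
    induction hw using Submodule.iSup_induction' with
    | mem d w hw =>
      by_cases hd : d = 0
      · subst hd
        obtain ⟨r, hr⟩ := (finrank_eq_one_iff_of_nonzero' (⟨v, hv⟩ : W 2 ζ (fun k => h.σ (x k)) 0)
          (fun h1 => hv0 (congrArg Subtype.val h1))).1 hD0 ⟨w, hw⟩
        have hr' : r • v = w := congrArg Subtype.val hr
        rw [← hr', h.B_smul_left, h0, mul_zero]
      · exact h.B_eq_zero hζ (by rw [add_zero]; exact hd) hw hv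
    | zero => rw [show (0 : Fin 8 → AlgebraicClosure F) = (0 : AlgebraicClosure F) • 0 by simp, h.B_smul_left, zero_mul]
    | add a b _ _ ha hb => rw [h.B_add_left, ha, hb, add_zero]
  -- `y v = r v`
  have hyv : h.σ y v ∈ W 2 ζ (fun k => h.σ (x k)) 0 := by
    rw [mem_W]
    intro k
    have h1 := hmap 0 v hv k
    have h2 : h.σ (x k) (h.σ y v) = h.σ y (h.σ (y⁻¹ * x k * y) v) := by
      rw [← Cfsg.Agent.H637.JW.mul_apply', ← Cfsg.Agent.H637.JW.mul_apply']
      congr 2
      group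
    have h3 : φ 0 k = 0 := by
      fin_cases k <;> rfl
    rw [h2, h1, _root_.map_smul, h3]
    rfl
  obtain ⟨r, hr⟩ := (finrank_eq_one_iff_of_nonzero' (⟨v, hv⟩ : W 2 ζ (fun k => h.σ (x k)) 0)
    (fun h1 => hv0 (congrArg Subtype.val h1))).1 hD0 ⟨h.σ y v, hyv⟩
  have hr' : r • v = h.σ y v := congrArg Subtype.val hr
  have hr2 : r * r = 1 := by
    have h1 := h.B_inv y v v
    rw [← hr', h.B_smul_left, h.B_smul_right] at h1
    have h3 : (r * r - 1) * h.B v v = 0 := by linear_combination h1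
    exact sub_eq_zero.1 ((mul_eq_zero.1 h3).resolve_right hiso)
  have hr7 : r ^ 7 = 1 := by
    have h1 := pow_apply hr'.symm 7
    rw [← map_pow, hy, map_one, Module.End.one_apply] at h1
    have h3 : (r ^ 7 - 1) • v = 0 := by rw [sub_smul, one_smul, ← h1, sub_self]
    exact sub_eq_zero.1 ((smul_eq_zero.1 h3).resolve_right hv0)
  have hr1 : r = 1 := by
    have : r ^ 7 = r := by
      calc r ^ 7 = (r * r) * (r * r) * (r * r) * r := by ring
        _ = r := by rw [hr2]; ring
    rw [← this, hr7]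
  rw [← hr', hr1, one_smul]

end frob

section eight

variable {K : Type v} [Field K] [Fintype K]

theorem exists_root_eight (hK : Fintype.card K = 8) : (2 : K) = 0 ∧ (∀ x : K, x ^ 8 = x) ∧ ∃ m : K, m ^ 3 = m + 1 := by
  have hchar : CharP K 2 := by
    obtain ⟨p, hp⟩ := CharP.exists K
    have : Fact p.Prime := ⟨CharP.char_is_prime K p⟩
    have h1 : p ∣ Fintype.card K := by
      obtain ⟨n, -, hn⟩ := FiniteField.card K p
      rw [hn]; exact dvd_pow_self _ n.pos.ne'
    rw [hK] at h1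
    have h2 : p ∣ 2 := this.out.dvd_of_dvd_pow (show p ∣ 2 ^ 3 from h1)
    rw [(Nat.prime_dvd_prime_iff_eq this.out Nat.prime_two).1 h2] at hp
    exact hp
  have h20 : (2 : K) = 0 := by exact_mod_cast CharP.cast_eq_zero K 2
  have hpow : ∀ x : K, x ^ 8 = x := by
    intro x
    rw [← hK]; exact FiniteField.pow_card x
  have hex : ∃ x : K, x ≠ 0 ∧ x ≠ 1 := by
    classical
    by_contra hcon
    push Not at hcon
    have h1 : (Finset.univ : Finset K) ⊆ {0, 1} := by
      intro x _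
      rw [Finset.mem_insert, Finset.mem_singleton]
      by_cases h0 : x = 0
      · exact Or.inl h0
      · exact Or.inr (hcon x h0)
    have h2 := Finset.card_le_card h1
    rw [Finset.card_univ, hK] at h2
    have h3 : ({0, 1} : Finset K).card ≤ 2 := Finset.card_le_two
    omega
  refine ⟨h20, hpow, ?_⟩
  obtain ⟨x, hx0, hx1⟩ := hex
  have h1 : x * (x - 1) * ((x ^ 3 + x + 1) * (x ^ 3 + x ^ 2 + 1)) = 0 := by
    linear_combination hpow x + (x ^ 5 - x ^ 4) * h20
  have h2 : (x ^ 3 + x + 1) * (x ^ 3 + x ^ 2 + 1) = 0 :=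
    (mul_eq_zero.1 h1).resolve_left (mul_ne_zero hx0 (sub_ne_zero.2 hx1))
  rcases mul_eq_zero.1 h2 with h3 | h3
  · exact ⟨x, by linear_combination h3 - (x + 1) * h20⟩
  · refine ⟨x⁻¹, ?_⟩
    field_simp
    linear_combination h3 - (x ^ 2 + x ^ 3) * h20

theorem dg_pow {l : K} (hl : l ≠ 0) (n : ℕ) : dg l hl ^ n = dg (l ^ n) (pow_ne_zero n hl) := by
  induction n with
  | zero =>
    rw [pow_zero, dg_congr _ (pow_zero l), dg_one]
  | succ n ih =>
    rw [pow_succ, ih, dg_mul, dg_congr _ (pow_succ l n).symm]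

theorem ut_zero : ut (0 : K) = 1 := by
  apply Subtype.ext
  change !![(1 : K), 0; 0, 1] = 1
  exact Matrix.one_fin_two.symm

/-- a matrix fixing a point satisfies `g ^ 14 = 1` -/
theorem pow_fourteen [DecidableEq K] (hK : Fintype.card K = 8) (g : _root_.Matrix.SpecialLinearGroup (Fin 2) K) (o : OnePoint K)
    (hg : act g o = o) : g ^ 14 = 1 := by
  obtain ⟨h20, hpow, -⟩ := exists_root_eight hK
  have h1 : ((rep o)⁻¹ * (g * rep o)).1 1 0 = 0 := by
    rw [← act_infty, act_mul, act_mul, act_rep, hg, act_rep_inv]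
  obtain ⟨x, hx, t, hxt⟩ := upper_eq _ h1
  have hx7 : x ^ 7 = 1 := by
    have h2 : x * (x ^ 7 - 1) = 0 := by linear_combination hpow x
    exact sub_eq_zero.1 ((mul_eq_zero.1 h2).resolve_left hx)
  -- powers of upper triangular matrices
  have h3 : ∀ n : ℕ, ∃ s : K, (dg x hx * ut t) ^ n = ut s * dg (x ^ n) (pow_ne_zero n hx) := by
    intro n
    induction n with
    | zero => exact ⟨0, by rw [pow_zero, ut_zero, dg_congr _ (pow_zero x), dg_one, mul_one]⟩
    | succ n ih =>
      obtain ⟨s, hs⟩ := ih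
      refine ⟨s + x ^ (n + 1) * x ^ (n + 1) * t, ?_⟩
      rw [pow_succ, hs, ← ut_mul, ← dg_ut (pow_ne_zero (n + 1) hx)]
      have h4 : dg (x ^ n) (pow_ne_zero n hx) * dg x hx = dg (x ^ (n + 1)) (pow_ne_zero (n + 1) hx) := by
        rw [dg_mul, dg_congr _ (pow_succ x n).symm]
      rw [← h4]
      group
  obtain ⟨s, hs⟩ := h3 7
  rw [dg_congr _ hx7, dg_one, mul_one] at hs
  have h5 : (dg x hx * ut t) ^ 14 = 1 := by
    rw [show 14 = 7 * 2 by norm_num, pow_mul, hs, pow_two, ut_mul]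
    have : s + s = 0 := by linear_combination s * h20
    rw [this, ut_zero]
  rw [← hxt] at h5
  have h6 : g = rep o * ((rep o)⁻¹ * (g * rep o)) * (rep o)⁻¹ := by group
  rw [h6, conj_pow, h5]
  group

variable {F : Type u} [Field F] (h : H917.Om.OC F (Matrix.ProjectiveSpecialLinearGroup (Fin 2) K))

theorem borel_fixed_eight (hK : Fintype.card K = 8) {l : K} (hl : l ≠ 0) (hl1 : l ≠ 1)
    {v : Fin 8 → AlgebraicClosure F} (h1 : tau h (ut 1) v = v)
    (h2 : tau h (dg l hl) v = v) (b : _root_.Matrix.SpecialLinearGroup (Fin 2) K) (hb : b.1 1 0 = 0) :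
    tau h b v = v := by
  classical
  obtain ⟨h20, hpow, -⟩ := exists_root_eight hK
  let S := stab (tau h) v
  change b ∈ S
  have h1 : ut (1 : K) ∈ S := h1
  have h2 : dg l hl ∈ S := h2
  have hdg : ∀ (x : K) (hx : x ≠ 0), dg x hx ∈ S := by
    intro x hx
    have hcard : Nat.card Kˣ = 7 := by
      rw [Nat.card_eq_fintype_card, Fintype.card_units, hK]
    have : Fact (Nat.Prime 7) := ⟨by norm_num⟩
    have h3 := mem_powers_of_prime_card (G := Kˣ) (g := Units.mk0 l hl) (g' := Units.mk0 x hx) hcard (by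
      intro h4
      exact hl1 (congrArg Units.val h4))
    obtain ⟨n, hn⟩ := h3
    have h4 : l ^ n = x := by
      have := congrArg Units.val hn
      simpa using this
    have h5 := pow_mem h2 n
    rw [dg_pow] at h5
    rwa [dg_congr _ h4] at h5
  have hut : ∀ t : K, ut t ∈ S := by
    intro t
    by_cases ht : t = 0
    · rw [ht, ut_zero]; exact one_mem _
    · have h3 := mul_mem (mul_mem (hdg (t ^ 4) (pow_ne_zero 4 ht)) h1) (inv_mem (hdg (t ^ 4) (pow_ne_zero 4 ht)))
      rw [dg_ut] at h3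
      have h4 : t ^ 4 * t ^ 4 * 1 = t := by linear_combination hpow t
      rwa [h4] at h3
  obtain ⟨x, hx, t, rfl⟩ := upper_eq b hb
  exact mul_mem (hdg x hx) (hut t)

theorem tr_gram [DecidableEq K] [DecidableEq (OnePoint K)] {v : Fin 8 → AlgebraicClosure F}
    (hv : ∀ b : _root_.Matrix.SpecialLinearGroup (Fin 2) K, b.1 1 0 = 0 → tau h b v = v) (i j : OnePoint K) :
    h.B (tr (tau h) v i) (tr (tau h) v j) = if i = j then h.B v v else h.B v (tr (tau h) v ((0 : K) : OnePoint K)) := by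
  by_cases hij : i = j
  · rw [if_pos hij, ← hij]
    exact tau_B h _ _ _
  · rw [if_neg hij]
    obtain ⟨g, hg1, hg2⟩ := exists_pair hij
    rw [← tau_B h g, tr_act (tau h) hv, tr_act (tau h) hv, hg1, hg2, tr_infty]

end eight

/-- **`PSL₂(8)`, `q` odd.** -/
theorem no_l28 {F : Type u} [Field F] [Fintype F] (h2 : (2 : F) ≠ 0) {K : Type v} [Field K] [Fintype K]
    (hK : Fintype.card K = 8) (h : H917.Om.OC F (Matrix.ProjectiveSpecialLinearGroup (Fin 2) K)) : False := by
  classical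
  obtain ⟨h20, hpow, m, hm⟩ := exists_root_eight hK
  have hm0 : m ≠ 0 := by
    rintro rfl
    norm_num at hm
  have hm1 : m ≠ 1 := by
    rintro rfl
    have : (1 : K) = 0 := by linear_combination (-1) * hm
    exact one_ne_zero this
  have hl : (m ^ 4) * (m ^ 4) = m := by rw [← pow_add]; exact hpow m
  have hl0 : m ^ 4 ≠ 0 := pow_ne_zero _ hm0
  have hl1 : m ^ 4 ≠ 1 := by
    intro h0
    rw [h0, mul_one] at hl
    exact hm1 hl.symm
  let π : _root_.Matrix.SpecialLinearGroup (Fin 2) K →* Matrix.ProjectiveSpecialLinearGroup (Fin 2) K := QuotientGroup.mk' _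
  have haa : ut (1 : K) * ut 1 = 1 := by
    rw [ut_mul]
    have : (1 : K) + 1 = 0 := by linear_combination h20
    rw [this, ut_zero]
  obtain ⟨v, hv0, hva, hvy⟩ := exists_frob_fixed h h2 (a := π (ut 1)) (b := π (ut m)) (c := π (ut (m * m)))
    (y := π (dg (m ^ 4) hl0)) (by rw [← map_mul, haa, map_one]) uu_ne_one
    (by rw [← map_mul, ← map_mul, ut_mul, ut_mul, add_comm])
    (by rw [← map_inv, ← map_mul, ← map_mul, dg_ut, hl, mul_one])
    (by rw [← map_inv, ← map_mul, ← map_mul, dg_ut, hl])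
    (by
      rw [← map_inv, ← map_mul, ← map_mul, ← map_mul, dg_ut, hl, ut_mul]
      congr 2
      linear_combination hm)
    (by
      rw [← map_pow, dg_pow]
      have : (m ^ 4) ^ 7 = 1 := by
        have h3 : m ^ 4 * ((m ^ 4) ^ 7 - 1) = 0 := by linear_combination hpow (m ^ 4)
        exact sub_eq_zero.1 ((mul_eq_zero.1 h3).resolve_left hl0)
      rw [dg_congr _ this, dg_one, map_one])
  have hv := borel_fixed_eight h hK hl0 hl1 (v := v) hva hvy
  have hsp := span_tr h hv0 hv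
  have hsum := sum_tr h hv
  have hcard : Fintype.card (OnePoint K) = 9 := by
    have : Fintype.card (OnePoint K) = Fintype.card K + 1 := Fintype.card_option
    rw [this, hK]
  set α := h.B v v with hα
  set β := h.B v (tr (tau h) v ((0 : K) : OnePoint K)) with hβ
  have hgram := tr_gram h hv
  rw [← hα, ← hβ] at hgram
  -- `α ≠ β`
  have hne : α ≠ β := by
    intro hab
    have h1 : ∀ i j, h.B (tr (tau h) v i) (tr (tau h) v j) = β := by
      intro i j
      rw [hgram, hab, ite_self]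
    have h3 : ∀ i, tr (tau h) v i = v := by
      intro i
      rw [← sub_eq_zero]
      apply h.B_nondeg
      intro w
      have hw : w ∈ Submodule.span (AlgebraicClosure F) (Set.range (tr (tau h) v)) := by rw [hsp]; trivial
      induction hw using Submodule.span_induction with
      | mem x hx =>
        obtain ⟨j, rfl⟩ := hx
        have h4 := h1 j i
        have h5 := h1 j ∞
        rw [tr_infty] at h5
        rw [sub_eq_add_neg, h.B_add_right, ← neg_one_smul (AlgebraicClosure F) v, h.B_smul_right, h4, h5]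
        ring
      | zero => rw [show (0 : Fin 8 → AlgebraicClosure F) = (0 : AlgebraicClosure F) • 0 by simp, h.B_smul_left, zero_mul]
      | add x y _ _ hx hy => rw [h.B_add_left, hx, hy, add_zero]
      | smul c x _ hx => rw [h.B_smul_left, hx, mul_zero]
    apply hv0
    apply eq_zero_of_tau h
    intro g
    have h4 := tr_act (tau h) hv g ∞
    rwa [tr_infty, h3] at h4
  have hab := (h.gram_card _ hne hgram).2 hcard
  by_cases h3 : (3 : F) = 0
  · have h3' : (3 : AlgebraicClosure F) = 0 := by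
      have := congrArg (algebraMap F (AlgebraicClosure F)) h3
      rw [map_zero, map_ofNat] at this
      exact this
    apply hne
    linear_combination hab - 3 * β * h3'
  -- an element of order nine
  let c : _root_.Matrix.SpecialLinearGroup (Fin 2) K := ⟨!![0, 1; 1, m], by
    rw [Matrix.det_fin_two_of]; linear_combination (-1) * h20⟩
  have hc3 : (c ^ 3).1 = !![m, m ^ 2 + 1; m ^ 2 + 1, m + 1] := by
    have h1 : (c ^ 3).1 = !![0, 1; 1, m] * !![0, 1; 1, m] * !![0, 1; 1, m] := by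
      rw [pow_succ, pow_two]; rfl
    rw [h1]
    ext i j
    fin_cases i <;> fin_cases j <;> simp only [Matrix.mul_apply, Fin.sum_univ_two, _root_.Matrix.cons_mul, _root_.Nat.succ_eq_add_one, _root_.Nat.reduceAdd, _root_.Matrix.vecMul_cons, _root_.Matrix.head_cons, _root_.zero_smul, _root_.Matrix.tail_cons, _root_.one_smul, _root_.Matrix.empty_vecMul, _root_.add_zero, _root_.zero_add, _root_.Matrix.smul_cons, _root_.smul_eq_mul, _root_.mul_one, _root_.Matrix.smul_empty, _root_.Matrix.add_cons, _root_.Matrix.empty_add_empty, _root_.Matrix.empty_mul, _root_.Equiv.symm_apply_apply, _root_.Fin.zero_eta, _root_.Fin.isValue, _root_.Matrix.of_apply, _root_.Matrix.cons_val', _root_.Matrix.cons_val_fin_one, _root_.Matrix.cons_val_zero, _root_.MulZeroClass.mul_zero, _root_.Matrix.cons_val_one, _root_.Fin.mk_one, _root_.add_right_inj]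
    · ring
    · ring
    · linear_combination hm + m * h20
  have hc9 : c ^ 9 = 1 := by
    have h1 : (c ^ 9).1 = !![m, m ^ 2 + 1; m ^ 2 + 1, m + 1] * !![m, m ^ 2 + 1; m ^ 2 + 1, m + 1] *
        !![m, m ^ 2 + 1; m ^ 2 + 1, m + 1] := by
      rw [show 9 = 3 * 3 by norm_num, pow_mul, pow_succ, pow_two, ← hc3]; rfl
    apply Subtype.ext
    rw [h1]
    change _ = (1 : Matrix (Fin 2) (Fin 2) K)
    rw [Matrix.one_fin_two]
    ext i j
    fin_cases i <;> fin_cases j <;> simp only [Matrix.mul_apply, Fin.sum_univ_two, _root_.Matrix.cons_mul, _root_.Nat.succ_eq_add_one, _root_.Nat.reduceAdd, _root_.Matrix.vecMul_cons, _root_.Matrix.head_cons, _root_.Matrix.smul_cons, _root_.smul_eq_mul, _root_.Matrix.smul_empty, _root_.Matrix.tail_cons, _root_.Matrix.empty_vecMul, _root_.add_zero, _root_.Matrix.add_cons, _root_.Matrix.empty_add_empty, _root_.Matrix.empty_mul, _root_.Equiv.symm_apply_apply, _root_.Fin.zero_eta, _root_.Fin.isValue, _root_.Matrix.of_apply, _root_.Matrix.cons_val',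 _root_.Matrix.cons_val_fin_one, _root_.Matrix.cons_val_zero, _root_.Matrix.cons_val_one, _root_.Fin.mk_one]
    · linear_combination (10 + m + 3 * m ^ 2) * hm + (5 + 7 * m + 3 * m ^ 2) * h20
    · linear_combination (4 + 7 * m + m ^ 3) * hm + (3 + 7 * m + 7 * m ^ 2) * h20
    · linear_combination (4 + 7 * m + m ^ 3) * hm + (3 + 7 * m + 7 * m ^ 2) * h20
    · linear_combination (10 + 2 * m + 3 * m ^ 2) * hm + (6 + 9 * m + 6 * m ^ 2) * h20
  have hc3ne : c ^ 3 ≠ 1 := by
    intro h0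
    have h1 := congrArg (fun g : _root_.Matrix.SpecialLinearGroup (Fin 2) K => g.1 0 1) h0
    simp only [hc3] at h1
    change m ^ 2 + 1 = 0 at h1
    have h4 : (m + 1) ^ 2 = 0 := by linear_combination h1 + m * h20
    apply hm1
    have h5 := pow_eq_zero_iff (two_ne_zero) |>.1 h4
    linear_combination h5 - h20
  have hcord : orderOf c = 9 := by
    have : Fact (Nat.Prime 3) := ⟨Nat.prime_three⟩
    have := orderOf_eq_prime_pow (x := c) (p := 3) (n := 1) (by rw [pow_one]; exact hc3ne) (by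
      rw [show 3 ^ (1 + 1) = 9 by norm_num]; exact hc9)
    rw [this]; norm_num
  -- `c` acts regularly on the line
  have hreg : ∀ o : OnePoint K, Function.Injective (fun k : Fin 9 => act (c ^ (k : ℕ)) o) := by
    intro o
    have key : ∀ k l : ℕ, k ≤ l → l < 9 → act (c ^ k) o = act (c ^ l) o → k = l := by
      intro k l hkl hl9 hkl2
      have h1 : act (c ^ (l - k)) o = o := by
        apply act_inj (c ^ k)
        rw [← act_mul, ← pow_add, Nat.add_sub_cancel' hkl, hkl2]
      have h4 := pow_fourteen hK _ _ h1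
      have h5 : c ^ (l - k) = 1 := by
        have h6 : (c ^ (l - k)) ^ 9 = 1 := by rw [← pow_mul, mul_comm, pow_mul, hc9, one_pow]
        have h7 := orderOf_dvd_of_pow_eq_one h4
        have h8 := orderOf_dvd_of_pow_eq_one h6
        have h9 := Nat.dvd_gcd h7 h8
        have h10 : Nat.gcd 14 9 = 1 := by norm_num
        rw [h10, Nat.dvd_one] at h9
        exact orderOf_eq_one_iff.1 h9
      have h6 := orderOf_dvd_of_pow_eq_one h5
      rw [hcord] at h6
      have h7 := Nat.eq_zero_of_dvd_of_lt h6 (by omega)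
      omega
    intro k l hkl
    apply Fin.ext
    rcases le_total (k : ℕ) (l : ℕ) with h1 | h1
    · exact key k l h1 l.2 hkl
    · exact (key l k h1 k.2 hkl.symm).symm
  have hbij : ∀ o : OnePoint K, Function.Bijective (fun k : Fin 9 => act (c ^ (k : ℕ)) o) := by
    intro o
    rw [Fintype.bijective_iff_injective_and_card]
    exact ⟨hreg o, by rw [hcard, Fintype.card_fin]⟩
  have hN : ∀ w, ∑ k : Fin 9, tau h (c ^ (k : ℕ)) w = 0 := by
    intro w
    have hw : w ∈ Submodule.span (AlgebraicClosure F) (Set.range (tr (tau h) v)) := by rw [hsp]; trivial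
    induction hw using Submodule.span_induction with
    | mem x hx =>
      obtain ⟨j, rfl⟩ := hx
      rw [Finset.sum_congr rfl fun k _ => tr_act (tau h) hv _ j, ← hsum]
      exact (hbij j).sum_comp (tr (tau h) v)
    | zero => simp only [_root_.map_pow, _root_.map_zero, _root_.Finset.sum_const_zero]
    | add x y _ _ hx hy =>
      rw [← add_zero (0 : Fin 8 → AlgebraicClosure F)]
      nth_rewrite 1 [← hx]
      rw [← hy, ← Finset.sum_add_distrib]
      exact Finset.sum_congr rfl fun k _ => map_add _ _ _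
    | smul a x _ hx =>
      rw [← smul_zero a, ← hx, Finset.smul_sum]
      exact Finset.sum_congr rfl fun k _ => _root_.map_smul _ _ _
  -- a fixed vector
  have hA : IsPGroup 3 (Subgroup.zpowers (π c)) := by
    rintro ⟨_, z, rfl⟩
    refine ⟨2, ?_⟩
    apply Subtype.ext
    change ((π c) ^ z) ^ (3 ^ 2) = 1
    rw [← zpow_natCast, ← _root_.zpow_mul, mul_comm, _root_.zpow_mul, zpow_natCast, ← map_pow,
      show 3 ^ 2 = 9 by norm_num, hc9, map_one, _root_.one_zpow]
  obtain ⟨w, hw0, hw⟩ := h.exists_fixed_of_isPGroup (not_dvd_three h3) (Subgroup.zpowers (π c)) hA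
  have hcw : ∀ k : ℕ, tau h (c ^ k) w = w := by
    intro k
    exact hw (π (c ^ k)) (by rw [map_pow]; exact pow_mem (Subgroup.mem_zpowers _) k)
  have h9 := hN w
  rw [Finset.sum_congr rfl fun k _ => hcw _, Finset.sum_const, Finset.card_univ, Fintype.card_fin,
    ← Nat.cast_smul_eq_nsmul (AlgebraicClosure F)] at h9
  have h9' : ((9 : ℕ) : AlgebraicClosure F) ≠ 0 := by
    apply cast_ne_zero
    have : ((9 : ℕ) : F) = 3 * 3 := by norm_num
    rw [this]
    exact mul_ne_zero h3 h3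
  exact hw0 ((smul_eq_zero.1 h9).resolve_left h9')

end Cfsg.Agent.H24.Om
end

-- part: H916/NegOne
section
/-!
# Cores with simple group `Sp₆(2)` (dimension 8) or `Ω₈⁺(2)` contain `-1`
-/

set_option autoImplicit false
set_option linter.unusedSectionVars false
set_option linter.unusedVariables false

namespace Cfsg.Agent.H916.T8

open SpSix Om Halving Cfsg Cfsg.Agent.H915.LD Matrix Cfsg.Agent.LieClassical.OrthForms

universe u v

section core

variable {ι : Type} [Fintype ι] [DecidableEq ι] {F : Type u} [Field F] {P : Subgroup (GL ι F)} {T : Type v} [Group T]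

theorem neg_one_of_anti (hC : Core P) (e : Soc P ≃* T) {x y : T} (h : (coreRep hC e).AntiL x y) :
    (-1 : GL ι F) ∈ P := by
  obtain ⟨g, hg⟩ := toSoc_surjective P (e.symm x)
  obtain ⟨g', hg'⟩ := toSoc_surjective P (e.symm y)
  have h1 := mem_coreRep hC e g
  have h2 := mem_coreRep hC e g'
  rw [hg, MulEquiv.apply_symm_apply] at h1
  rw [hg', MulEquiv.apply_symm_apply] at h2
  have h3 := h _ h1 _ h2
  rw [← map_mul, ← map_mul] at h3
  have h4 : ((g * g' : P) : GL ι F) = -((g' * g : P) : GL ι F) := by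
    apply Units.ext
    ext i j
    have h5 := congrFun (LinearMap.congr_fun h3 (Pi.single j 1)) i
    rw [LinearMap.neg_apply, Pi.neg_apply, H911.Five.rep_apply, H911.Five.rep_apply] at h5
    simp only [Matrix.mulVec_single_one, Matrix.col_apply, Matrix.map_apply] at h5
    apply (algebraMap F (AlgebraicClosure F)).injective
    rw [Units.val_neg, Matrix.neg_apply, map_neg]
    exact h5
  have h5 : (-1 : GL ι F) = ((g * g' * (g' * g)⁻¹ : P) : GL ι F) := by
    rw [Subgroup.coe_mul, h4, Subgroup.coe_inv, neg_mul, mul_inv_cancel]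
  rw [h5]
  exact (g * g' * (g' * g)⁻¹).2

end core

section prep

variable {T k V : Type*} [Group T] [Field k] [IsAlgClosed k] [AddCommGroup V] [Module k V] [FiniteDimensional k V]
  (R : PRep T k V) {τ : ℕ → ℕ → T} (D : OmData τ) (h2 : (2 : k) ≠ 0) (hV : Module.finrank k V = 8)

include D h2 hV

theorem anti_of_comm (hc : R.CommL (τ n0 (lift 1)) (τ n0 (lift 2))) :
    R.AntiL (τ n0 (lift 1) * τ (lift 2) (lift 3)) (τ 17 21 * τ 25 29) := by
  have : Nontrivial V := Module.nontrivial_of_finrank_pos (R := k) (by rw [hV]; norm_num)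
  have hfin : Module.finrank k V ≤ 13 := by omega
  obtain ⟨Γ, hA⟩ := D.spData.exists_CA R hc
  have hl := hA.ne D.spData
  have FE := fanoE hA.cox hA.prod
  have hm : ∀ {v}, 0 < v → v < 64 → Ga Γ v ∈ R.L (τ n0 (lift v)) := fun h0 h => D.spData.ga_mem R hA.mem h0 h
  have hZ1 : Module.finrank k (ZZ (TT Γ)) = 1 := by
    have := finrank_eq h2 hfin FE hl
    omega
  have n17 : ns 17 := by decide
  have n21 : ns 21 := by decide
  have n25 : ns 25 := by decide
  have n29 : ns 29 := by decide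
  obtain ⟨Y, hY⟩ := R.ex (τ 17 21 * τ 25 29)
  have hYi := R.injective hY
  have hconj : ∀ {n m n' m' : ℕ}, ns n → ns m → rr 17 (rr 21 (rr 25 (rr 29 n))) = n' →
      rr 17 (rr 21 (rr 25 (rr 29 m))) = m' → (τ 17 21 * τ 25 29) * τ n m = τ n' m' * (τ 17 21 * τ 25 29) := by
    intro n m n' m' hn hm' e1 e2
    have h3 := D.conj n25 n29 hn hm'
    have h4 := D.conj n17 n21 (rr_ns n25 (rr_ns n29 hn)) (rr_ns n25 (rr_ns n29 hm'))
    rw [e1, e2, ← h3, ← D.inv n17 n21, ← D.inv n25 n29] at h4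
    rw [← h4]; group
  have dimT : ∀ {A : Module.End k V}, A * A = 1 →
      8 = Module.finrank k (eig ⊤ A 1) + Module.finrank k (eig ⊤ A (-1)) := by
    intro A hA
    have := finrank_add (W := ⊤) (A := A) (a := 1) h2 one_ne_zero (fun _ _ => trivial) (by
      rw [hA, mul_one, one_smul])
    rwa [finrank_top, hV] at this
  have hT : ∀ i : Fin 7, TT Γ i ∈ R.L (τ n0 (lift (i + 1))) := fun i => hm (Nat.succ_pos _) (by omega)
  have hTT : ∀ i j : Fin 7, ns (lift (i + 1)) → ns (lift (j + 1)) → bf n0 (lift (i + 1)) = false →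
      TT Γ i * TT Γ j ∈ R.L (τ (lift (i + 1)) (lift (j + 1))) := by
    intro i j ni nj oi
    have h := R.mul (hT i) (hT j)
    rw [D.symm ns_n0 ni oi, D.mul ni ns_n0 nj] at h
    exact h
  have sqT : ∀ i j : Fin 7, (TT Γ i * TT Γ j) * (TT Γ i * TT Γ j) = 1 := fun i j =>
    comm_sq (FE.sq i) (FE.sq j) (FE.comm i j)
  have l2 : ns (lift 2) := by decide
  have l3 : ns (lift 3) := by decide
  have l4 : ns (lift 4) := by decide
  have l5 : ns (lift 5) := by decide
  have l6 : ns (lift 6) := by decide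
  have l7 : ns (lift 7) := by decide
  have hA1 := hT 0
  have hB1 := hTT 3 4 l4 l5 (by decide)
  have hA2 := hTT 1 2 l2 l3 (by decide)
  have hB2 := hTT 5 6 l6 l7 (by decide)
  have d1 := finrank_plus h2 hfin FE hl 0
  have d2 := finrank_prod_minus h2 hfin FE hl (u := 3) (v := 4) (by decide)
  have d3 := finrank_prod_minus h2 hfin FE hl (u := 1) (v := 2) (by decide)
  have d4 := finrank_prod_minus h2 hfin FE hl (u := 5) (v := 6) (by decide)
  have s1 := dimT (FE.sq 0)
  have s2 := dimT (sqT 3 4)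
  have s3 := dimT (sqT 1 2)
  have s4 := dimT (sqT 5 6)
  have c1 : Y * TT Γ 0 = -((TT Γ 3 * TT Γ 4) * Y) := by
    rcases R.conj_lift hY hA1 (FE.sq 0) hB1 (sqT 3 4) (hconj ns_n0 (by decide) (by decide) (by decide)) with h | h
    · exfalso
      have := finrank_eig_conj (a := -1) hYi h
      omega
    · exact h
  have c2 : Y * (TT Γ 1 * TT Γ 2) = (TT Γ 5 * TT Γ 6) * Y := by
    rcases R.conj_lift hY hA2 (sqT 1 2) hB2 (sqT 5 6) (hconj l2 l3 (by decide) (by decide)) with h | h
    · exact h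
    · exfalso
      have h' : Y * (TT Γ 1 * TT Γ 2) = (-(TT Γ 5 * TT Γ 6)) * Y := by rw [h, neg_mul]
      have := finrank_eig_conj (a := 1) hYi h'
      rw [eig_neg] at this
      omega
  have hprod : (TT Γ 3 * TT Γ 4) * (TT Γ 5 * TT Γ 6) = TT Γ 0 * (TT Γ 1 * TT Γ 2) := by
    have hp := FE.prod
    have q0 := FE.sq 0
    have q1 := FE.sq 1
    have q2 := FE.sq 2
    have e01 := FE.comm 0 1
    have e02 := FE.comm 0 2
    have e12 := FE.comm 1 2
    have hX2 : (TT Γ 0 * (TT Γ 1 * TT Γ 2)) * (TT Γ 0 * (TT Γ 1 * TT Γ 2)) = 1 :=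
      comm_sq q0 (sqT 1 2) (Commute.mul_right e01 e02)
    have hp' : (TT Γ 0 * (TT Γ 1 * TT Γ 2)) * ((TT Γ 3 * TT Γ 4) * (TT Γ 5 * TT Γ 6)) = 1 := by
      rw [← hp]; simp only [mul_assoc]
    calc (TT Γ 3 * TT Γ 4) * (TT Γ 5 * TT Γ 6) =
        ((TT Γ 0 * (TT Γ 1 * TT Γ 2)) * (TT Γ 0 * (TT Γ 1 * TT Γ 2))) * ((TT Γ 3 * TT Γ 4) * (TT Γ 5 * TT Γ 6)) := by
          rw [hX2, one_mul]
      _ = (TT Γ 0 * (TT Γ 1 * TT Γ 2)) * ((TT Γ 0 * (TT Γ 1 * TT Γ 2)) * ((TT Γ 3 * TT Γ 4) * (TT Γ 5 * TT Γ 6))) := by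
          rw [mul_assoc (TT Γ 0 * (TT Γ 1 * TT Γ 2))]
      _ = _ := by rw [hp', mul_one]
  refine R.anti_of (R.mul hA1 hA2) hY ?_
  have h9 : Y * (TT Γ 0 * (TT Γ 1 * TT Γ 2)) = -((TT Γ 0 * (TT Γ 1 * TT Γ 2)) * Y) := by
    calc Y * (TT Γ 0 * (TT Γ 1 * TT Γ 2)) = (Y * TT Γ 0) * (TT Γ 1 * TT Γ 2) := by rw [mul_assoc]
      _ = -((TT Γ 3 * TT Γ 4) * (Y * (TT Γ 1 * TT Γ 2))) := by rw [c1, neg_mul, mul_assoc]
      _ = -(((TT Γ 3 * TT Γ 4) * (TT Γ 5 * TT Γ 6)) * Y) := by rw [c2, mul_assoc (TT Γ 3 * TT Γ 4)]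
      _ = _ := by rw [hprod]
  rw [h9, neg_neg]

end prep

section core

variable {ι : Type} [Fintype ι] [DecidableEq ι] {F : Type u} [Field F] {P : Subgroup (GL ι F)}
  {K : Type v} [Field K] [Fintype K]

/-- **`Sp₆(2)` in dimension 8: `-1 ∈ P`.** -/
theorem sp_neg (hK : Fintype.card K = 2) (hC : Core P) (e : Soc P ≃* PSp 3 K)
    (h2 : (2 : F) ≠ 0) (hn : Fintype.card ι = 8) : (-1 : GL ι F) ∈ P := by
  rcases core_sp hC e (spData (zero_or_one hK)) (spGen (zero_or_one hK)) h2 (by omega) with h | h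
  · omega
  · exact neg_one_of_anti hC e h.2

/-- **`Ω₈⁺(2)`: `-1 ∈ P`.** -/
theorem om_neg (hK : Fintype.card K = 2) (hC : Core P) (e : Soc P ≃* POmega K (quadFormPlus 4 K))
    (h2 : (2 : F) ≠ 0) (hn : Fintype.card ι ≤ 13) : (-1 : GL ι F) ∈ P := by
  have : Nonempty ι := hC.nonempty
  have h8 := omega_dim (zero_or_one hK) hC e h2 hn
  have h2' : (2 : AlgebraicClosure F) ≠ 0 := by
    intro h
    apply h2
    apply (algebraMap F (AlgebraicClosure F)).injective
    rw [map_zero, map_ofNat, h]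
  have hV : Module.finrank (AlgebraicClosure F) (ι → AlgebraicClosure F) = 8 := by
    rw [Module.finrank_fintype_fun_eq_card]; exact h8
  rw [← coe_plusForm] at e
  have D := omData (K := K) (zero_or_one hK)
  rcases D.spData.dichotomy (coreRep hC e) with hc | hc
  · exact neg_one_of_anti hC e (anti_of_comm (coreRep hC e) D h2' hV hc)
  · exact neg_one_of_anti hC e hc

end core

end Cfsg.Agent.H916.T8
end

-- part: H917/OmCross
section
/-!
# `Ω₈⁻(q)`: the residual class, cross characteristic (helper917, row S5827)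
-/

set_option autoImplicit false
set_option linter.unusedSectionVars false

namespace Cfsg.Agent.H917.Om

open Cfsg Cfsg.Geo Module Matrix Cfsg.Agent.H915.LD Cfsg.Agent.H936.List12 Cfsg.Agent.H912.Bd Cfsg.Agent.H912.Five

universe u v

variable {F : Type u} [Field F] [Fintype F] {Q : (Fin 8 → F) → F} {H P : Subgroup (GL (Fin 8) F)}

theorem toOC_mem {T : Type v} [Group T] (nd : IsNondegenerateQuadraticForm Q) (minus : ¬ IsPlusTypeOn Q ⊤)
    (hP : P ≤ omegaGL Q) (hirr : ActsAbsolutelyIrreducibly (matrixSet P)) (e : Soc P ≃* T) (t : T) :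
    (toOC nd minus hP hirr e).ρ t ∈ P :=
  Subtype.property _

theorem toOC_ex {T : Type v} [Group T] (nd : IsNondegenerateQuadraticForm Q) (minus : ¬ IsPlusTypeOn Q ⊤)
    (hP : P ≤ omegaGL Q) (hirr : ActsAbsolutelyIrreducibly (matrixSet P)) (e : Soc P ≃* T) {x : GL (Fin 8) F}
    (hx : x ∈ P) : ∃ t, x = (toOC nd minus hP hirr e).ρ t := by
  refine ⟨e (toSoc P ⟨x, hx⟩), ?_⟩
  have hb : Function.Bijective (toSoc P) := ⟨by
    rw [← MonoidHom.ker_eq_bot_iff, ker_toSoc]
    exact scalars_bot nd minus hP, toSoc_surjective P⟩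
  let e' : P ≃* T := (MulEquiv.ofBijective (toSoc P) hb).trans e
  have h1 : e'.symm (e (toSoc P ⟨x, hx⟩)) = ⟨x, hx⟩ := by
    rw [MulEquiv.symm_apply_eq]
    rfl
  change x = ((e'.symm (e (toSoc P ⟨x, hx⟩)) : P) : GL (Fin 8) F)
  rw [h1]

theorem toOC_norm {T : Type v} [Group T] (nd : IsNondegenerateQuadraticForm Q) (minus : ¬ IsPlusTypeOn Q ⊤)
    (hP : P ≤ omegaGL Q) (hc : IsResidualCore H P) (e : Soc P ≃* T) :
    ∀ x ∈ H, ∀ t, ∃ t', x * (toOC nd minus hP hc.absIrred e).ρ t * x⁻¹ = (toOC nd minus hP hc.absIrred e).ρ t' :=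
  fun x hx t => toOC_ex nd minus hP hc.absIrred e (hc.normal x hx _ (toOC_mem nd minus hP hc.absIrred e t))

section main

variable (p : ℕ) [hp : Fact p.Prime] [CharP F p] (nd : IsNondegenerateQuadraticForm Q)
  (minus : ¬ IsPlusTypeOn Q ⊤) (hH : IsMaximalIn (omegaGL Q) H) (hc : IsResidualCore H P)
include nd minus hH hc

theorem le_omega : P ≤ omegaGL Q := hc.le.trans hH.1.le

theorem fixes : FixesQuadForm (matrixSet P) Q := by
  rintro _ ⟨x, hx, rfl⟩ v
  exact mem_omegaGL_fix (le_omega nd minus hH hc hx) v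

theorem neg_one_not (h2 : (2 : F) ≠ 0) : (-1 : GL (Fin 8) F) ∉ P := by
  intro h
  exact neg_one_not_mem h2 nd minus (le_omega nd minus hH hc h) (by rw [Units.val_neg, Units.val_one])

theorem oc {T : Type v} [Group T] (h : Nonempty (Soc P ≃* T)) : Nonempty (OC F T) :=
  h.map fun e => toOC nd minus (le_omega nd minus hH hc) hc.absIrred e

theorem oc_fields {T : Type v} [Group T] (h : Nonempty (Soc P ≃* T)) :
    ∃ h : OC F T, h.Q = Q ∧ ∀ x ∈ H, ∀ t, ∃ t', x * h.ρ t * x⁻¹ = h.ρ t' := by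
  obtain ⟨e⟩ := h
  exact ⟨toOC nd minus (le_omega nd minus hH hc) hc.absIrred e, rfl, toOC_norm nd minus (le_omega nd minus hH hc) hc e⟩

include hp

theorem two_ne (h2 : p ≠ 2) : (2 : F) ≠ 0 := by
  have := cast_ne (F := F) (p := p) Nat.prime_two (Ne.symm h2)
  exact_mod_cast this

theorem three_ne (h3 : p ≠ 3) : (3 : F) ≠ 0 := by
  have := cast_ne (F := F) (p := p) Nat.prime_three (Ne.symm h3)
  exact_mod_cast this

theorem three_eq (h3 : p = 3) : (3 : F) = 0 := by
  subst h3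
  have := CharP.cast_eq_zero F 3
  exact_mod_cast this

/-- **The alternating groups.** -/
theorem no_alt (hL : ¬ IsLieTypeChar p (Soc P)) {m : ℕ} (h5 : 5 ≤ m)
    (e : Nonempty (Soc P ≃* alternatingGroup (Fin m))) : False := by
  have hC := core_of_residual hc
  have hoc := oc nd minus hH hc e
  rcases (show m = 5 ∨ m = 6 ∨ m = 7 ∨ m = 8 ∨ 9 ≤ m by omega) with rfl | rfl | rfl | rfl | h9
  · obtain ⟨e⟩ := e
    by_cases h5 : p = 5
    · subst h5
      apply hL
      have : Fact (Nat.Prime 5) := ⟨by norm_num⟩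
      obtain ⟨f⟩ := Cfsg.Agent.S0253.result (F := ZMod 5) (ZMod.card 5)
      exact lie_of_isL (m := 2) (q := 5) Nat.prime_five (dvd_refl 5) le_rfl (fun _ => by norm_num)
        ⟨ZMod 5, inferInstance, inferInstance, ZMod.card 5, ⟨e.trans f.symm⟩⟩
    · have := H937.T2.a5_dims p hC e h5
      simp at this
  · obtain ⟨e⟩ := e
    by_cases h3 : p = 3
    · subst h3
      obtain ⟨K, iK, iKf, hK, hK3, f⟩ := H937.T2.exists_nine e
      exact hL (lie_of_isL (m := 2) (q := 9) Nat.prime_three (by norm_num) le_rfl (fun _ => by norm_num)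
        ⟨K, iK, iKf, hK, f⟩)
    · exact no_A6 (three_ne p nd minus hH hc h3) hoc.some
  · by_cases h3 : p = 3
    · exact H936.OmA7.no_A7_three (three_eq p nd minus hH hc h3) hoc.some
    · exact no_A7 (three_ne p nd minus hH hc h3) hoc.some
  · obtain ⟨e⟩ := e
    by_cases h2 : p = 2
    · subst h2
      obtain ⟨f⟩ := Cfsg.Agent.S0256.result (F := ZMod 2) (ZMod.card 2)
      exact hL (lie_of_isL (m := 4) (q := 2) Nat.prime_two (dvd_refl 2) (by norm_num) (fun h => by omega)
        ⟨ZMod 2, inferInstance, inferInstance, ZMod.card 2, ⟨e.trans f.symm⟩⟩)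
    · exact OC.no_A8 hoc.some (two_ne p nd minus hH hc h2)
  · exact OC.no_Am h9 hoc.some

/-- **`L₂(q)`**, cross characteristic. -/
theorem no_l2 (hL : ¬ IsLieTypeChar p (Soc P)) {q : ℕ} (hq : q ∈ ({7, 8, 11, 13, 17, 19, 23, 25} : Finset ℕ))
    (hpq : ¬ p ∣ q) (hle : (q - 1) / Nat.gcd 2 (q - 1) ≤ 8) (h : IsL 2 q (Soc P)) : False := by
  have hC := core_of_residual hc
  have h' := h
  obtain ⟨K, iK, iKf, hK, e⟩ := h
  have hoc := oc nd minus hH hc e
  have hdeg := fun (h5 : 5 ≤ Fintype.card K) (h9 : Fintype.card K ≠ 9) (h6 : ¬ p ∣ Fintype.card K) =>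
    H464.Sl2.l2_degrees p hC h5 h9 h6 e.some (by simp)
  simp only [Fintype.card_fin] at hdeg
  simp only [Finset.mem_insert, Finset.mem_singleton] at hq
  rcases hq with rfl | rfl | rfl | rfl | rfl | rfl | rfl | rfl
  · by_cases h2 : p = 2
    · subst h2
      exact hL (lie_of_isL (m := 3) (q := 2) Nat.prime_two (dvd_refl 2) (by norm_num) (fun h => by omega)
        (l32_of_l27 h'))
    by_cases h3 : p = 3
    · exact H24.Om.no_l27_three (three_eq p nd minus hH hc h3) hK hoc.some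
    have e7 : Nonempty (Soc P ≃* L27.T7) := ⟨e.some.trans (LieClassical.FieldTransfer.pslCongr (ι := Fin 2)
      (ZMod.ringEquivOfPrime K (show Nat.Prime 7 by norm_num) hK)).symm⟩
    obtain ⟨h, hQ, hn⟩ := oc_fields nd minus hH hc e7
    refine L27.no_l27 h (two_ne p nd minus hH hc h2) (three_ne p nd minus hH hc h3) ?_ (H := H) (hQ ▸ hH) hn
    have h7 : p ≠ 7 := by rintro rfl; exact hpq (dvd_refl 7)
    have := cast_ne (F := F) (p := p) (show Nat.Prime 7 by norm_num) (Ne.symm h7)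
    exact_mod_cast this
  · refine H24.Om.no_l28 (two_ne p nd minus hH hc ?_) hK hoc.some
    rintro rfl
    exact hpq (by norm_num)
  · have := hdeg (by omega) (by omega) (by rw [hK]; exact hpq)
    simp only [hK, _root_.Nat.reduceEqDiff, _root_.Finset.mem_insert, _root_.Finset.mem_singleton, _root_.or_self, _root_.and_self, _root_.Nat.succ_ne_self, _root_.or_true, _root_.and_true, _root_.or_false, _root_.and_false] at this
  · have := hdeg (by omega) (by omega) (by rw [hK]; exact hpq)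
    simp only [hK, _root_.Nat.reduceEqDiff, _root_.Finset.mem_insert, _root_.Finset.mem_singleton, _root_.or_self, _root_.and_self, _root_.Nat.succ_ne_self, _root_.or_true, _root_.and_true, _root_.or_false, _root_.and_false] at this
  · refine H219.OmL217.no_l217 ?_ hK hoc.some
    have h7 : p ≠ 17 := by rintro rfl; exact hpq (dvd_refl 17)
    have := cast_ne (F := F) (p := p) (show Nat.Prime 17 by norm_num) (Ne.symm h7)
    exact_mod_cast this
  · norm_num at hle
  · norm_num at hle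
  · norm_num at hle

/-- **Classical groups**, cross characteristic. -/
theorem no_lie (hL : ¬ IsLieTypeChar p (Soc P)) (h : LieC p 8 (Soc P)) : False := by
  have hC := core_of_residual hc
  rcases h with ⟨q, hq, h1, h2, h3⟩ | ⟨h3, -, h⟩ | ⟨h3, -, h⟩ | ⟨-, h, -⟩ | ⟨h2, h3, -, h⟩ | ⟨h2, -, h⟩ | ⟨-, h, -⟩ |
    ⟨h2, -, h⟩ | ⟨h2, -, h⟩
  · exact no_l2 p nd minus hH hc hL hq h1 h2 h3
  · obtain ⟨K, iK, iKf, hK, e⟩ := h
    have : CharP K 3 := charP_of_dvd Nat.prime_three (by rw [hK])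
    exact OC.not_quat9 (oc nd minus hH hc e).some (three_ne p nd minus hH hc h3) H871.Par.quat9_psl3
  · obtain ⟨K, iK, iKf, hK, e⟩ := h
    have hK9 : Fintype.card K = 9 := by rw [hK]; norm_num
    by_cases h2 : p = 2
    · subst h2
      have := (H936.U33Two.u33_two hC hK9 e (by simp)).1
      simp at this
    · have := (H659.U3.u33_stage hC p h2 h3 (by simp) hK9 e.some).2
      simp at this
  · omega
  · obtain ⟨K, iK, iKf, hK, e⟩ := h
    have hK4 : Fintype.card K = 4 := by rw [hK]; norm_num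
    have := H659.Sp4.u42_stage' hC p h2 h3 (by simp) hK4 e.some
    simp only [_root_.Fintype.card_fin, _root_.Nat.reduceEqDiff, _root_.or_self, _root_.Subgroup.subgroupOf_eq_bot, _root_.false_and] at this
  · obtain ⟨K, iK, iKf, hK, e⟩ := h
    have hK4 : Fintype.card K = 4 := by rw [hK]; norm_num
    have := H36.U52.t6 hC p h2 (by norm_num) hK4 e.some
    omega
  · omega
  · obtain ⟨K, iK, iKf, hK, e⟩ := h
    exact neg_one_not nd minus hH hc (two_ne p nd minus hH hc h2)
      (H916.T8.sp_neg hK hC e.some (two_ne p nd minus hH hc h2) (by simp))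
  · obtain ⟨K, iK, iKf, hK, e⟩ := h
    exact neg_one_not nd minus hH hc (two_ne p nd minus hH hc h2)
      (H916.T8.om_neg hK hC e.some (two_ne p nd minus hH hc h2) (by simp))

/-- **Exceptional multipliers.** -/
theorem no_mult (hL : ¬ IsLieTypeChar p (Soc P)) (h : MultD p 8 (Soc P)) : False := by
  have hC := core_of_residual hc
  rcases h with ⟨h2, -, h⟩ | ⟨-, h, -⟩
  · have h2' := two_ne p nd minus hH hc h2
    rcases h with h | h | ⟨h3, h⟩ | h | h | h
    · refine no_l2 p nd minus hH hc hL (q := 7) (by simp only [_root_.Finset.mem_insert, _root_.Nat.reduceEqDiff, _root_.Finset.mem_singleton, _root_.or_self, _root_.or_false]) ?_ (by norm_num) h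
      intro h7
      exact hL (lie_of_isL (m := 2) (q := 7) hp.out h7 le_rfl (fun _ => by norm_num) h)
    · obtain ⟨K, iK, iKf, hK, ⟨e⟩⟩ := h
      have : CharP K 2 := charP_of_dvd Nat.prime_two (by rw [hK]; norm_num)
      have hb := (bd_psl (F := F) (r := 2) Nat.prime_two (by exact_mod_cast h2') (m := 3) le_rfl
        (K := K) inferInstance)
      have hpr := hC.pr (r := 2) e (by
        rw [scalars_bot nd minus (le_omega nd minus hH hc), Subgroup.card_bot]
        exact Nat.coprime_one_left 2)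
      have := hb 8 hpr
      rw [hK] at this
      norm_num at this
    · exact no_lie p nd minus hH hc hL (Or.inr (Or.inr (Or.inr (Or.inr (Or.inl ⟨h2, h3, by norm_num, h⟩)))))
    · exact no_lie p nd minus hH hc hL (Or.inr (Or.inr (Or.inr (Or.inr (Or.inr (Or.inr (Or.inr (Or.inl
        ⟨h2, by norm_num, h⟩))))))))
    · exact no_lie p nd minus hH hc hL (Or.inr (Or.inr (Or.inr (Or.inr (Or.inr (Or.inr (Or.inr (Or.inr
        ⟨h2, by norm_num, h⟩))))))))
    · have := (H937.G24.row hC h p h2 (by simp)).1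
      simp at this
  · omega

theorem no_sz8 (h2 : p ≠ 2) (h : IsSz8 (Soc P)) : False :=
  minus ((H814.Sz8.core_sz8 (core_of_residual hc) (two_ne p nd minus hH hc h2) (by simp) h).2.2.2.2 Q nd
    (fixes nd minus hH hc))

/-- **Sporadic groups.** -/
theorem no_spor (h : SporC (Soc P)) : False := by
  have hC := core_of_residual hc
  have key : ∀ {T : Type} [Group T], Nonempty (Soc P ≃* T) → H871.Par.Quat9 T → H871.Par.Frob11 T → False := by
    intro T _ e h9 h11
    have hoc := oc nd minus hH hc e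
    by_cases h3 : p = 3
    · refine OC.not_frob11 hoc.some ?_ h11
      have := cast_ne (F := F) (p := p) (show Nat.Prime 11 by norm_num) (by omega)
      exact_mod_cast this
    · exact OC.not_quat9 hoc.some (three_ne p nd minus hH hc h3) h9
  rcases h with h | h | h | h | h | h | h | h | h
  · exact key h H871.Par.quat9_M11 H871.Par.frob11_M11
  · exact key h H871.Par.quat9_M12 H871.Par.frob11_M12
  · exact key h H871.Par.quat9_M22 H871.Par.frob11_M22
  · exact key h H871.Par.quat9_M23 H871.Par.frob11_M23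
  · exact key h H871.Par.quat9_M24 H871.Par.frob11_M24
  · by_cases h11 : p = 11
    · subst h11
      have := H179.JOne.j1_le12_iso hC h (by exact_mod_cast CharP.cast_eq_zero F 11) (by simp)
      simp at this
    · exact H659.J1.not_core hC h p h11 (by simp)
  · by_cases h2 : p = 2
    · subst h2
      refine H4.JT.j2_two_eight_irr (G := P) ?_ (Or.inr rfl) P.subtype ?_
      · obtain ⟨e⟩ := h
        exact ⟨(MulEquiv.ofBijective (toSoc P) ⟨by
          rw [← MonoidHom.ker_eq_bot_iff, ker_toSoc]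
          exact scalars_bot nd minus (le_omega nd minus hH hc), toSoc_surjective P⟩).trans e⟩
      · rw [Subgroup.range_subtype]
        exact hc.absIrred.1
    · obtain ⟨e⟩ := h
      have hpr := hC.pr (r := 2) e (by
        rw [scalars_bot nd minus (le_omega nd minus hH hc), Subgroup.card_bot]
        exact Nat.coprime_one_left 2)
      have := (H921.Spor.J2.J2_two.bd (F := F) Nat.prime_two (by exact_mod_cast two_ne p nd minus hH hc h2)) 8 hpr
      omega
  · have := (H95.JT.j3 p hC h (by simp)).2.1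
    simp at this
  · obtain ⟨e⟩ := h
    by_cases h3 : p = 3
    · subst h3
      have := (H878.Sz.core_Suz_three hC e (by simp)).1
      simp at this
    · have := (H878.Sz.core_Suz hC e (by simp) p h3).1
      simp at this

/-- **Cross characteristic.** -/
theorem cross (hk : IsKnownSimple' (Soc P)) (hL : ¬ IsLieTypeChar p (Soc P)) : False := by
  have hC := core_of_residual hc
  rcases list₁ (p := p) (n := 8) (by norm_num) hC hk hL with (h | h | h | h | h) | h
  · obtain ⟨m, h5, -, -, -, -, e⟩ := h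
    exact no_alt p nd minus hH hc hL h5 e
  · exact no_lie p nd minus hH hc hL h
  · exact no_mult p nd minus hH hc hL h
  · exact no_sz8 p nd minus hH hc h.1 h.2.2
  · exact no_spor p nd minus hH hc h
  · obtain ⟨-, ⟨⟨e⟩⟩ | ⟨⟨e⟩⟩ | ⟨⟨e⟩⟩ | ⟨⟨e⟩⟩⟩ := h
    · have := H806.Ls.fi22_le hp.out hC e
      omega
    · have := H806.Ls.fi23_le hp.out hC e
      omega
    · have := H806.Ls.b_le hp.out hC e
      omega
    · have := H806.Ls.m_le hp.out hC e
      omega

end main

end Cfsg.Agent.H917.Om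
end

-- part: H917/OmMain
section
/-!
# Row S5827 (helper917): the residual class of `Ω₈⁻(q)`
-/

set_option autoImplicit false
set_option linter.unusedSectionVars false

namespace Cfsg.Agent.H917.Om

open Cfsg Cfsg.Geo Matrix Cfsg.Agent.H915.LD

universe u

variable {F : Type u} [Field F] [Fintype F] {Q : (Fin 8 → F) → F} {H : Subgroup (GL (Fin 8) F)}

/-- **Row S5827** -/
theorem row (hk : ∀ (T : Type u) [Group T] [Finite T] [IsSimpleGroup T], IsKnownSimple' T)
    (nd : IsNondegenerateQuadraticForm Q) (minus : ¬ IsPlusTypeOn Q ⊤) (hH : IsMaximalIn (omegaGL Q) H)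
    (hS : InOrthogonalResidualClass H) :
    ∃ P : Subgroup (GL (Fin 8) F), IsResidualCore H P ∧ Concl F (Soc P) := by
  obtain ⟨P, hc, -⟩ := hS
  refine ⟨P, hc, ?_⟩
  obtain ⟨p, hpF⟩ := CharP.exists F
  have hp : Fact p.Prime := ⟨CharP.char_is_prime F p⟩
  have hC := core_of_residual hc
  have hs := hC.simple
  by_cases hL : IsLieTypeChar p (Soc P)
  · exact own p nd minus hH hc hL
  · exact (cross p nd minus hH hc (hk _) hL).elim

end Cfsg.Agent.H917.Om
end
end
end
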