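import Cfsg.Agent.H637.JW
import Cfsg.Agent.H955.QCount
import Cfsg.Agent.H932.TypeSub
import Cfsg.Agent.H920.Basic
import Cfsg.Agent.ClassicalGeometry.OrthDickson
import Cfsg.Agent.ClassicalGeometry.NegOneOmega
import Cfsg.Agent.H637.SevenA8_m3
import Cfsg.Agent.FastGrp
import Cfsg.Agent.Prune
set_option linter.all false

section
prune_inst 0x7fb3adffbbfce9dfffff7ffffe9cdffdfbbb3fffe6dff9cb7fe86bff2bdf7b80cdc56b8d0beb10fe1ef6e01414fc7b43fbffffffea6bf87ffffd1ff45ffbfe1ffdf7bd08519e8cb41fbc2fffe3f0778e7f3fffffffffffffffffffffffffffaeffffffffffff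

-- part: H917/OmBase
section
prune_inst 0xc1000400302200000000000402000040000000020040000000000800000180000040000002200010108008002008004000000000404000000c000000000000000000000000000000000000000000000000000000000000000000000000010000000000000
set_option linter.all false
open scoped Cfsg.Agent.FastGrp

/-!
# Representations in `Ω₈⁻(q)` (helper917, row S5827)

`OC F T` : a faithful absolutely irreducible representation of `T` in `Ω(Q)`, `Q` a quadratic form of minus type on `F⁸`.

* `even_fix` : the fixed space of every element has even dimension;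
* `exists_fixed_of_isPGroup` : `ℓ`-subgroups have fixed vectors if `ℓ ∤ q (q⁴ + 1)` (e.g. `ℓ = 3, 5, 7, 11, 13`, `ℓ ≠ p`);
* `neg_one_not_mem` : `-1 ∉ Ω(Q)`.
-/

set_option autoImplicit false
set_option linter.unusedSectionVars false

namespace Cfsg.Agent.H917.Om

open Cfsg Cfsg.Geo Module Matrix
open Cfsg.Agent.H637.JW

universe u v

/-! ### Rank and extension of scalars -/

theorem rank_map_field {F L : Type*} [Field F] [Field L] (f : F →+* L) {n : ℕ} (M : Matrix (Fin n) (Fin n) F) :
    (M.map f).rank = M.rank := by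
  classical
  obtain ⟨l, l', D, h⟩ := Matrix.Pivot.exists_list_transvec_mul_mul_list_transvec_eq_diagonal M
  set A := (l.map TransvectionStruct.toMatrix).prod with hA
  set B := (l'.map TransvectionStruct.toMatrix).prod with hB
  have hAd : A.det = 1 := TransvectionStruct.det_toMatrix_prod l
  have hBd : B.det = 1 := TransvectionStruct.det_toMatrix_prod l'
  have h1 : (Matrix.diagonal D).rank = M.rank := by
    rw [← h, Matrix.rank_mul_eq_left_of_isUnit_det _ _ (by rw [hBd]; exact isUnit_one),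
      Matrix.rank_mul_eq_right_of_isUnit_det _ _ (by rw [hAd]; exact isUnit_one)]
  have h2 : (A.map f) * (M.map f) * (B.map f) = Matrix.diagonal (fun i => f (D i)) := by
    rw [← Matrix.map_mul, ← Matrix.map_mul, h, Matrix.diagonal_map (map_zero f)]
  have hA2 : (A.map f).det = 1 := by
    have := RingHom.map_det f A
    rw [hAd, map_one] at this
    exact this.symm
  have hB2 : (B.map f).det = 1 := by
    have := RingHom.map_det f B
    rw [hBd, map_one] at this
    exact this.symm
  have h3 : (Matrix.diagonal (fun i => f (D i))).rank = (M.map f).rank := by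
    rw [← h2, Matrix.rank_mul_eq_left_of_isUnit_det _ _ (by rw [hB2]; exact isUnit_one),
      Matrix.rank_mul_eq_right_of_isUnit_det _ _ (by rw [hA2]; exact isUnit_one)]
  rw [← h1, ← h3, Matrix.rank_diagonal, Matrix.rank_diagonal]
  refine Fintype.card_congr (Equiv.subtypeEquivRight fun i => ?_)
  rw [Ne, Ne, map_eq_zero]

theorem finrank_ker_add_rank {F : Type*} [Field F] {n : ℕ} (M : Matrix (Fin n) (Fin n) F) :
    finrank F (LinearMap.ker M.mulVecLin) + M.rank = n := by
  have := LinearMap.finrank_range_add_finrank_ker M.mulVecLin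
  rw [Module.finrank_fin_fun] at this
  rw [Matrix.rank]
  omega

/-! ### The context -/

/-- A faithful absolutely irreducible representation in `Ω(Q)`, `Q` of minus type on `F⁸`. -/
structure OC (F : Type u) [Field F] (T : Type v) [Group T] where
  ρ : T →* GL (Fin 8) F
  Q : (Fin 8 → F) → F
  nd : IsNondegenerateQuadraticForm Q
  minus : ¬ IsPlusTypeOn Q ⊤
  mem : ∀ g, ρ g ∈ omegaGL Q
  irr : ActsAbsolutelyIrreducibly (matrixSet ρ.range)
  inj : Function.Injective ρ

variable {F : Type u} [Field F] {T : Type v} [Group T]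

theorem mem_omegaGL_fix {Q : (Fin 8 → F) → F} {g : GL (Fin 8) F} (h : g ∈ omegaGL Q) (v : Fin 8 → F) :
    Q ((g : Matrix (Fin 8) (Fin 8) F) *ᵥ v) = Q v := by
  obtain ⟨w, -, rfl⟩ := h
  exact (ClassicalGeometry.Reflection.mem_isometryGroup_iff _ _).1 w.2 v

namespace OC

variable (h : OC F T)

theorem fixQ (g : T) (v : Fin 8 → F) : h.Q ((h.ρ g : Matrix (Fin 8) (Fin 8) F) *ᵥ v) = h.Q v :=
  mem_omegaGL_fix (h.mem g) v

/-- Pull back to another group. -/
def congr {T' : Type*} [Group T'] (e : T' ≃* T) : OC F T' where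
  ρ := h.ρ.comp e.toMonoidHom
  Q := h.Q
  nd := h.nd
  minus := h.minus
  mem := fun g => h.mem (e g)
  irr := by
    have h1 : (h.ρ.comp e.toMonoidHom).range = h.ρ.range := by
      ext x
      constructor
      · rintro ⟨y, rfl⟩
        exact ⟨e y, rfl⟩
      · rintro ⟨y, rfl⟩
        exact ⟨e.symm y, by simp⟩
    rw [h1]
    exact h.irr
  inj := h.inj.comp e.injective

/-- **The fixed space of every element has even dimension** (over `F`). -/
theorem even_fixF (g : T) :
    Even (finrank F (LinearMap.ker ((h.ρ g : Matrix (Fin 8) (Fin 8) F) - 1).mulVecLin)) := by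
  obtain ⟨w, hw, hwg⟩ : ∃ w : isometryGroup F (⇑(H925.qf h.nd)), w ∈ commutator (isometryGroup F (⇑(H925.qf h.nd))) ∧
      (w : GL (Fin 8) F) = h.ρ g := h.mem g
  have hnd : (QuadraticMap.polarBilin (H925.qf h.nd)).Nondegenerate := by
    refine H932.nondegenerate_polarBilin ?_
    intro x hx
    by_contra h0
    obtain ⟨-, y, hxy⟩ := h.nd.nondegenerate x h0
    exact hxy (hx y)
  have h1 := ClassicalGeometry.OrthDickson.dsign_eq_one_of_mem_commutator (H925.qf h.nd) hnd
    (Or.inr (by rw [Fintype.card_fin]; norm_num)) w hw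
  have h1 := (ClassicalGeometry.OrthDickson.dsign_def (H925.qf h.nd) w).symm.trans h1
  rw [Fintype.card_fin] at h1
  have h2 : Even (finrank F (ClassicalGeometry.OrthCharTwo.fixSp (Q := H925.qf h.nd) w) + 8) := by
    by_contra hodd
    rw [Nat.not_even_iff_odd] at hodd
    rw [hodd.neg_one_pow] at h1
    exact absurd h1 (by decide)
  have h3 : ClassicalGeometry.OrthCharTwo.fixSp (Q := H925.qf h.nd) w =
      LinearMap.ker ((h.ρ g : Matrix (Fin 8) (Fin 8) F) - 1).mulVecLin := by
    ext x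
    rw [ClassicalGeometry.OrthCharTwo.mem_fixSp, ClassicalGeometry.OrthCharTwo.act_def, LinearMap.mem_ker,
      Matrix.mulVecLin_apply, Matrix.sub_mulVec, Matrix.one_mulVec, sub_eq_zero]
    rw [← hwg]
  rw [h3] at h2
  have h4 : Even 8 := by decide
  exact (Nat.even_add.1 h2).2 h4

/-- The representation over the algebraic closure. -/
noncomputable def σ : T →* Module.End (AlgebraicClosure F) (Fin 8 → AlgebraicClosure F) :=
  _root_.Cfsg.Agent.H637.JW.ext h.ρ (AlgebraicClosure F)

theorem σ_apply (g : T) (v : Fin 8 → AlgebraicClosure F) :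
    h.σ g v = ((h.ρ g : Matrix (Fin 8) (Fin 8) F).map (algebraMap F (AlgebraicClosure F))) *ᵥ v := rfl

theorem even_fix (g : T) : Even (finrank (AlgebraicClosure F) (Fix h.σ g)) := by
  have h1 : _root_.Cfsg.Agent.H637.JW.Fix h.σ g = LinearMap.ker
      ((((h.ρ g : Matrix (Fin 8) (Fin 8) F) - 1).map (algebraMap F (AlgebraicClosure F)))).mulVecLin := by
    ext v
    rw [mem_Fix, LinearMap.mem_ker, Matrix.mulVecLin_apply, σ_apply, Matrix.map_sub _ (fun a b => map_sub _ a b),
      Matrix.map_one _ (map_zero _) (map_one _), Matrix.sub_mulVec, Matrix.one_mulVec, sub_eq_zero]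
  have h2 := finrank_ker_add_rank (((h.ρ g : Matrix (Fin 8) (Fin 8) F) - 1).map (algebraMap F (AlgebraicClosure F)))
  have h3 := finrank_ker_add_rank ((h.ρ g : Matrix (Fin 8) (Fin 8) F) - 1)
  rw [rank_map_field] at h2
  rw [h1, show finrank (AlgebraicClosure F) _ = finrank F _ from Nat.add_right_cancel (h2.trans h3.symm)]
  exact h.even_fixF g

/-! ### The bilinear form over the algebraic closure -/

/-- The Gram matrix of the polar form. -/
noncomputable def gram : Matrix (Fin 8) (Fin 8) F :=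
  Matrix.of fun i j => QuadraticMap.polar h.Q (Pi.single i 1) (Pi.single j 1)

theorem polar_eq (u v : Fin 8 → F) : QuadraticMap.polar h.Q u v = u ⬝ᵥ (h.gram *ᵥ v) := by
  have hb := h.nd.polar_bilinear
  have e : ∀ u v, QuadraticMap.polar h.Q u v = (QuadraticMap.polarBilin (H925.qf h.nd)) u v := fun u v => rfl
  rw [e, ← LinearMap.sum_repr_mul_repr_mul (Pi.basisFun F (Fin 8)) (Pi.basisFun F (Fin 8)) (B := QuadraticMap.polarBilin (H925.qf h.nd))]
  rw [Finsupp.sum_fintype _ _ (by intro i; simp)]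
  simp only [dotProduct, mulVec]
  refine Finset.sum_congr rfl fun i _ => ?_
  rw [Finsupp.sum_fintype _ _ (by intro j; simp), Finset.mul_sum]
  refine Finset.sum_congr rfl fun j _ => ?_
  simp only [Pi.basisFun_repr, Pi.basisFun_apply, smul_eq_mul]
  change u i * (v j * h.gram i j) = u i * (h.gram i j * v j)
  ring

theorem gram_symm : h.gramᵀ = h.gram := by
  ext i j
  exact QuadraticMap.polar_comm _ _ _

theorem gram_det : h.gram.det ≠ 0 := by
  intro h0
  obtain ⟨v, hv, hv2⟩ := Matrix.exists_mulVec_eq_zero_iff.2 h0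
  obtain ⟨⟨x, hx⟩, -⟩ := h.nd.nondegenerate v hv
  apply hx
  rw [polar_eq, hv2, dotProduct_zero]

theorem gram_inv (g : T) : (h.ρ g : Matrix (Fin 8) (Fin 8) F)ᵀ * h.gram * (h.ρ g : Matrix (Fin 8) (Fin 8) F) = h.gram := by
  have key : ∀ u v, u ⬝ᵥ (((h.ρ g : Matrix (Fin 8) (Fin 8) F)ᵀ * h.gram * (h.ρ g : Matrix (Fin 8) (Fin 8) F)) *ᵥ v) =
      u ⬝ᵥ (h.gram *ᵥ v) := by
    intro u v
    rw [← polar_eq, ← Matrix.mulVec_mulVec, ← Matrix.mulVec_mulVec, Matrix.dotProduct_mulVec, Matrix.vecMul_transpose,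
      ← polar_eq]
    simp only [QuadraticMap.polar, ← Matrix.mulVec_add]
    rw [h.fixQ, h.fixQ, h.fixQ]
  ext i j
  have := key (Pi.single i 1) (Pi.single j 1)
  simpa using this

/-- The bilinear form over the algebraic closure. -/
noncomputable def B (u v : Fin 8 → AlgebraicClosure F) : AlgebraicClosure F :=
  u ⬝ᵥ (h.gram.map (algebraMap F (AlgebraicClosure F)) *ᵥ v)

theorem B_add_left (u u' v : Fin 8 → AlgebraicClosure F) : h.B (u + u') v = h.B u v + h.B u' v := by
  rw [B, B, B, add_dotProduct]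

theorem B_smul_left (c : AlgebraicClosure F) (u v : Fin 8 → AlgebraicClosure F) : h.B (c • u) v = c * h.B u v := by
  rw [B, B, smul_dotProduct, smul_eq_mul]

theorem B_comm (u v : Fin 8 → AlgebraicClosure F) : h.B u v = h.B v u := by
  rw [B, B, Matrix.dotProduct_mulVec, dotProduct_comm, ← Matrix.mulVec_transpose, ← Matrix.transpose_map, h.gram_symm]

theorem B_add_right (u v v' : Fin 8 → AlgebraicClosure F) : h.B u (v + v') = h.B u v + h.B u v' := by
  rw [B_comm, B_add_left, h.B_comm v, h.B_comm v']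

theorem B_smul_right (c : AlgebraicClosure F) (u v : Fin 8 → AlgebraicClosure F) : h.B u (c • v) = c * h.B u v := by
  rw [B_comm, B_smul_left, h.B_comm v]

theorem B_inv (g : T) (u v : Fin 8 → AlgebraicClosure F) : h.B (h.σ g u) (h.σ g v) = h.B u v := by
  have h1 := congrArg (fun M : Matrix (Fin 8) (Fin 8) F => M.map (algebraMap F (AlgebraicClosure F))) (h.gram_inv g)
  simp only [Matrix.map_mul] at h1
  have h2 : h.B u v = u ⬝ᵥ (((h.ρ g : Matrix (Fin 8) (Fin 8) F)ᵀ.map (algebraMap F (AlgebraicClosure F)) *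
      h.gram.map (algebraMap F (AlgebraicClosure F)) *
      (h.ρ g : Matrix (Fin 8) (Fin 8) F).map (algebraMap F (AlgebraicClosure F))) *ᵥ v) := by
    rw [h1]; rfl
  rw [h2, ← Matrix.mulVec_mulVec, ← Matrix.mulVec_mulVec, Matrix.dotProduct_mulVec u,
    Matrix.transpose_map, Matrix.vecMul_transpose]
  rfl

theorem B_nondeg {v : Fin 8 → AlgebraicClosure F} (hv : ∀ u, h.B u v = 0) : v = 0 := by
  by_contra h0
  have h1 : (h.gram.map (algebraMap F (AlgebraicClosure F))) *ᵥ v = 0 := by
    funext i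
    have := hv (Pi.single i 1)
    rw [B, single_one_dotProduct] at this
    exact this
  have h2 := Matrix.exists_mulVec_eq_zero_iff.1 ⟨v, h0, h1⟩
  have h3 := RingHom.map_det (algebraMap F (AlgebraicClosure F)) h.gram
  rw [RingHom.mapMatrix_apply, h2] at h3
  exact h.gram_det ((map_eq_zero _).1 h3)

/-! ### Irreducibility over the algebraic closure -/

theorem map_mem (W : Submodule (AlgebraicClosure F) (Fin 8 → AlgebraicClosure F))
    (hW : ∀ g, ∀ v ∈ W, h.σ g v ∈ W) (M : Matrix (Fin 8) (Fin 8) F) {v : Fin 8 → AlgebraicClosure F} (hv : v ∈ W) :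
    (M.map (algebraMap F (AlgebraicClosure F))) *ᵥ v ∈ W := by
  have h1 : M ∈ Submodule.span F (matrixSet h.ρ.range) := by
    rw [H920.span_eq_top h.irr]; trivial
  induction h1 using Submodule.span_induction with
  | mem x hx =>
    obtain ⟨y, ⟨g, rfl⟩, rfl⟩ := hx
    exact hW g v hv
  | zero =>
    rw [Matrix.map_zero _ (map_zero _), Matrix.zero_mulVec]
    exact W.zero_mem
  | add x y _ _ hx hy =>
    rw [Matrix.map_add _ (fun a b => map_add _ a b), Matrix.add_mulVec]
    exact W.add_mem hx hy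
  | smul c x _ hx =>
    have : (c • x).map (algebraMap F (AlgebraicClosure F)) =
        algebraMap F (AlgebraicClosure F) c • x.map (algebraMap F (AlgebraicClosure F)) := by
      ext i j
      simp
    rw [this, Matrix.smul_mulVec]
    exact W.smul_mem _ hx

/-- **Irreducibility over the algebraic closure.** -/
theorem eq_top_of_inv (W : Submodule (AlgebraicClosure F) (Fin 8 → AlgebraicClosure F))
    (hW : ∀ g, ∀ v ∈ W, h.σ g v ∈ W) {w : Fin 8 → AlgebraicClosure F} (hw : w ∈ W) (hw0 : w ≠ 0) : W = ⊤ := by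
  obtain ⟨j, hj⟩ : ∃ j, w j ≠ 0 := by
    by_contra hno
    push Not at hno
    exact hw0 (funext hno)
  have h1 : ∀ i, (Pi.single i 1 : Fin 8 → AlgebraicClosure F) ∈ W := by
    intro i
    have h2 := h.map_mem W hW (Matrix.single i j 1) hw
    have h3 : ((Matrix.single i j (1 : F)).map (algebraMap F (AlgebraicClosure F))) *ᵥ w = w j • Pi.single i 1 := by
      funext k
      simp only [mulVec, dotProduct, Matrix.map_apply, Matrix.single_apply]
      by_cases hk : i = k
      · subst hk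
        simp
      · simp [hk, Ne.symm hk]
    rw [h3] at h2
    have h4 := W.smul_mem (w j)⁻¹ h2
    rwa [smul_smul, inv_mul_cancel₀ hj, one_smul] at h4
  rw [eq_top_iff]
  intro v _
  rw [show v = ∑ i, v i • (Pi.single i 1 : Fin 8 → AlgebraicClosure F) by
    funext k; simp [Finset.sum_apply, Pi.single_apply]]
  exact W.sum_mem fun i _ => W.smul_mem _ (h1 i)

/-- no fixed vectors -/
theorem eq_zero_of_fixed {v : Fin 8 → AlgebraicClosure F} (hv : ∀ g, h.σ g v = v) : v = 0 := by
  by_contra h0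
  have h1 := h.eq_top_of_inv (Submodule.span (AlgebraicClosure F) {v}) (by
    intro g w hw
    obtain ⟨c, rfl⟩ := Submodule.mem_span_singleton.1 hw
    rw [map_smul, hv g]
    exact hw) (Submodule.mem_span_singleton_self v) h0
  have h2 := finrank_span_singleton (K := AlgebraicClosure F) h0
  rw [h1, finrank_top, Module.finrank_fin_fun] at h2
  omega

/-- the span of an orbit is everything -/
theorem span_orbit {v : Fin 8 → AlgebraicClosure F} (h0 : v ≠ 0) :
    Submodule.span (AlgebraicClosure F) (Set.range fun g => h.σ g v) = ⊤ := by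
  refine h.eq_top_of_inv _ ?_ (Submodule.subset_span ⟨1, by simp only [_root_.map_one, _root_.Module.End.one_apply]⟩) h0
  intro g w hw
  induction hw using Submodule.span_induction with
  | mem x hx =>
    obtain ⟨y, rfl⟩ := hx
    refine Submodule.subset_span ⟨g * y, ?_⟩
    exact _root_.Cfsg.Agent.H637.JW.mul_apply' g y v
  | zero => rw [map_zero]; exact Submodule.zero_mem _
  | add x y _ _ hx hy => rw [map_add]; exact Submodule.add_mem _ hx hy
  | smul c x _ hx => rw [map_smul]; exact Submodule.smul_mem _ _ hx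

theorem σ_injective : Function.Injective h.σ := by
  intro a b hab
  apply h.inj
  apply Units.ext
  have h1 : ((h.ρ a : Matrix (Fin 8) (Fin 8) F).map (algebraMap F (AlgebraicClosure F))) =
      ((h.ρ b : Matrix (Fin 8) (Fin 8) F).map (algebraMap F (AlgebraicClosure F))) := by
    ext i j
    have h2 := congrFun (LinearMap.congr_fun hab (Pi.single j 1)) i
    rw [σ_apply, σ_apply] at h2
    simpa using h2
  ext i j
  have h2 := congrFun (congrFun h1 i) j
  simpa using h2

/-! ### Fixed vectors of `ℓ`-subgroups -/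

theorem card_one [Fintype F] : Fintype.card F * Nat.card {v : Fin 8 → F // h.Q v = 1} =
    Fintype.card F ^ 8 + Fintype.card F ^ 4 := by
  have hnd : LieClassical.OrthCore.Nondeg (H925.qf h.nd) := by
    intro x hx
    by_contra h0
    obtain ⟨-, y, hxy⟩ := h.nd.nondegenerate x h0
    exact hxy (hx y)
  have hP : ¬ H955.IsPlus (H925.qf h.nd) := by
    rintro ⟨U, hU, hd⟩
    exact h.minus ⟨U, le_top, hU, by rw [finrank_top]; exact hd⟩
  have h1 := H955.card_eq_one_of_not_isPlus hnd (m := 4) (by rw [Module.finrank_fin_fun]) hP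
  rw [Nat.card_eq_fintype_card] at h1
  exact h1

/-- **`ℓ`-subgroups have fixed vectors**, `ℓ ∤ q (q⁴ + 1)`. -/
theorem exists_fixed_of_isPGroup [Fintype F] {ℓ : ℕ} [Fact ℓ.Prime] (hℓ : ¬ ℓ ∣ Fintype.card F * (Fintype.card F ^ 4 + 1))
    (A : Subgroup T) [Finite A] (hA : IsPGroup ℓ A) :
    ∃ v : Fin 8 → AlgebraicClosure F, v ≠ 0 ∧ ∀ a ∈ A, h.σ a v = v := by
  classical
  let X := {v : Fin 8 → F // h.Q v = 1}
  let act : A →* Equiv.Perm X :=
    { toFun := fun a =>
        { toFun := fun x => ⟨(h.ρ a : Matrix (Fin 8) (Fin 8) F) *ᵥ x.1, by rw [h.fixQ]; exact x.2⟩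
          invFun := fun x => ⟨(h.ρ (a : T)⁻¹ : Matrix (Fin 8) (Fin 8) F) *ᵥ x.1, by rw [h.fixQ]; exact x.2⟩
          left_inv := fun x => Subtype.ext (by
            simp only
            rw [Matrix.mulVec_mulVec, ← Units.val_mul, ← map_mul, inv_mul_cancel, map_one, Units.val_one,
              Matrix.one_mulVec])
          right_inv := fun x => Subtype.ext (by
            simp only
            rw [Matrix.mulVec_mulVec, ← Units.val_mul, ← map_mul, mul_inv_cancel, map_one, Units.val_one,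
              Matrix.one_mulVec]) }
      map_one' := by
        ext x
        simp only [_root_.OneMemClass.coe_one, _root_.map_one, _root_.Units.val_one, _root_.Matrix.one_mulVec, _root_.Subtype.coe_eta, _root_.inv_one, _root_.Equiv.coe_fn_mk, _root_.Equiv.Perm.coe_one, _root_.id_eq]
      map_mul' := fun a b => by
        ext x
        simp only [Matrix.mulVec_mulVec, _root_.Subgroup.coe_mul, _root_.map_mul, _root_.Units.val_mul, _root_.mul_inv_rev, _root_.map_inv, _root_.Matrix.coe_units_inv, _root_.Equiv.coe_fn_mk, _root_.Equiv.Perm.coe_mul, _root_.Function.comp_apply] }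
  let _ : MulAction A X := MulAction.compHom X act
  have hX : Finite X := inferInstance
  have h1 := hA.card_modEq_card_fixedPoints X
  have h2 : ¬ ℓ ∣ Nat.card X := by
    intro hd
    have h3 := h.card_one
    apply hℓ
    have h4 : ℓ ∣ Fintype.card F ^ 8 + Fintype.card F ^ 4 := by
      rw [← h3]
      exact hd.mul_left _
    have h5 : Fintype.card F ^ 8 + Fintype.card F ^ 4 = Fintype.card F ^ 4 * (Fintype.card F ^ 4 + 1) := by ring
    rw [h5, (Fact.out : ℓ.Prime).dvd_mul] at h4
    rcases h4 with h4 | h4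
    · exact ((Fact.out : ℓ.Prime).dvd_of_dvd_pow h4).mul_right _
    · exact h4.mul_left _
  have h3 : Nat.card (MulAction.fixedPoints A X) ≠ 0 := by
    intro h0
    rw [h0] at h1
    exact h2 ((Nat.modEq_zero_iff_dvd).1 h1)
  obtain ⟨⟨x, hx⟩⟩ := (Nat.card_ne_zero.1 h3).1
  refine ⟨fun i => algebraMap F (AlgebraicClosure F) (x.1 i), ?_, ?_⟩
  · intro h0
    have h4 : x.1 = 0 := by
      funext i
      have := congrFun h0 i
      simpa using this
    have h5 := x.2
    rw [h4] at h5
    have h6 := h.nd.smul 0 0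
    rw [zero_smul, h5] at h6
    simp at h6
  · intro a ha
    have h4 : (h.ρ a : Matrix (Fin 8) (Fin 8) F) *ᵥ x.1 = x.1 := congrArg Subtype.val (hx ⟨a, ha⟩)
    rw [σ_apply]
    funext i
    have h5 := congrFun h4 i
    rw [← h5]
    simp only [mulVec, dotProduct, Matrix.map_apply, map_sum, map_mul]

/-! ### Weights -/

section weights

variable {κ : Type*} [Fintype κ] {N : ℕ} [NeZero N] (hN : (N : AlgebraicClosure F) ≠ 0) {ζ : AlgebraicClosure F}
  (hζ : IsPrimitiveRoot ζ N) {x : κ → T} (hc : ∀ j k, x j * x k = x k * x j) (hx : ∀ k, x k ^ N = 1)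

theorem B_eq_zero {c d : κ → ZMod N} (hζ : IsPrimitiveRoot ζ N) {x : κ → T} (hcd : c + d ≠ 0)
    {u v : Fin 8 → AlgebraicClosure F} (hu : u ∈ W N ζ (fun k => h.σ (x k)) c)
    (hv : v ∈ W N ζ (fun k => h.σ (x k)) d) : h.B u v = 0 := by
  obtain ⟨k, hk⟩ : ∃ k, (c + d) k ≠ 0 := by
    by_contra hno
    push Not at hno
    exact hcd (funext hno)
  have h1 := mem_W.1 hu k
  have h2 := mem_W.1 hv k
  have h3 := h.B_inv (x k) u v
  rw [h1, h2, B_smul_left, B_smul_right, ← mul_assoc, ← pow_val_add hζ.pow_eq_one] at h3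
  have h4 : ζ ^ (c k + d k).val ≠ 1 := by
    intro h5
    apply hk
    have h6 := hζ.pow_inj (ZMod.val_lt (c k + d k)) (NeZero.pos N) (by rw [h5, pow_zero])
    exact (ZMod.val_eq_zero _).1 h6
  have h5 : (ζ ^ (c k + d k).val - 1) * h.B u v = 0 := by linear_combination h3
  exact (mul_eq_zero.1 h5).resolve_left (sub_ne_zero.2 h4)

include hN hζ hc hx in
theorem finrank_W_neg_le (c : κ → ZMod N) :
    finrank (AlgebraicClosure F) (W N ζ (fun k => h.σ (x k)) c) ≤
      finrank (AlgebraicClosure F) (W N ζ (fun k => h.σ (x k)) (-c)) := by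
  classical
  have hcomm : ∀ j k, h.σ (x j) * h.σ (x k) = h.σ (x k) * h.σ (x j) := fun j k => by
    rw [← map_mul, ← map_mul, hc]
  have hpow : ∀ k, h.σ (x k) ^ N = 1 := fun k => by rw [← map_pow, hx, map_one]
  have htop := iSup_W hN hζ hcomm hpow
  let f : W N ζ (fun k => h.σ (x k)) c →ₗ[AlgebraicClosure F] Module.Dual (AlgebraicClosure F) (W N ζ (fun k => h.σ (x k)) (-c)) :=
    { toFun := fun u =>
        { toFun := fun v => h.B u.1 v.1
          map_add' := fun v w => h.B_add_right _ _ _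
          map_smul' := fun a v => h.B_smul_right _ _ _ }
      map_add' := fun u v => by
        ext w
        exact h.B_add_left _ _ _
      map_smul' := fun a v => by
        ext w
        exact h.B_smul_left _ _ _ }
  have hf : Function.Injective f := by
    rw [← LinearMap.ker_eq_bot, LinearMap.ker_eq_bot']
    intro u hu
    apply Subtype.ext
    apply h.B_nondeg
    intro w
    have hw : w ∈ (⨆ d, W N ζ (fun k => h.σ (x k)) d) := by rw [htop]; trivial
    induction hw using Submodule.iSup_induction' with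
    | mem d w hw =>
      by_cases hd : d = -c
      · subst hd
        rw [h.B_comm]
        exact LinearMap.congr_fun hu ⟨w, hw⟩
      · refine h.B_eq_zero hζ ?_ hw u.2
        intro h0
        exact hd (eq_neg_of_add_eq_zero_left h0)
    | zero => rw [h.B_comm]; rw [show (0 : Fin 8 → AlgebraicClosure F) = (0 : AlgebraicClosure F) • 0 by simp, B_smul_right, zero_mul]
    | add a b _ _ ha hb => rw [B_add_left, ha, hb, add_zero]
  have h1 := LinearMap.finrank_le_finrank_of_injective hf
  rwa [Subspace.dual_finrank_eq] at h1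

include hN hζ hc hx in
/-- **Self-duality of weights.** -/
theorem finrank_W_neg (c : κ → ZMod N) :
    finrank (AlgebraicClosure F) (W N ζ (fun k => h.σ (x k)) (-c)) =
      finrank (AlgebraicClosure F) (W N ζ (fun k => h.σ (x k)) c) := by
  refine le_antisymm ?_ (h.finrank_W_neg_le hN hζ hc hx c)
  have := h.finrank_W_neg_le hN hζ hc hx (-c)
  rwa [neg_neg] at this

end weights

end OC

end Cfsg.Agent.H917.Om

private theorem dce_23562e267ffb : _root_.True := by
  try have : _root_.True := by simp only [_root_.Cfsg.Agent.H917.Om.OC.B.eq_1]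
  exact _root_.True.intro
end

-- part: H917/OmTools
section
prune_inst 0x4c420000031620000000000123200004000000002004008000840050208410022a94328410a10141010ae84802801000000000000002000000000000000180020800052041300a004240001800000000000000000000000000000000000000000000000000
set_option linter.all false
open scoped Cfsg.Agent.FastGrp

/-!
# Tools for representations in `Ω₈⁻(q)` (helper917, row S5827)

* `Bf` : the invariant symmetric bilinear form over the algebraic closure; `finrank_le_four` : totally isotropic subspaces;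
* `gram_card` : vectors with Gram matrix `(α - β) I + β J`, `α ≠ β`;
* `scott` : `x`, `y` without common fixed vectors: `16 ≤ codim x + codim y + codim (x y)`;
* `exists_W_inf` : weights in invariant subspaces;
* `rank_one` : `dim V^U ≥ 2` and an eigenvector for a subgroup `B` with two double cosets give `|G : B| ≤ 8`.
-/

set_option autoImplicit false
set_option linter.unusedSectionVars false

namespace Cfsg.Agent.H917.Om

open Cfsg Cfsg.Geo Module
open Matrix hiding mul_apply'
open Cfsg.Agent.H637.JW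

universe u v

variable {F : Type u} [Field F] {T : Type v} [Group T]

namespace OC

variable (h : OC F T)

/-- The invariant form as a bilinear form. -/
noncomputable def Bf : LinearMap.BilinForm (AlgebraicClosure F) (Fin 8 → AlgebraicClosure F) :=
  LinearMap.mk₂ (AlgebraicClosure F) h.B h.B_add_left h.B_smul_left h.B_add_right h.B_smul_right

theorem Bf_nondeg : h.Bf.Nondegenerate := by
  refine ⟨fun v hv => ?_, fun v hv => ?_⟩
  · exact h.B_nondeg fun u => by rw [h.B_comm]; exact hv u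
  · exact h.B_nondeg hv

theorem finrank_orth (U : Submodule (AlgebraicClosure F) (Fin 8 → AlgebraicClosure F)) :
    finrank (AlgebraicClosure F) (h.Bf.orthogonal U) + finrank (AlgebraicClosure F) U = 8 := by
  have h1 := LinearMap.BilinForm.finrank_orthogonal h.Bf_nondeg U
  have h2 := Submodule.finrank_le U
  rw [Module.finrank_fin_fun] at h1 h2
  omega

/-- **Gram matrices `(α - β) I + β J`.** -/
theorem gram_card {ι : Type*} [Fintype ι] [DecidableEq ι] (w : ι → Fin 8 → AlgebraicClosure F)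
    {α β : AlgebraicClosure F} (hαβ : α ≠ β) (hB : ∀ i j, h.B (w i) (w j) = if i = j then α else β) :
    Fintype.card ι ≤ 9 ∧ (Fintype.card ι = 9 → α + 8 * β = 0) := by
  have hsum : ∀ (c : ι → AlgebraicClosure F) (j : ι), h.B (∑ i, c i • w i) (w j) = c j * (α - β) + (∑ i, c i) * β := by
    intro c j
    have h1 : h.B (∑ i, c i • w i) (w j) = ∑ i, c i * h.B (w i) (w j) := by
      have : h.Bf (∑ i, c i • w i) (w j) = ∑ i, c i * h.B (w i) (w j) := by
        rw [map_sum, LinearMap.sum_apply]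
        refine Finset.sum_congr rfl fun i _ => ?_
        rw [map_smul, LinearMap.smul_apply, smul_eq_mul]
        rfl
      exact this
    rw [h1]
    have h2 : ∀ i, c i * h.B (w i) (w j) = c i * β + (if i = j then c j * (α - β) else 0) := by
      intro i
      rw [hB]
      by_cases hij : i = j
      · subst hij
        rw [if_pos rfl, if_pos rfl]; ring
      · rw [if_neg hij, if_neg hij, add_zero]
    rw [Finset.sum_congr rfl fun i _ => h2 i, Finset.sum_add_distrib, ← Finset.sum_mul, Finset.sum_ite_eq' Finset.univ,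
      if_pos (Finset.mem_univ _), add_comm]
  have hrel : ∀ c : ι → AlgebraicClosure F, ∑ i, c i • w i = 0 → ∀ j, c j * (α - β) + (∑ i, c i) * β = 0 := by
    intro c hc j
    rw [← hsum, hc]
    have := h.B_smul_left 0 0 (w j)
    rw [zero_smul, zero_mul] at this
    exact this
  have hconst : ∀ c : ι → AlgebraicClosure F, ∑ i, c i • w i = 0 → ∀ i j, c i = c j := by
    intro c hc i j
    have h1 := hrel c hc i
    have h2 := hrel c hc j
    have h3 : (c i - c j) * (α - β) = 0 := by linear_combination h1 - h2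
    exact sub_eq_zero.1 ((mul_eq_zero.1 h3).resolve_right (sub_ne_zero.2 hαβ))
  constructor
  · by_contra hcon
    push Not at hcon
    obtain ⟨i0⟩ : Nonempty ι := Fintype.card_pos_iff.1 (by omega)
    have hli : LinearIndependent (AlgebraicClosure F) (fun j : {j : ι // j ≠ i0} => w j) := by
      rw [Fintype.linearIndependent_iff]
      intro y hy j
      let y' : ι → AlgebraicClosure F := fun k => if hk : k ≠ i0 then y ⟨k, hk⟩ else 0
      have h1 : ∑ k, y' k • w k = 0 := by
        rw [← Finset.sum_subset (Finset.subset_univ (Finset.univ.filter (· ≠ i0)))]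
        · rw [Finset.sum_subtype (Finset.univ.filter (· ≠ i0)) (p := fun k => k ≠ i0) (by simp), ← hy]
          refine Finset.sum_congr rfl fun k _ => ?_
          simp only [y']
          rw [dif_pos k.2]
        · intro k _ hk
          simp only [Finset.mem_filter, Finset.mem_univ, true_and, not_not] at hk
          simp only [y']
          rw [dif_neg (not_not.2 hk), zero_smul]
      have h2 := hconst y' h1 j i0
      simp only [y'] at h2
      rw [dif_pos j.2, dif_neg (not_not.2 rfl)] at h2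
      exact h2
    have h3 := hli.fintype_card_le_finrank
    rw [Fintype.card_subtype_compl, Fintype.card_subtype_eq, Module.finrank_fin_fun] at h3
    omega
  · intro h9
    obtain ⟨i0⟩ : Nonempty ι := Fintype.card_pos_iff.1 (by omega)
    have hdep : ¬ LinearIndependent (AlgebraicClosure F) w := by
      intro hli
      have h3 := hli.fintype_card_le_finrank
      rw [Module.finrank_fin_fun] at h3
      omega
    rw [Fintype.not_linearIndependent_iff] at hdep
    obtain ⟨c, hc, i, hi⟩ := hdep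
    have h1 := hrel c hc i
    have h2 : ∑ j, c j = 9 * c i := by
      rw [Finset.sum_congr rfl fun j _ => hconst c hc j i, Finset.sum_const, Finset.card_univ, h9, nsmul_eq_mul]
      norm_num
    rw [h2] at h1
    have h3 : c i * (α + 8 * β) = 0 := by linear_combination h1
    exact (mul_eq_zero.1 h3).resolve_left hi

/-- the range of `g - 1` -/
noncomputable def R (g : T) : Submodule (AlgebraicClosure F) (Fin 8 → AlgebraicClosure F) :=
  LinearMap.range (h.σ g - 1)

theorem finrank_R (g : T) : finrank (AlgebraicClosure F) (h.R g) + finrank (AlgebraicClosure F) (Fix h.σ g) = 8 := by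
  have h1 := LinearMap.finrank_range_add_finrank_ker (h.σ g - 1)
  rw [Module.finrank_fin_fun] at h1
  have h2 : Fix h.σ g = LinearMap.ker (h.σ g - 1) := by
    ext v
    rw [mem_Fix, LinearMap.mem_ker, LinearMap.sub_apply, Module.End.one_apply, sub_eq_zero]
  rw [h2]
  exact h1

/-- a vector orthogonal to `(g - 1) V` is fixed by `g` -/
theorem fixed_of_orth {g : T} {v : Fin 8 → AlgebraicClosure F} (hv : ∀ u, h.B (h.σ g u - u) v = 0) : h.σ g v = v := by
  have h1 : h.σ g⁻¹ v = v := by
    rw [← sub_eq_zero]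
    apply h.B_nondeg
    intro u
    have h2 := hv u
    rw [sub_eq_add_neg, h.B_add_left, ← neg_one_smul (AlgebraicClosure F) u, h.B_smul_left] at h2
    have h3 := h.B_inv g⁻¹ (h.σ g u) v
    rw [← mul_apply', inv_mul_cancel, map_one, Module.End.one_apply] at h3
    rw [sub_eq_add_neg, h.B_add_right, ← neg_one_smul (AlgebraicClosure F) v, h.B_smul_right, h3]
    linear_combination h2
  have h2 := congrArg (h.σ g) h1
  rw [← mul_apply', mul_inv_cancel, map_one, Module.End.one_apply] at h2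
  exact h2.symm

/-- **Scott's lemma.** -/
theorem scott {x y : T} (hxy : ∀ v, h.σ x v = v → h.σ y v = v → v = 0) :
    finrank (AlgebraicClosure F) (Fix h.σ x) + finrank (AlgebraicClosure F) (Fix h.σ y) +
      finrank (AlgebraicClosure F) (Fix h.σ (x * y)) ≤ 8 := by
  have hx := h.finrank_R x
  have hy := h.finrank_R y
  have hz := h.finrank_R (x * y)
  -- `R x ⊔ R y = ⊤`
  have htop : h.R x ⊔ h.R y = ⊤ := by
    have h1 := h.finrank_orth (h.R x ⊔ h.R y)
    have h2 : h.Bf.orthogonal (h.R x ⊔ h.R y) = ⊥ := by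
      rw [eq_bot_iff]
      intro v hv
      rw [LinearMap.BilinForm.mem_orthogonal_iff] at hv
      rw [Submodule.mem_bot]
      refine hxy v (h.fixed_of_orth fun u => ?_) (h.fixed_of_orth fun u => ?_)
      · exact hv _ (Submodule.mem_sup_left ⟨u, rfl⟩)
      · exact hv _ (Submodule.mem_sup_right ⟨u, rfl⟩)
    rw [h2, finrank_bot, zero_add] at h1
    exact Submodule.eq_top_of_finrank_eq (by rw [h1, Module.finrank_fin_fun])
  let δ : (h.R x × h.R y) × h.R (x * y) →ₗ[AlgebraicClosure F] (Fin 8 → AlgebraicClosure F) :=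
    ((h.R x).subtype.coprod (h.R y).subtype).coprod (h.R (x * y)).subtype
  have hδ : LinearMap.range δ = ⊤ := by
    rw [eq_top_iff, ← htop]
    intro v hv
    obtain ⟨a, ha, b, hb, rfl⟩ := Submodule.mem_sup.1 hv
    exact ⟨((⟨a, ha⟩, ⟨b, hb⟩), 0), by simp [δ]⟩
  let β : (Fin 8 → AlgebraicClosure F) →ₗ[AlgebraicClosure F] LinearMap.ker δ :=
    { toFun := fun v => ⟨((⟨h.σ x (h.σ y v) - h.σ y v, ⟨h.σ y v, rfl⟩⟩, ⟨h.σ y v - v, ⟨v, rfl⟩⟩),
        ⟨-(h.σ (x * y) v - v), neg_mem ⟨v, rfl⟩⟩), by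
          rw [LinearMap.mem_ker]
          simp only [δ, LinearMap.coprod_apply, Submodule.subtype_apply, mul_apply']
          abel⟩
      map_add' := fun u v => by
        apply Subtype.ext
        refine Prod.ext (Prod.ext (Subtype.ext ?_) (Subtype.ext ?_)) (Subtype.ext ?_) <;>
          simp only [map_add, Prod.fst_add, Prod.snd_add, Submodule.coe_add] <;> abel
      map_smul' := fun c v => by
        apply Subtype.ext
        refine Prod.ext (Prod.ext (Subtype.ext ?_) (Subtype.ext ?_)) (Subtype.ext ?_) <;>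
          simp only [map_smul, Prod.smul_fst, Prod.smul_snd, Submodule.coe_smul, RingHom.id_apply, smul_sub, smul_neg] }
  have hβ : Function.Injective β := by
    refine (injective_iff_map_eq_zero β).2 fun v hv => ?_
    have h1 := congrArg Subtype.val hv
    have h2 : h.σ y v - v = 0 := congrArg (fun z => ((z.1.2 : h.R y) : Fin 8 → AlgebraicClosure F)) h1
    have h3 : h.σ x (h.σ y v) - h.σ y v = 0 := congrArg (fun z => ((z.1.1 : h.R x) : Fin 8 → AlgebraicClosure F)) h1
    rw [sub_eq_zero] at h2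
    rw [h2, sub_eq_zero] at h3
    exact hxy v h3 h2
  have h1 := LinearMap.finrank_le_finrank_of_injective hβ
  have h2 := LinearMap.finrank_range_add_finrank_ker δ
  rw [hδ, finrank_top, Module.finrank_fin_fun, Module.finrank_prod, Module.finrank_prod] at h2
  rw [Module.finrank_fin_fun] at h1
  omega

end OC

end Cfsg.Agent.H917.Om
end

-- part: H917/OmAlt2
section
prune_inst 0x405200400014000000000001430002000400000000000080048400c000800a022290308400c301400002888800009004000000010404000000e000000001c0020800312061110ac00340001000080000000000000000000000000000000010000000000000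
set_option linter.all false
open scoped Cfsg.Agent.FastGrp

-- part: H917/OmAlt
section
/-!
# `A₆` and `A₇` in `Ω₈⁻(q)`, characteristic different from three (helper917, row S5827)

* `eq_top_prim` : generation of alternating groups;
* `no_A6`, `no_A7` : `A₆`, `A₇` have no faithful absolutely irreducible representation in `Ω₈⁻(q)`, `3 ∤ q`.
-/

set_option autoImplicit false
set_option linter.unusedSectionVars false

namespace Cfsg.Agent.H917.Om

open Cfsg Cfsg.Geo Module Equiv Equiv.Perm
open Cfsg.Agent.H637.JW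
open Cfsg.Agent.H637.SevenA7 (eq_top_of)

universe u v

/-- Generation of alternating groups: a subgroup containing a three-cycle, an element `c` fixing `a` whose powers are
transitive on the other points, and an element moving `a`. -/
theorem eq_top_prim {n : ℕ} (S : Subgroup (alternatingGroup (Fin n))) (a : Fin n)
    (c e d : alternatingGroup (Fin n)) (hc : c ∈ S) (he : e ∈ S) (hd : d ∈ S)
    (hca : (c : Perm (Fin n)) a = a)
    (hct : ∀ i j : Fin n, i ≠ a → j ≠ a → ∃ k : Fin n, ((c : Perm (Fin n)) ^ (k : ℕ)) i = j)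
    (hea : (e : Perm (Fin n)) a ≠ a) (hdt : (d : Perm (Fin n)).IsThreeCycle) : S = ⊤ := by
  have h1 : alternatingGroup (Fin n) ≤ S.map (alternatingGroup (Fin n)).subtype := by
    have hcS : ∀ k : ℕ, (c : Perm (Fin n)) ^ k ∈ S.map (alternatingGroup (Fin n)).subtype := fun k =>
      ⟨c ^ k, pow_mem hc _, rfl⟩
    have heS : (e : Perm (Fin n)) ∈ S.map (alternatingGroup (Fin n)).subtype := ⟨e, he, rfl⟩
    have hcak : ∀ k : ℕ, ((c : Perm (Fin n)) ^ k) a = a := by
      intro k
      induction k with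
      | zero => rfl
      | succ k ih => rw [pow_succ, Perm.mul_apply, hca, ih]
    have htoa : ∀ i : Fin n, ∃ s : S.map (alternatingGroup (Fin n)).subtype, s • i = a := by
      intro i
      by_cases hi : i = a
      · exact ⟨1, by rw [one_smul]; exact hi⟩
      · have hb : (e : Perm (Fin n))⁻¹ a ≠ a := by
          intro h0
          apply hea
          rw [Perm.inv_eq_iff_eq] at h0
          exact h0.symm
        obtain ⟨k, hk⟩ := hct i ((e : Perm (Fin n))⁻¹ a) hi hb
        refine ⟨⟨(e : Perm (Fin n)) * (c : Perm (Fin n)) ^ (k : ℕ), mul_mem heS (hcS _)⟩, ?_⟩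
        change ((e : Perm (Fin n)) * (c : Perm (Fin n)) ^ (k : ℕ)) i = a
        rw [Perm.mul_apply, hk]; simp
    have htr : MulAction.IsPretransitive (S.map (alternatingGroup (Fin n)).subtype) (Fin n) := by
      refine ⟨fun i j => ?_⟩
      obtain ⟨s, hs⟩ := htoa i
      obtain ⟨t, ht⟩ := htoa j
      refine ⟨t⁻¹ * s, ?_⟩
      rw [mul_smul, hs, inv_smul_eq_iff]
      exact ht.symm
    refine alternatingGroup_le_of_isPreprimitive_of_isThreeCycle_mem ?_ hdt ⟨d, hd, rfl⟩
    refine MulAction.IsPreprimitive.of_isTrivialBlock_base a ?_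
    intro B haB hB
    by_cases hsub : B.Subsingleton
    · exact Or.inl hsub
    · right
      rw [Set.not_subsingleton_iff] at hsub
      obtain ⟨j, hj, hja⟩ := hsub.exists_ne a
      rw [Set.eq_univ_iff_forall]
      intro i
      by_cases hi : i = a
      · rw [hi]; exact haB
      · obtain ⟨k, hk⟩ := hct j i hja hi
        have h2 := hB.smul_eq_of_mem (g := (⟨(c : Perm (Fin n)) ^ (k : ℕ), hcS _⟩ :
          S.map (alternatingGroup (Fin n)).subtype)) haB (by
            change ((c : Perm (Fin n)) ^ (k : ℕ)) a ∈ B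
            rw [hcak]; exact haB)
        rw [← h2]
        exact ⟨j, hj, hk⟩
  rw [eq_top_iff]
  intro g _
  obtain ⟨s, hs, hsg⟩ := h1 g.2
  have : s = g := Subtype.ext hsg
  rwa [← this]

variable {F : Type u} [Field F] {T : Type v} [Group T]

theorem not_dvd_three [Fintype F] (h3 : (3 : F) ≠ 0) : ¬ 3 ∣ Fintype.card F * (Fintype.card F ^ 4 + 1) := by
  have h1 : ¬ 3 ∣ Fintype.card F := by
    intro hd
    obtain ⟨p, hp⟩ := CharP.exists F
    have hpp := CharP.char_is_prime F p
    obtain ⟨n, -, hn⟩ := FiniteField.card F p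
    rw [hn] at hd
    have h4 := (Nat.prime_dvd_prime_iff_eq Nat.prime_three hpp).1 (Nat.prime_three.dvd_of_dvd_pow hd)
    subst h4
    apply h3
    exact_mod_cast CharP.cast_eq_zero F 3
  intro hd
  rcases (Nat.prime_three.dvd_mul).1 hd with h2 | h2
  · exact h1 h2
  · have h5 : Fintype.card F % 3 = 1 ∨ Fintype.card F % 3 = 2 := by omega
    have h6 := Nat.mod_eq_zero_of_dvd h2
    rcases h5 with h5 | h5 <;> simp [Nat.add_mod, Nat.pow_mod, h5] at h6

theorem not_dvd_five [Fintype F] (h5 : (5 : F) ≠ 0) : ¬ 5 ∣ Fintype.card F * (Fintype.card F ^ 4 + 1) := by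
  have h1 : ¬ 5 ∣ Fintype.card F := by
    intro hd
    obtain ⟨p, hp⟩ := CharP.exists F
    have hpp := CharP.char_is_prime F p
    obtain ⟨n, -, hn⟩ := FiniteField.card F p
    rw [hn] at hd
    have h4 := (Nat.prime_dvd_prime_iff_eq Nat.prime_five hpp).1 (Nat.prime_five.dvd_of_dvd_pow hd)
    subst h4
    apply h5
    exact_mod_cast CharP.cast_eq_zero F 5
  intro hd
  rcases (Nat.prime_five.dvd_mul).1 hd with h2 | h2
  · exact h1 h2
  · have h5 : Fintype.card F % 5 = 1 ∨ Fintype.card F % 5 = 2 ∨ Fintype.card F % 5 = 3 ∨ Fintype.card F % 5 = 4 := by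
      omega
    have h6 := Nat.mod_eq_zero_of_dvd h2
    rcases h5 with h5 | h5 | h5 | h5 <;> simp only [Nat.add_mod, Nat.pow_mod, h5, _root_.one_pow, _root_.Nat.one_mod, _root_.Nat.reduceAdd, _root_.Nat.reduceMod, _root_.OfNat.ofNat_ne_zero, _root_.Nat.reducePow] at h6

instance fact_five : Fact (Nat.Prime 5) := ⟨Nat.prime_five⟩

theorem cast_ne_zero_ac {n : ℕ} (hn : (n : F) ≠ 0) : (n : AlgebraicClosure F) ≠ 0 := by
  intro h0
  apply hn
  have h1 : algebraMap F (AlgebraicClosure F) (n : F) = 0 := by rw [map_natCast]; exact h0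
  exact (map_eq_zero _).1 h1

namespace OC

variable (h : OC F T)

/-- two commuting elements of order three have a common fixed vector -/
theorem fixed_three [Fintype F] (h3 : (3 : F) ≠ 0) {a b : T} (ha : a ^ 3 = 1) (hb : b ^ 3 = 1) (hab : a * b = b * a) :
    ∃ v : Fin 8 → AlgebraicClosure F, v ≠ 0 ∧ h.σ a v = v ∧ h.σ b v = v := by
  let f : Multiplicative (ZMod 3 × ZMod 3) → T := fun z => a ^ z.toAdd.1.val * b ^ z.toAdd.2.val
  have hcomm : Commute a b := hab
  have key : ∀ (x : T), x ^ 3 = 1 → ∀ i j : ZMod 3, x ^ (i + j).val = x ^ i.val * x ^ j.val := by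
    intro x hx i j
    rw [ZMod.val_add, ← pow_add, ← pow_mod_orderOf x ((i.val + j.val) % 3), ← pow_mod_orderOf x (i.val + j.val)]
    congr 1
    exact Nat.mod_mod_of_dvd _ (orderOf_dvd_of_pow_eq_one hx)
  let φ : Multiplicative (ZMod 3 × ZMod 3) →* T :=
    { toFun := f
      map_one' := by simp [f]
      map_mul' := by
        intro z w
        simp only [f, toAdd_mul, Prod.fst_add, Prod.snd_add]
        rw [key a ha, key b hb]
        have h1 : Commute (a ^ (Multiplicative.toAdd w).1.val) (b ^ (Multiplicative.toAdd z).2.val) :=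
          hcomm.pow_pow _ _
        rw [mul_assoc, mul_assoc]
        congr 1
        rw [← mul_assoc, h1.eq, mul_assoc] }
  have hA : IsPGroup 3 φ.range := by
    intro x
    refine ⟨1, ?_⟩
    obtain ⟨x, y, rfl⟩ := x
    apply Subtype.ext
    change (φ y) ^ (3 ^ 1) = 1
    rw [← map_pow]
    have h1 : y ^ (3 ^ 1) = 1 := by
      revert y; decide
    rw [h1, map_one]
  have hfin : Finite φ.range := by
    have : Finite (Multiplicative (ZMod 3 × ZMod 3)) := inferInstance
    exact Finite.of_surjective (f := fun z => (⟨φ z, ⟨z, rfl⟩⟩ : φ.range)) (by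
      rintro ⟨_, z, rfl⟩
      exact ⟨z, rfl⟩)
  obtain ⟨v, hv0, hv⟩ := h.exists_fixed_of_isPGroup (not_dvd_three h3) φ.range hA
  refine ⟨v, hv0, hv a ⟨Multiplicative.ofAdd (1, 0), ?_⟩, hv b ⟨Multiplicative.ofAdd (0, 1), ?_⟩⟩
  · change a ^ (1 : ZMod 3).val * b ^ (0 : ZMod 3).val = a
    rw [ZMod.val_zero, pow_zero, mul_one, show (1 : ZMod 3).val = 1 from rfl, pow_one]
  · change a ^ (0 : ZMod 3).val * b ^ (1 : ZMod 3).val = b
    rw [ZMod.val_zero, pow_zero, one_mul, show (1 : ZMod 3).val = 1 from rfl, pow_one]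

/-- `⟨a, b⟩` of order nine with an element `g` of order four acting on it by `a ↦ b ↦ a⁻¹`: one of `a`, `a b` has a
fixed space of codimension at most two. -/
theorem fix_three_four [Fintype F] (h3 : (3 : F) ≠ 0) {a b g : T} (ha : a ^ 3 = 1) (hb : b ^ 3 = 1)
    (hab : a * b = b * a) (hga : g⁻¹ * a * g = b) (hgb : g⁻¹ * b * g = a * a) :
    6 ≤ finrank (AlgebraicClosure F) (Fix h.σ a) ∨ 6 ≤ finrank (AlgebraicClosure F) (Fix h.σ (a * b)) := by
  have h3' : ((3 : ℕ) : AlgebraicClosure F) ≠ 0 := cast_ne_zero_ac (by exact_mod_cast h3)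
  obtain ⟨ζ, hζ⟩ := exists_root (K := AlgebraicClosure F) (N := 3) h3'
  let x : Fin 2 → T := ![a, b]
  have hcx : ∀ j k, x j * x k = x k * x j := by
    intro j k
    fin_cases j <;> fin_cases k <;> first | rfl | exact hab | exact hab.symm
  have hxp : ∀ k, x k ^ 3 = 1 := by
    intro k
    fin_cases k
    · exact ha
    · exact hb
  have hc : ∀ j k, h.σ (x j) * h.σ (x k) = h.σ (x k) * h.σ (x j) := by
    intro j k
    rw [← map_mul, ← map_mul, hcx]
  have hf : ∀ k, h.σ (x k) ^ 3 = 1 := by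
    intro k
    rw [← map_pow, hxp, map_one]
  have hind := indep_W h3' hζ (f := fun k => h.σ (x k)) hc hf
  have hsum := sum_W h3' hζ (f := fun k => h.σ (x k)) hc hf
  set D : ZMod 3 → ZMod 3 → ℕ := fun i j =>
    finrank (AlgebraicClosure F) (W 3 ζ (fun k => h.σ (x k)) ![i, j]) with hD
  have hζ3 := hζ.pow_eq_one
  have hDle : ∀ i j, D i j ≤ D j (i + i) := by
    intro i j
    refine finrank_W_le g fun v hv k => ?_
    rw [mem_W] at hv
    have ha : h.σ a v = ζ ^ i.val • v := hv 0
    have hb : h.σ b v = ζ ^ j.val • v := hv 1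
    fin_cases k
    · change h.σ (g⁻¹ * a * g) v = ζ ^ j.val • v
      rw [hga, hb]
    · change h.σ (g⁻¹ * b * g) v = ζ ^ (i + i).val • v
      rw [hgb, act_mul ha ha, pow_val_add hζ3]
  have hs : ∑ i : Fin 3, ∑ j : Fin 3, D i j = 8 := by
    rw [← Module.finrank_fin_fun (AlgebraicClosure F) (n := 8), ← hsum]
    rw [← (piFinTwoEquiv (fun _ => ZMod 3)).symm.sum_comp, Fintype.sum_prod_type]
    rfl
  have hs' : D 0 0 + D 0 1 + D 0 2 + (D 1 0 + D 1 1 + D 1 2) + (D 2 0 + D 2 1 + D 2 2) = 8 := by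
    rw [Fin.sum_univ_three, Fin.sum_univ_three, Fin.sum_univ_three, Fin.sum_univ_three] at hs
    exact hs
  have hpos : 1 ≤ D 0 0 := by
    obtain ⟨v, hv0, hva, hvb⟩ := h.fixed_three h3 ha hb hab
    rw [Nat.one_le_iff_ne_zero, ← Nat.pos_iff_ne_zero]
    simp only [hD]
    rw [Module.finrank_pos_iff]
    refine ⟨⟨⟨v, ?_⟩, 0, fun h0 => hv0 (congrArg Subtype.val h0)⟩⟩
    rw [mem_W]
    intro k
    fin_cases k
    · change h.σ a v = ζ ^ (0 : ZMod 3).val • v
      rw [ZMod.val_zero, pow_zero, one_smul, hva]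
    · change h.σ b v = ζ ^ (0 : ZMod 3).val • v
      rw [ZMod.val_zero, pow_zero, one_smul, hvb]
  have hA : ∑ j : ZMod 3, D 0 j ≤ finrank (AlgebraicClosure F) (Fix h.σ a) := by
    refine sum_le_of_inj hind (fun j : ZMod 3 => ![0, j]) (fun j k h => congrFun h 1) _ fun j => ?_
    intro v hv
    rw [mem_W] at hv
    rw [mem_Fix]
    have := hv 0
    change h.σ a v = ζ ^ (0 : ZMod 3).val • v at this
    rw [this, ZMod.val_zero, pow_zero, one_smul]
  have hB : ∑ j : ZMod 3, D (-j) j ≤ finrank (AlgebraicClosure F) (Fix h.σ (a * b)) := by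
    refine sum_le_of_inj hind (fun j : ZMod 3 => ![-j, j]) (fun j k h => congrFun h 1) _ fun j => ?_
    intro v hv
    rw [mem_W] at hv
    rw [mem_Fix]
    have h1 : h.σ a v = ζ ^ (-j).val • v := hv 0
    have h2 : h.σ b v = ζ ^ j.val • v := hv 1
    rw [act_mul h1 h2, ← pow_val_add hζ3, neg_add_cancel, ZMod.val_zero, pow_zero, one_smul]
  have hA' : D 0 0 + D 0 1 + D 0 2 ≤ finrank (AlgebraicClosure F) (Fix h.σ a) := by
    refine le_trans (le_of_eq ?_) hA
    exact (Fin.sum_univ_three (fun j : Fin 3 => D 0 j)).symm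
  have hB' : D 0 0 + D 2 1 + D 1 2 ≤ finrank (AlgebraicClosure F) (Fix h.σ (a * b)) := by
    refine le_trans (le_of_eq ?_) hB
    exact (Fin.sum_univ_three (fun j : Fin 3 => D (-(j : ZMod 3)) j)).symm
  have e1 : D 1 0 ≤ D 0 2 := hDle 1 0
  have e2 : D 0 2 ≤ D 2 0 := hDle 0 2
  have e3 : D 2 0 ≤ D 0 1 := hDle 2 0
  have e4 : D 0 1 ≤ D 1 0 := hDle 0 1
  have f1 : D 1 1 ≤ D 1 2 := hDle 1 1
  have f2 : D 1 2 ≤ D 2 2 := hDle 1 2
  have f3 : D 2 2 ≤ D 2 1 := hDle 2 2
  have f4 : D 2 1 ≤ D 1 1 := hDle 2 1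
  clear_value D
  omega

/-- three elements with fixed spaces of dimension at least six have a common fixed vector -/
theorem fixed_of_three {x y z : T} (hx : 6 ≤ finrank (AlgebraicClosure F) (Fix h.σ x))
    (hy : 6 ≤ finrank (AlgebraicClosure F) (Fix h.σ y)) (hz : 6 ≤ finrank (AlgebraicClosure F) (Fix h.σ z)) :
    ∃ v : Fin 8 → AlgebraicClosure F, v ≠ 0 ∧ h.σ x v = v ∧ h.σ y v = v ∧ h.σ z v = v := by
  have h1 := add_le_inf (_root_.Cfsg.Agent.H637.JW.Fix h.σ x) (_root_.Cfsg.Agent.H637.JW.Fix h.σ y)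
  have h2 := add_le_inf (_root_.Cfsg.Agent.H637.JW.Fix h.σ x ⊓ _root_.Cfsg.Agent.H637.JW.Fix h.σ y) (_root_.Cfsg.Agent.H637.JW.Fix h.σ z)
  rw [Module.finrank_fin_fun] at h1 h2
  obtain ⟨v, hv, hv0⟩ := exists_fix_of_pos (U := _root_.Cfsg.Agent.H637.JW.Fix h.σ x ⊓ _root_.Cfsg.Agent.H637.JW.Fix h.σ y ⊓ _root_.Cfsg.Agent.H637.JW.Fix h.σ z) (by omega)
  obtain ⟨⟨hvx, hvy⟩, hvz⟩ := hv
  exact ⟨v, hv0, mem_Fix.1 hvx, mem_Fix.1 hvy, mem_Fix.1 hvz⟩

/-- ... and cannot generate `T` -/
theorem false_of_three {x y z : T} (hx : 6 ≤ finrank (AlgebraicClosure F) (Fix h.σ x))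
    (hy : 6 ≤ finrank (AlgebraicClosure F) (Fix h.σ y)) (hz : 6 ≤ finrank (AlgebraicClosure F) (Fix h.σ z))
    (hgen : ∀ S : Subgroup T, x ∈ S → y ∈ S → z ∈ S → S = ⊤) : False := by
  obtain ⟨v, hv0, h1, h2, h3⟩ := h.fixed_of_three hx hy hz
  apply hv0
  apply h.eq_zero_of_fixed
  have h4 := hgen (stab h.σ v) h1 h2 h3
  intro g
  have : g ∈ stab h.σ v := by rw [h4]; trivial
  exact this

end OC

open Cfsg.Agent.H637.SevenA7 (mk a b g g_a g_b a_pow b_pow ab_comm) in
set_option maxRecDepth 20000 in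
/-- **`A₇`, `p ≠ 3`** -/
theorem no_A7 [Fintype F] (h3 : (3 : F) ≠ 0) (h : OC F (alternatingGroup (Fin 7))) : False := by
  rcases h.fix_three_four h3 a_pow b_pow ab_comm g_a g_b with ha | ha
  · let y : alternatingGroup (Fin 7) := _root_.Cfsg.Agent.H637.SevenA7.mk (swap (2 : Fin 7) 3 * swap (3 : Fin 7) 4)
    let z : alternatingGroup (Fin 7) := _root_.Cfsg.Agent.H637.SevenA7.mk (swap (4 : Fin 7) 5 * swap (5 : Fin 7) 6)
    have hy : _root_.Cfsg.Agent.H637.SevenA7.mk (swap (0 : Fin 7) 2 * swap (2 : Fin 7) 4 * swap (4 : Fin 7) 1 * swap (1 : Fin 7) 3) * a *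
      (_root_.Cfsg.Agent.H637.SevenA7.mk (swap (0 : Fin 7) 2 * swap (2 : Fin 7) 4 * swap (4 : Fin 7) 1 * swap (1 : Fin 7) 3))⁻¹ = y := by decide
    have hz : _root_.Cfsg.Agent.H637.SevenA7.mk (swap (0 : Fin 7) 4 * swap (4 : Fin 7) 1 * swap (1 : Fin 7) 5 * swap (5 : Fin 7) 2 * swap (2 : Fin 7) 6 * swap (6 : Fin 7) 3) * a *
      (_root_.Cfsg.Agent.H637.SevenA7.mk (swap (0 : Fin 7) 4 * swap (4 : Fin 7) 1 * swap (1 : Fin 7) 5 * swap (5 : Fin 7) 2 * swap (2 : Fin 7) 6 * swap (6 : Fin 7) 3))⁻¹ = z := by decide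
    refine h.false_of_three (x := a) (y := y) (z := z) ha (by rw [← hy, finrank_Fix_conj]; exact ha)
      (by rw [← hz, finrank_Fix_conj]; exact ha) fun S h1 h2 h3 => ?_
    exact eq_top_of S (a * y * z) a (mul_mem (mul_mem h1 h2) h3) h1 (by decide +kernel)
      (card_support_eq_three_iff.1 (by decide))
  · let y : alternatingGroup (Fin 7) := _root_.Cfsg.Agent.H637.SevenA7.mk (swap (1 : Fin 7) 2 * swap (2 : Fin 7) 3 * swap (4 : Fin 7) 5 * swap (5 : Fin 7) 6)
    have hy : _root_.Cfsg.Agent.H637.SevenA7.mk (swap (0 : Fin 7) 1 * swap (1 : Fin 7) 2 * swap (2 : Fin 7) 3 * swap (3 : Fin 7) 4 * swap (4 : Fin 7) 5 * swap (5 : Fin 7) 6) * (a * b) *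
      (_root_.Cfsg.Agent.H637.SevenA7.mk (swap (0 : Fin 7) 1 * swap (1 : Fin 7) 2 * swap (2 : Fin 7) 3 * swap (3 : Fin 7) 4 * swap (4 : Fin 7) 5 * swap (5 : Fin 7) 6))⁻¹ = y := by decide
    have hy5 : 6 ≤ finrank (AlgebraicClosure F) (Fix h.σ y) := by rw [← hy, finrank_Fix_conj]; exact ha
    refine h.false_of_three (x := a * b) (y := y) (z := y) ha hy5 hy5 fun S h1 h2 _ => ?_
    refine eq_top_of S (a * b * (a * b) * y * (a * b) * y * y) (a * b * y * (a * b) * y)
      (mul_mem (mul_mem (mul_mem (mul_mem (mul_mem h1 h1) h2) h1) h2) h2)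
      (mul_mem (mul_mem (mul_mem h1 h2) h1) h2) (by decide +kernel) (card_support_eq_three_iff.1 (by decide))

namespace Six

def mk (p : Perm (Fin 6)) (h : sign p = 1 := by decide) : alternatingGroup (Fin 6) :=
  ⟨p, mem_alternatingGroup.2 h⟩

def a : alternatingGroup (Fin 6) := mk (swap (0 : Fin 6) 1 * swap (1 : Fin 6) 2)
def b : alternatingGroup (Fin 6) := mk (swap (3 : Fin 6) 4 * swap (4 : Fin 6) 5)
def g : alternatingGroup (Fin 6) := mk (swap (0 : Fin 6) 3 * swap (1 : Fin 6) 5 * swap (5 : Fin 6) 2 * swap (2 : Fin 6) 4)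

theorem g_a : g⁻¹ * a * g = b := by decide
theorem g_b : g⁻¹ * b * g = a * a := by decide
theorem a_pow : a ^ 3 = 1 := by decide
theorem b_pow : b ^ 3 = 1 := by decide
theorem ab_comm : a * b = b * a := by decide

end Six

open Six in
set_option maxRecDepth 20000 in
/-- **`A₆`, `p ≠ 3`** -/
theorem no_A6 [Fintype F] (h3 : (3 : F) ≠ 0) (h : OC F (alternatingGroup (Fin 6))) : False := by
  rcases h.fix_three_four h3 a_pow b_pow ab_comm g_a g_b with ha | ha
  · let z : alternatingGroup (Fin 6) := Six.mk (swap (2 : Fin 6) 3 * swap (3 : Fin 6) 4)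
    have hy : Six.mk (swap (0 : Fin 6) 3 * swap (1 : Fin 6) 4 * swap (4 : Fin 6) 2 * swap (2 : Fin 6) 5) * a *
      (Six.mk (swap (0 : Fin 6) 3 * swap (1 : Fin 6) 4 * swap (4 : Fin 6) 2 * swap (2 : Fin 6) 5))⁻¹ = b := by decide
    have hz : Six.mk (swap (0 : Fin 6) 2 * swap (2 : Fin 6) 4 * swap (4 : Fin 6) 1 * swap (1 : Fin 6) 3) * a *
      (Six.mk (swap (0 : Fin 6) 2 * swap (2 : Fin 6) 4 * swap (4 : Fin 6) 1 * swap (1 : Fin 6) 3))⁻¹ = z := by decide
    refine h.false_of_three (x := a) (y := b) (z := z) ha (by rw [← hy, finrank_Fix_conj]; exact ha)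
      (by rw [← hz, finrank_Fix_conj]; exact ha) fun S h1 h2 h3 => ?_
    exact eq_top_prim S 5 (a * z) b a (mul_mem h1 h3) h2 h1 (by decide) (by decide +kernel) (by decide)
      (card_support_eq_three_iff.1 (by decide))
  · let y : alternatingGroup (Fin 6) := Six.mk (swap (0 : Fin 6) 1 * swap (1 : Fin 6) 2 * swap (3 : Fin 6) 5 * swap (5 : Fin 6) 4)
    let z : alternatingGroup (Fin 6) := Six.mk (swap (0 : Fin 6) 1 * swap (1 : Fin 6) 3 * swap (2 : Fin 6) 4 * swap (4 : Fin 6) 5)
    have hy : Six.mk (swap (0 : Fin 6) 3 * swap (1 : Fin 6) 5 * swap (5 : Fin 6) 2 * swap (2 : Fin 6) 4) * (a * b) *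
      (Six.mk (swap (0 : Fin 6) 3 * swap (1 : Fin 6) 5 * swap (5 : Fin 6) 2 * swap (2 : Fin 6) 4))⁻¹ = y := by decide
    have hz : Six.mk (swap (0 : Fin 6) 2 * swap (2 : Fin 6) 5 * swap (5 : Fin 6) 3 * swap (1 : Fin 6) 4) * (a * b) *
      (Six.mk (swap (0 : Fin 6) 2 * swap (2 : Fin 6) 5 * swap (5 : Fin 6) 3 * swap (1 : Fin 6) 4))⁻¹ = z := by decide
    refine h.false_of_three (x := a * b) (y := y) (z := z) ha (by rw [← hy, finrank_Fix_conj]; exact ha)
      (by rw [← hz, finrank_Fix_conj]; exact ha) fun S h1 h2 h3 => ?_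
    exact eq_top_prim S 5 (z * y) (a * b) (a * b * y) (mul_mem h3 h2) h1 (mul_mem h1 h2) (by decide) (by decide +kernel)
      (by decide) (card_support_eq_three_iff.1 (by decide))

end Cfsg.Agent.H917.Om
end

-- part: H917/OmAlt2
section
/-!
# Alternating groups in `Ω₈⁻(q)` (helper917, row S5827)

* `no_A8` : `A₈`, `p` odd;
* `no_A7_three` : `A₇`, `p = 3`;
* `no_Am` : `A_m`, `9 ≤ m`.
-/

set_option autoImplicit false
set_option linter.unusedSectionVars false

namespace Cfsg.Agent.H917.Om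

open Cfsg Cfsg.Geo Module Equiv Equiv.Perm
open Cfsg.Agent.H637.JW
open Cfsg.Agent.H637.SevenA7 (eq_top_of)
open Cfsg.Agent.H637.SevenA8 (exists_translates dichotomy eq_of_rel exists_map tc)

universe u v

/-! ### Point stabilizers -/

/-- `A_n` as a point stabilizer of `A_{n+1}` -/
def up (n : ℕ) : alternatingGroup (Fin n) →* alternatingGroup (Fin (n + 1)) :=
  (((Equiv.Perm.extendDomainHom (finSuccAboveEquiv (Fin.last n))).comp (alternatingGroup (Fin n)).subtype)).codRestrict _
    (fun x => by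
      change Equiv.Perm.extendDomain (x : Perm (Fin n)) (finSuccAboveEquiv (Fin.last n)) ∈ alternatingGroup _
      rw [Equiv.Perm.mem_alternatingGroup, Equiv.Perm.sign_extendDomain]
      exact Equiv.Perm.mem_alternatingGroup.1 x.2)

theorem mem_range_up {n : ℕ} {g : alternatingGroup (Fin (n + 1))} (hg : (g : Perm (Fin (n + 1))) (Fin.last n) = Fin.last n) :
    g ∈ (up n).range := by
  let e : Fin n ≃ {x : Fin (n + 1) // x ≠ Fin.last n} := finSuccAboveEquiv (Fin.last n)
  have h1 : ∀ x, (g : Perm (Fin (n + 1))) x ≠ Fin.last n ↔ x ≠ Fin.last n := by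
    intro x
    rw [not_iff_not]
    constructor
    · intro h
      apply (g : Perm (Fin (n + 1))).injective
      rw [h, hg]
    · rintro rfl; exact hg
  let h : Perm (Fin n) := e.symm.permCongr ((g : Perm (Fin (n + 1))).subtypePerm h1)
  have h2 : Equiv.Perm.extendDomain h e = g := by
    ext x
    by_cases hx : x = Fin.last n
    · rw [Equiv.Perm.extendDomain_apply_not_subtype h e (not_not.2 hx), hx, hg]
    · rw [Equiv.Perm.extendDomain_apply_subtype h e hx]
      simp [h, Equiv.permCongr_apply, Equiv.Perm.subtypePerm_apply]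
  have h3 : sign h = 1 := by
    rw [← Equiv.Perm.sign_extendDomain h e, h2]
    exact Equiv.Perm.mem_alternatingGroup.1 g.2
  exact ⟨⟨h, Equiv.Perm.mem_alternatingGroup.2 h3⟩, Subtype.ext h2⟩

/-- sums over functions on `Fin (n+1)` -/
theorem sum_cons {N n : ℕ} [NeZero N] (f : (Fin (n + 1) → ZMod N) → ℕ) :
    ∑ c, f c = ∑ i : ZMod N, ∑ c : Fin n → ZMod N, f (Matrix.vecCons i c) := by
  rw [← Fintype.sum_prod_type']
  exact (Fintype.sum_equiv (Fin.consEquiv fun _ => ZMod N) _ _ fun x => rfl).symm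

variable {F : Type u} [Field F] {T : Type v} [Group T]

namespace OC

variable (h : OC F T)

/-- fixed vectors of homomorphic images -/
def HasFix {G : Type*} [Group G] (j : G →* T) : Prop :=
  ∃ v : Fin 8 → AlgebraicClosure F, v ≠ 0 ∧ ∀ g, h.σ (j g) v = v

theorem not_hasFix (hj : h.HasFix (MonoidHom.id T)) : False := by
  obtain ⟨v, hv0, hv⟩ := hj
  exact hv0 (h.eq_zero_of_fixed hv)

section eight

variable (j : alternatingGroup (Fin 8) →* T)

def mk8 (p : Perm (Fin 8)) (h : sign p = 1 := by decide) : alternatingGroup (Fin 8) :=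
  ⟨p, mem_alternatingGroup.2 h⟩

def s1 : alternatingGroup (Fin 8) := mk8 (swap (0 : Fin 8) 1 * swap (2 : Fin 8) 3)
def t1 : alternatingGroup (Fin 8) := mk8 (swap (0 : Fin 8) 2 * swap (1 : Fin 8) 3)
def s2 : alternatingGroup (Fin 8) := mk8 (swap (4 : Fin 8) 5 * swap (6 : Fin 8) 7)
def t2 : alternatingGroup (Fin 8) := mk8 (swap (4 : Fin 8) 6 * swap (5 : Fin 8) 7)
def al : alternatingGroup (Fin 8) := mk8 (swap (0 : Fin 8) 1 * swap (1 : Fin 8) 2)
def be : alternatingGroup (Fin 8) := mk8 (swap (4 : Fin 8) 5 * swap (5 : Fin 8) 6)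
def sw : alternatingGroup (Fin 8) := mk8 (swap (0 : Fin 8) 4 * swap (1 : Fin 8) 5 * swap (2 : Fin 8) 6 * swap (3 : Fin 8) 7)

set_option maxRecDepth 20000 in
/-- double transpositions in `A₈`, `p` odd: codimension at most two -/
theorem fix_dt (h2 : (2 : F) ≠ 0) : 6 ≤ finrank (AlgebraicClosure F) (Fix h.σ (j s1)) := by
  have h2' : ((2 : ℕ) : AlgebraicClosure F) ≠ 0 := cast_ne_zero_ac (by exact_mod_cast h2)
  obtain ⟨ζ, hζ⟩ := exists_root (K := AlgebraicClosure F) (N := 2) h2'
  have hζ2 := hζ.pow_eq_one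
  let x : Fin 4 → alternatingGroup (Fin 8) := ![s1, t1, s2, t2]
  have hcx : ∀ i k, x i * x k = x k * x i := by
    intro i k
    (revert i k; decide +kernel)
  have hxp : ∀ k, x k ^ 2 = 1 := by
    intro k
    (revert k; decide +kernel)
  have hc : ∀ i k, h.σ (j (x i)) * h.σ (j (x k)) = h.σ (j (x k)) * h.σ (j (x i)) := by
    intro i k
    rw [← map_mul, ← map_mul, ← map_mul, ← map_mul, hcx]
  have hf : ∀ k, h.σ (j (x k)) ^ 2 = 1 := by
    intro k
    rw [← map_pow, ← map_pow, hxp, map_one, map_one]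
  have hind := indep_W h2' hζ (f := fun k => h.σ (j (x k))) hc hf
  have hsum := sum_W h2' hζ (f := fun k => h.σ (j (x k))) hc hf
  set D : ZMod 2 → ZMod 2 → ZMod 2 → ZMod 2 → ℕ := fun a b c d =>
    finrank (AlgebraicClosure F) (W 2 ζ (fun k => h.σ (j (x k))) ![a, b, c, d]) with hD
  have hal : ∀ a b c d, D a b c d ≤ D b (a + b) c d := by
    intro a b c d
    refine finrank_W_le (j al) fun v hv k => ?_
    rw [mem_W] at hv
    have e1 : h.σ (j s1) v = ζ ^ a.val • v := hv 0
    have e2 : h.σ (j t1) v = ζ ^ b.val • v := hv 1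
    have e3 : h.σ (j s2) v = ζ ^ c.val • v := hv 2
    have e4 : h.σ (j t2) v = ζ ^ d.val • v := hv 3
    rw [← map_inv, ← map_mul, ← map_mul]
    fin_cases k
    · change h.σ (j (al⁻¹ * s1 * al)) v = ζ ^ b.val • v
      rw [show al⁻¹ * s1 * al = t1 by decide, e2]
    · change h.σ (j (al⁻¹ * t1 * al)) v = ζ ^ (a + b).val • v
      rw [show al⁻¹ * t1 * al = s1 * t1 by decide, map_mul, act_mul e1 e2, pow_val_add hζ2]
    · change h.σ (j (al⁻¹ * s2 * al)) v = ζ ^ c.val • v
      rw [show al⁻¹ * s2 * al = s2 by decide, e3]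
    · change h.σ (j (al⁻¹ * t2 * al)) v = ζ ^ d.val • v
      rw [show al⁻¹ * t2 * al = t2 by decide, e4]
  have hbe : ∀ a b c d, D a b c d ≤ D a b d (c + d) := by
    intro a b c d
    refine finrank_W_le (j be) fun v hv k => ?_
    rw [mem_W] at hv
    have e1 : h.σ (j s1) v = ζ ^ a.val • v := hv 0
    have e2 : h.σ (j t1) v = ζ ^ b.val • v := hv 1
    have e3 : h.σ (j s2) v = ζ ^ c.val • v := hv 2
    have e4 : h.σ (j t2) v = ζ ^ d.val • v := hv 3
    rw [← map_inv, ← map_mul, ← map_mul]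
    fin_cases k
    · change h.σ (j (be⁻¹ * s1 * be)) v = ζ ^ a.val • v
      rw [show be⁻¹ * s1 * be = s1 by decide, e1]
    · change h.σ (j (be⁻¹ * t1 * be)) v = ζ ^ b.val • v
      rw [show be⁻¹ * t1 * be = t1 by decide, e2]
    · change h.σ (j (be⁻¹ * s2 * be)) v = ζ ^ d.val • v
      rw [show be⁻¹ * s2 * be = t2 by decide, e4]
    · change h.σ (j (be⁻¹ * t2 * be)) v = ζ ^ (c + d).val • v
      rw [show be⁻¹ * t2 * be = s2 * t2 by decide, map_mul, act_mul e3 e4, pow_val_add hζ2]
  have hsw : ∀ a b c d, D a b c d ≤ D c d a b := by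
    intro a b c d
    refine finrank_W_le (j sw) fun v hv k => ?_
    rw [mem_W] at hv
    have e1 : h.σ (j s1) v = ζ ^ a.val • v := hv 0
    have e2 : h.σ (j t1) v = ζ ^ b.val • v := hv 1
    have e3 : h.σ (j s2) v = ζ ^ c.val • v := hv 2
    have e4 : h.σ (j t2) v = ζ ^ d.val • v := hv 3
    rw [← map_inv, ← map_mul, ← map_mul]
    fin_cases k
    · change h.σ (j (sw⁻¹ * s1 * sw)) v = ζ ^ c.val • v
      rw [show sw⁻¹ * s1 * sw = s2 by decide, e3]
    · change h.σ (j (sw⁻¹ * t1 * sw)) v = ζ ^ d.val • v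
      rw [show sw⁻¹ * t1 * sw = t2 by decide, e4]
    · change h.σ (j (sw⁻¹ * s2 * sw)) v = ζ ^ a.val • v
      rw [show sw⁻¹ * s2 * sw = s1 by decide, e1]
    · change h.σ (j (sw⁻¹ * t2 * sw)) v = ζ ^ b.val • v
      rw [show sw⁻¹ * t2 * sw = t1 by decide, e2]
  have hs : D 0 0 0 0 + D 0 0 0 1 + (D 0 0 1 0 + D 0 0 1 1) + (D 0 1 0 0 + D 0 1 0 1 + (D 0 1 1 0 + D 0 1 1 1)) +
      (D 1 0 0 0 + D 1 0 0 1 + (D 1 0 1 0 + D 1 0 1 1) + (D 1 1 0 0 + D 1 1 0 1 + (D 1 1 1 0 + D 1 1 1 1))) = 8 := by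
    rw [← Module.finrank_fin_fun (AlgebraicClosure F) (n := 8), ← hsum]
    simp only [sum_cons]
    change _ = ∑ i : Fin 2, ∑ i' : Fin 2, ∑ i'' : Fin 2, ∑ i''' : Fin 2, _
    simp only [Fin.sum_univ_two, Finset.univ_unique, Finset.sum_singleton]
    rfl
  have hA : ∑ c : Fin 3 → ZMod 2, finrank (AlgebraicClosure F) (W 2 ζ (fun k => h.σ (j (x k))) (Matrix.vecCons 0 c)) ≤
      finrank (AlgebraicClosure F) (Fix h.σ (j s1)) := by
    refine sum_le_of_inj hind (fun c : Fin 3 → ZMod 2 => Matrix.vecCons 0 c)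
      (fun c c' hcc => (Matrix.vecCons_inj.1 hcc).2) _ fun c => ?_
    intro v hv
    rw [mem_W] at hv
    rw [mem_Fix]
    have := hv 0
    change h.σ (j s1) v = ζ ^ (0 : ZMod 2).val • v at this
    rw [this, ZMod.val_zero, pow_zero, one_smul]
  have hA' : D 0 0 0 0 + D 0 0 0 1 + (D 0 0 1 0 + D 0 0 1 1) + (D 0 1 0 0 + D 0 1 0 1 + (D 0 1 1 0 + D 0 1 1 1)) ≤
      finrank (AlgebraicClosure F) (Fix h.σ (j s1)) := by
    refine le_trans (le_of_eq ?_) hA
    simp only [sum_cons]
    change _ = ∑ i' : Fin 2, ∑ i'' : Fin 2, ∑ i''' : Fin 2, _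
    simp only [Fin.sum_univ_two, Finset.univ_unique, Finset.sum_singleton]
    rfl
  clear_value D
  -- orbits
  have a1 := hal 1 0 0 0
  have a2 : D 0 1 0 0 ≤ D 1 1 0 0 := hal 0 1 0 0
  have a3 : D 1 1 0 0 ≤ D 1 0 0 0 := hal 1 1 0 0
  have b1 : D 0 0 1 0 ≤ D 0 0 0 1 := hbe 0 0 1 0
  have b2 : D 0 0 0 1 ≤ D 0 0 1 1 := hbe 0 0 0 1
  have b3 : D 0 0 1 1 ≤ D 0 0 1 0 := hbe 0 0 1 1
  have c1 := hsw 1 0 0 0
  have c2 := hsw 0 0 1 0
  have d1 : ∀ c d, D 1 0 c d ≤ D 0 1 c d := fun c d => hal 1 0 c d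
  have d2 : ∀ c d, D 0 1 c d ≤ D 1 1 c d := fun c d => hal 0 1 c d
  have d3 : ∀ c d, D 1 1 c d ≤ D 1 0 c d := fun c d => hal 1 1 c d
  have f1 : ∀ a b, D a b 1 0 ≤ D a b 0 1 := fun a b => hbe a b 1 0
  have f2 : ∀ a b, D a b 0 1 ≤ D a b 1 1 := fun a b => hbe a b 0 1
  have f3 : ∀ a b, D a b 1 1 ≤ D a b 1 0 := fun a b => hbe a b 1 1
  have g1 := d1 1 0
  have g2 := d2 1 0
  have g3 := d3 1 0
  have g4 := d1 0 1
  have g5 := d2 0 1
  have g6 := d3 0 1
  have g7 := d1 1 1
  have g8 := d2 1 1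
  have g9 := d3 1 1
  have k1 := f1 1 0
  have k2 := f2 1 0
  have k3 := f3 1 0
  have k4 := f1 0 1
  have k5 := f2 0 1
  have k6 := f3 0 1
  have k7 := f1 1 1
  have k8 := f2 1 1
  have k9 := f3 1 1
  have a1' : D 1 0 0 0 ≤ D 0 1 0 0 := a1
  (clear * - hs hA' a3 b1 b2 b3 c1 c2 g2 g3 g6 g7 k1 k2 k4 k6 k7 k8 k9 a1'; omega)

end eight

open Cfsg.Agent.H637.SevenA7 (s) in
set_option maxRecDepth 20000 in
/-- `V^{A₇} ≠ 0` for `A₇ < A₈`, `p` odd -/
theorem hasFix_seven (h2 : (2 : F) ≠ 0) (j : alternatingGroup (Fin 8) →* T) : h.HasFix (j.comp (up 7)) := by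
  have hs : 6 ≤ finrank (AlgebraicClosure F) (Fix h.σ (j (up 7 s))) := by
    rw [show up 7 s = s1 by decide]
    exact h.fix_dt j h2
  have hconj : ∀ p : alternatingGroup (Fin 7), 6 ≤ finrank (AlgebraicClosure F) (Fix h.σ (j (up 7 (p * s * p⁻¹)))) := by
    intro p
    rw [map_mul, map_mul, map_mul, map_mul, map_inv, map_inv, finrank_Fix_conj]
    exact hs
  let y : alternatingGroup (Fin 7) := Cfsg.Agent.H637.SevenA7.mk (swap 0 4 * swap 3 6)
  let z : alternatingGroup (Fin 7) := Cfsg.Agent.H637.SevenA7.mk (swap 3 5 * swap 4 6)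
  have hy : Cfsg.Agent.H637.SevenA7.mk (swap 1 4 * swap 2 3 * swap 3 6 * swap 6 5) * s *
    (Cfsg.Agent.H637.SevenA7.mk (swap 1 4 * swap 2 3 * swap 3 6 * swap 6 5))⁻¹ = y := by decide
  have hz : Cfsg.Agent.H637.SevenA7.mk (swap 0 3 * swap 3 6 * swap 6 1 * swap 1 5 * swap 5 2 * swap 2 4) * s *
    (Cfsg.Agent.H637.SevenA7.mk (swap 0 3 * swap 3 6 * swap 6 1 * swap 1 5 * swap 5 2 * swap 2 4))⁻¹ = z := by decide
  obtain ⟨v, hv0, v1, v2, v3⟩ := h.fixed_of_three (x := j (up 7 s)) (y := j (up 7 y)) (z := j (up 7 z)) hs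
    (by rw [← hy]; exact hconj _) (by rw [← hz]; exact hconj _)
  refine ⟨v, hv0, fun g => ?_⟩
  have h4 := eq_top_of (stab (h.σ.comp (j.comp (up 7))) v) (s * y * z) (s * z * s * z)
    (mul_mem (mul_mem v1 v2) v3) (mul_mem (mul_mem (mul_mem v1 v3) v1) v3) (by decide +kernel)
    (card_support_eq_three_iff.1 (by decide))
  have : g ∈ stab (h.σ.comp (j.comp (up 7))) v := by rw [h4]; trivial
  exact this

/-- translates of a vector fixed by a point stabilizer -/
theorem translates {n : ℕ} (hn : 3 ≤ n + 1) (j : alternatingGroup (Fin (n + 1)) →* T) (hj : h.HasFix (j.comp (up n))) :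
    ∃ u : Fin (n + 1) → (Fin 8 → AlgebraicClosure F), u (Fin.last n) ≠ 0 ∧
      ∀ (g : alternatingGroup (Fin (n + 1))) i, (h.σ.comp j) g (u i) = u ((g : Perm (Fin (n + 1))) i) := by
  obtain ⟨v, hv0, hv⟩ := hj
  obtain ⟨u, hu, hu2⟩ := exists_translates hn (h.σ.comp j) (Fin.last n) v (by
    intro g hg
    obtain ⟨x, rfl⟩ := mem_range_up hg
    exact hv x)
  exact ⟨u, by rw [hu]; exact hv0, hu2⟩

theorem sum_fixed {n : ℕ} {j : alternatingGroup (Fin n) →* T} {u : Fin n → (Fin 8 → AlgebraicClosure F)}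
    (hu : ∀ (g : alternatingGroup (Fin n)) i, (h.σ.comp j) g (u i) = u ((g : Perm (Fin n)) i))
    (g : alternatingGroup (Fin n)) : h.σ (j g) (∑ i, u i) = ∑ i, u i := by
  have h1 : (h.σ.comp j) g (∑ i, u i) = ∑ i, u i := by
    rw [map_sum, ← Equiv.sum_comp (g : Perm (Fin n)) u]
    exact Finset.sum_congr rfl fun i _ => hu g i
  exact h1

/-- a line invariant under `A_n`, `5 ≤ n`, is fixed -/
theorem fixed_of_line {n : ℕ} (hn : 5 ≤ n) (j : alternatingGroup (Fin n) →* T) {w : Fin 8 → AlgebraicClosure F}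
    (hw0 : w ≠ 0) (hw : ∀ g, ∃ c : AlgebraicClosure F, h.σ (j g) w = c • w) : h.HasFix j := by
  refine ⟨w, hw0, ?_⟩
  have key : ∀ g : alternatingGroup (Fin n), (g : Perm (Fin n)).IsThreeCycle → g ∈ stab (h.σ.comp j) w := by
    intro g hg
    have hinv : IsConj g g⁻¹ := by
      refine alternatingGroup.isThreeCycle_isConj (by rw [Nat.card_eq_fintype_card, Fintype.card_fin]; exact hn) hg ?_
      exact hg.inv
    obtain ⟨s, hs⟩ := isConj_iff.1 hinv
    obtain ⟨c, hc⟩ := hw g
    obtain ⟨d, hd⟩ := hw s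
    have hd0 : d ≠ 0 := by
      rintro rfl
      rw [zero_smul] at hd
      apply hw0
      apply injective (σ := h.σ) (j s)
      rw [hd, map_zero]
    have h1 : h.σ (j g⁻¹) w = c • w := by
      have h2 : h.σ (j s) (h.σ (j g) w) = h.σ (j (s * g)) w := by rw [map_mul, mul_apply']
      have h3 : s * g = g⁻¹ * s := by rw [← hs]; group
      rw [h3, map_mul, mul_apply', hd, hc, map_smul, map_smul, hd, smul_comm] at h2
      exact (smul_right_injective _ hd0 h2).symm
    have h2 : h.σ (j g⁻¹) (h.σ (j g) w) = w := by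
      rw [← mul_apply', ← map_mul, inv_mul_cancel, map_one, map_one, Module.End.one_apply]
    rw [hc, map_smul, h1, smul_smul] at h2
    have h4 : h.σ (j g) (h.σ (j g) (h.σ (j g) w)) = w := by
      rw [← mul_apply', ← mul_apply', ← map_mul, ← map_mul]
      have h5 : g * (g * g) = 1 := by
        have h6 := pow_orderOf_eq_one (g : Perm (Fin n))
        rw [hg.orderOf, pow_succ, pow_two, mul_assoc] at h6
        exact Subtype.ext h6
      rw [← mul_assoc] at h5
      rw [h5, map_one, map_one, Module.End.one_apply]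
    rw [hc, map_smul, hc, map_smul, map_smul, hc, smul_smul, smul_smul] at h4
    have h5 : (c * c - 1) • w = 0 := by rw [sub_smul, h2, one_smul, sub_self]
    have h6 : (c * c * c - 1) • w = 0 := by rw [sub_smul, h4, one_smul, sub_self]
    have h7 := (smul_eq_zero.1 h5).resolve_right hw0
    have h8 := (smul_eq_zero.1 h6).resolve_right hw0
    have h9 : c = 1 := by linear_combination h8 - c * h7
    change h.σ (j g) w = w
    rw [hc, h9, one_smul]
  have htop : stab (h.σ.comp j) w = ⊤ := by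
    have h1 : alternatingGroup (Fin n) ≤ (stab (h.σ.comp j) w).map (alternatingGroup (Fin n)).subtype := by
      have hcl := closure_three_cycles_eq_alternating (α := Fin n)
      refine hcl.ge.trans ((Subgroup.closure_le _).2 ?_)
      intro g hg
      exact ⟨⟨g, IsThreeCycle.mem_alternatingGroup hg⟩, key _ hg, rfl⟩
    rw [eq_top_iff]
    intro g _
    obtain ⟨s, hs, hsg⟩ := h1 g.2
    have : s = g := Subtype.ext hsg
    rwa [← this]
  intro g
  have : g ∈ stab (h.σ.comp j) w := by rw [htop]; trivial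
  exact this

end OC

end Cfsg.Agent.H917.Om
end
end
end
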