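import Cfsg.Agent.H917.NatRep
import Cfsg.Agent.H917.Four
import Cfsg.Agent.H781.Cov9.Res
import Cfsg.Agent.H918.UBase
import Cfsg.Agent.H908.SLTrans
import Cfsg.Agent.H956.OrthIndex
import Cfsg.Agent.S0242
import Cfsg.Agent.S0243
import Cfsg.Agent.S0278
import Cfsg.Agent.S0280
import Cfsg.Agent.S0293
import Cfsg.Agent.S0294
import Cfsg.Agent.H920.CsFinal
import Cfsg.Agent.S0245
import Cfsg.Agent.H12.KSch
import Cfsg.Agent.FastGrp
import Cfsg.Agent.Prune
set_option linter.all false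
prune_inst 0x7ffffdfffffe7fffffff7e7faed9dffe3b92dfffefdff94bffec61ffafdf339e09e56bad0de030ff1ed6e09e10b87853fbfffeffea6ffc7ffffdfff45ffbee5ff5f7bd0871978c340fbc2ff783f07f8e7f3fffffffffffffffffffffffffffbeffffffffffff
open scoped Cfsg.Agent.FastGrp

-- part: H917/Res8
section
/-!
# Quasisimple subgroups of `GL_8(F)` containing the core of `N(4∘2^{1+6})` (helper917)

`fam8` : a perfect `P ≤ GL_8(F)`, simple modulo scalars, `char F` odd, containing a scalar of order 4, of order divisible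
by `2^15` modulo scalars, none of whose projective representations in odd characteristic has degree `< 8` or between
`8` and `12` : `P` modulo scalars is `PSL_m`, `PSU_m` (`m ≥ 8`) or `PΩ^±_{2l}` (`l ≥ 7`) in the same characteristic.
-/

set_option autoImplicit false

namespace Cfsg.Agent.H917

open Cfsg Subgroup Matrix
open scoped MatrixGroups

universe u v

/-- the four families -/
def Fam (p : ℕ) (T : Type v) [Group T] : Prop :=
  (∃ (K : Type) (_ : Field K) (_ : Fintype K) (m : ℕ), CharP K p ∧ 8 ≤ m ∧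
      Nonempty (T ≃* Matrix.ProjectiveSpecialLinearGroup (Fin m) K)) ∨
  (∃ (K : Type) (_ : Field K) (_ : Fintype K) (m q' : ℕ), CharP K p ∧ Fintype.card K = q' ^ 2 ∧ 8 ≤ m ∧
      Nonempty (T ≃* PSU m K q')) ∨
  (∃ (K : Type) (_ : Field K) (_ : Fintype K) (l : ℕ), CharP K p ∧ 7 ≤ l ∧
      Nonempty (T ≃* POmega K (quadFormPlus l K))) ∨
  (∃ (K : Type) (_ : Field K) (_ : Fintype K) (l : ℕ) (a b : K), CharP K p ∧ 7 ≤ l ∧
      (∀ z₁ z₂ : K, z₁ ^ 2 + a * z₁ * z₂ + b * z₂ ^ 2 = 0 → z₁ = 0 ∧ z₂ = 0) ∧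
      Nonempty (T ≃* POmega K (quadFormMinus (l - 1) K a b)))

/-- the condition on projective representations in odd characteristic -/
def Big8 (T : Type v) [Group T] : Prop :=
  ∀ (K : Type) [Field K] (κ : Type) [Fintype κ] [DecidableEq κ], (2 : K) ≠ 0 → 2 ≤ Fintype.card κ → NatRep K κ T →
    8 ∣ Fintype.card κ ∨ 12 ≤ Fintype.card κ

variable {F : Type u} [Field F]

section

variable {P : Subgroup (GL (Fin 8) F)}

/-- the scalars of a perfect group form a 2-group -/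
theorem scalars_isPGroup (hP : ⁅P, P⁆ = P) : IsPGroup 2 ((Cfsg.Geo.scalars (Fin 8) F).subgroupOf P) := by
  intro z
  refine ⟨3, ?_⟩
  have h1 : ((z : P) : GL (Fin 8) F) ∈ Cfsg.Geo.scalars (Fin 8) F := z.2
  have h2 := H912.Bd.le_specialLinear_of_perfect P hP z.1.2
  obtain ⟨c, hc⟩ := (Cfsg.Geo.mem_scalars_iff _).1 h1
  rw [Cfsg.Geo.specialLinear, MonoidHom.mem_ker] at h2
  have h3 : Matrix.det (((z : P) : GL (Fin 8) F) : Matrix (Fin 8) (Fin 8) F) = 1 := by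
    rw [← Matrix.GeneralLinearGroup.val_det_apply, h2, Units.val_one]
  rw [hc, Matrix.det_smul, Matrix.det_one, mul_one, Fintype.card_fin] at h3
  have key : ∀ x : GL (Fin 8) F, (x : Matrix (Fin 8) (Fin 8) F) ^ 8 = 1 → x ^ 8 = 1 := by
    intro x hx
    apply Units.ext
    rw [Units.val_pow_eq_pow_val, hx, Units.val_one]
  have h4 : ((z : P) : GL (Fin 8) F) ^ 8 = 1 := by
    apply key
    rw [hc, smul_pow, one_pow, h3, one_smul]
  apply Subtype.ext
  apply Subtype.ext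
  exact h4

theorem ker_le_center : (Cfsg.Geo.scalars (Fin 8) F).subgroupOf P ≤ center P := by
  intro z hz
  rw [mem_center_iff]
  intro x
  apply Subtype.ext
  exact (scalars_comm (F := F) hz (x : GL (Fin 8) F)).symm

theorem commutator_top {G : Type*} [Group G] {P : Subgroup G} (hP : ⁅P, P⁆ = P) : commutator P = ⊤ := by
  apply Subgroup.map_injective (Subgroup.subtype_injective P)
  rw [commutator_def, Subgroup.map_commutator, ← MonoidHom.range_eq_map, Subgroup.range_subtype, hP]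

theorem not_noFour [Finite F] (hP : ⁅P, P⁆ = P) {c : F} (hc : c ^ 2 = -1) (h2 : (2 : F) ≠ 0) {z : GL (Fin 8) F}
    (hz : z ∈ P) (hzc : (z : Matrix (Fin 8) (Fin 8) F) = c • 1)
    (h : NoFour.{u} (P ⧸ (Cfsg.Geo.scalars (Fin 8) F).subgroupOf P)) : False := by
  have hker : (QuotientGroup.mk' ((Cfsg.Geo.scalars (Fin 8) F).subgroupOf P)).ker =
    (Cfsg.Geo.scalars (Fin 8) F).subgroupOf P := QuotientGroup.ker_mk' _
  have hc0 : c ≠ 0 := by
    rintro rfl
    rw [zero_pow two_ne_zero] at hc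
    exact one_ne_zero (neg_eq_zero.1 hc.symm)
  have hzs : z ∈ Cfsg.Geo.scalars (Fin 8) F := (Cfsg.Geo.mem_scalars_iff _).2 ⟨Units.mk0 c hc0, hzc⟩
  have h1 := h P (QuotientGroup.mk' ((Cfsg.Geo.scalars (Fin 8) F).subgroupOf P)) (QuotientGroup.mk'_surjective _)
    (by rw [hker]; exact ker_le_center) (commutator_top hP) (by rw [hker]; exact scalars_isPGroup hP) ⟨z, hz⟩
    (by rw [hker, mem_subgroupOf]; exact hzs)
  have h3 : (z : Matrix (Fin 8) (Fin 8) F) ^ 2 = 1 :=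
    congrArg (fun x : P => ((x : GL (Fin 8) F) : Matrix (Fin 8) (Fin 8) F)) h1
  rw [hzc, smul_pow, one_pow, hc] at h3
  have h4 := congrFun (congrFun h3 0) 0
  simp only [Matrix.smul_apply, Matrix.one_apply_eq, smul_eq_mul, mul_one] at h4
  exact h2 (by linear_combination -h4)

end

section

open Cfsg.Agent.LieClassical Cfsg.Agent.LieClassical.OrthCore Cfsg.Agent.LieClassical.OrthTrans
  Cfsg.Agent.LieClassical.OrthFinite Cfsg.Agent.LieClassical.OrthForms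

theorem char_dich {K : Type v} [Field K] [Finite K] {F : Type u} [Field F] {p : ℕ} [CharP F p] (hp : p.Prime)
    (hodd : Odd (Nat.card K)) : CharP K p ∨ ∃ r : ℕ, r.Prime ∧ CharP K r ∧ (r : F) ≠ 0 ∧ ¬ r ∣ 8 := by
  obtain ⟨r, hr⟩ := CharP.exists K
  have hr' : r.Prime := (CharP.char_is_prime_or_zero K r).resolve_right (CharP.char_ne_zero_of_finite K r)
  by_cases h : (r : F) = 0
  · left
    have h1 : p ∣ r := (CharP.cast_eq_zero_iff F p r).1 h
    have h2 : p = r := (Nat.prime_dvd_prime_iff_eq hp hr').1 h1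
    rw [h2]; exact hr
  · right
    refine ⟨r, hr', hr, h, ?_⟩
    intro h8
    have h2 : r ∣ 2 := hr'.dvd_of_dvd_pow (show r ∣ 2 ^ 3 from h8)
    have h3 : r = 2 := (Nat.prime_dvd_prime_iff_eq hr' Nat.prime_two).1 h2
    subst h3
    have : Fintype K := Fintype.ofFinite K
    obtain ⟨n, -, hn⟩ := FiniteField.card K 2
    rw [Nat.card_eq_fintype_card, hn] at hodd
    have h4 : Even (2 ^ (n : ℕ)) := (Nat.even_pow' n.2.ne').2 even_two
    exact (Nat.not_even_iff_odd.2 hodd) h4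

theorem two_ne_zero_of_odd {K : Type v} [Field K] [Finite K] (hodd : Odd (Nat.card K)) : (2 : K) ≠ 0 := by
  intro h
  have : Fintype K := Fintype.ofFinite K
  rw [Nat.card_eq_fintype_card] at hodd
  have h1 : CharP K 2 := CharTwo.of_one_ne_zero_of_two_eq_zero one_ne_zero h
  obtain ⟨n, -, hn⟩ := FiniteField.card K 2
  rw [hn] at hodd
  exact (Nat.not_even_iff_odd.2 hodd) ((Nat.even_pow' n.2.ne').2 even_two)

variable [Finite F] {P : Subgroup (GL (Fin 8) F)}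

theorem fam8 {p : ℕ} [CharP F p] (hp : p.Prime) (hP : ⁅P, P⁆ = P) {T : Type v} [Group T] [Finite T]
    (e : (P ⧸ (Cfsg.Geo.scalars (Fin 8) F).subgroupOf P) ≃* T) (hB : Big8 T)
    (h : (∃ (K : Type) (_ : Field K) (_ : Fintype K) (n : ℕ), 2 ≤ n ∧ Odd (Fintype.card K) ∧
      Nonempty (T ≃* Matrix.ProjectiveSpecialLinearGroup (Fin n) K)) ∨
    (∃ (K : Type) (_ : Field K) (_ : Fintype K) (n q : ℕ), Fintype.card K = q ^ 2 ∧ 3 ≤ n ∧ Odd q ∧
      Nonempty (T ≃* PSU n K q)) ∨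
    (∃ (K : Type) (_ : Field K) (_ : Fintype K) (l : ℕ), 5 ≤ l ∧ Odd l ∧ Odd (Fintype.card K) ∧
      Nonempty (T ≃* POmega K (quadFormPlus l K))) ∨
    (∃ (K : Type) (_ : Field K) (_ : Fintype K) (l : ℕ) (a b : K), 5 ≤ l ∧ Odd l ∧ Odd (Fintype.card K) ∧
      (∀ z₁ z₂ : K, z₁ ^ 2 + a * z₁ * z₂ + b * z₂ ^ 2 = 0 → z₁ = 0 ∧ z₂ = 0) ∧
      Nonempty (T ≃* POmega K (quadFormMinus (l - 1) K a b)))) : Fam p T := by
  have hPR : ∀ r : ℕ, r.Prime → ¬ r ∣ 8 → H912.Bd.PR F 8 r T := fun r hr hr8 => H912.Bd.PR.of_perfect P hP hr hr8 e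
  have fin : ∀ r : ℕ, r.Prime → (r : F) ≠ 0 → ¬ r ∣ 8 → BigE r 9 T → False := fun r hr hrF hr8 hE =>
    hE.false (by norm_num) (hPR r hr hr8) hr hrF
  rcases h with ⟨K, _, _, n, hn, hodd, ⟨f⟩⟩ | ⟨K, _, _, n, q, hK, hn, hodd, ⟨f⟩⟩ | ⟨K, _, _, l, hl, hlo, hodd, ⟨f⟩⟩ |
    ⟨K, _, _, l, a, b, hl, hlo, hodd, hab, ⟨f⟩⟩
  · have hodd' : Odd (Nat.card K) := by rw [Nat.card_eq_fintype_card]; exact hodd
    have h1 := hB K (Fin n) (two_ne_zero_of_odd hodd') (by simpa only [_root_.Fintype.card_fin] using hn) ((natRep_psl K n).congr f)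
    rw [Fintype.card_fin] at h1
    have h8 : 8 ≤ n := by omega
    rcases char_dich (F := F) hp hodd' with h | ⟨r, hr, hrK, hrF, hr8⟩
    · exact Or.inl ⟨K, inferInstance, inferInstance, n, h, h8, ⟨f⟩⟩
    · exact (fin r hr hrF hr8 ((bigE_psl (by omega)).congr f)).elim
  · have hodd' : Odd (Nat.card K) := by
      rw [Nat.card_eq_fintype_card, hK]; exact hodd.pow
    have h1 := hB K (Fin n) (two_ne_zero_of_odd hodd') (by rw [Fintype.card_fin]; omega)
      ((natRep_psu hK hn).congr f)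
    rw [Fintype.card_fin] at h1
    have h8 : 8 ≤ n := by omega
    rcases char_dich (F := F) hp hodd' with h | ⟨r, hr, hrK, hrF, hr8⟩
    · exact Or.inr (Or.inl ⟨K, inferInstance, inferInstance, n, q, h, hK, h8, ⟨f⟩⟩)
    · exact (fin r hr hrF hr8 ((bigE_psu hK (by omega)).congr f)).elim
  · have hodd' : Odd (Nat.card K) := by rw [Nat.card_eq_fintype_card]; exact hodd
    have hG : Good (plusForm l K) := good_of_finite (nondeg_plusForm l K) (by
      rw [Module.finrank_fintype_fun_eq_card, Fintype.card_sum, Fintype.card_fin]; omega)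
    have hcar : Fintype.card (Fin l ⊕ Fin l) = l + l := by rw [Fintype.card_sum, Fintype.card_fin]
    rw [← coe_plusForm] at f
    have h1 := hB K (Fin l ⊕ Fin l) (two_ne_zero_of_odd hodd') (by rw [hcar]; omega) ((natRep_pomega hG).congr f)
    rw [hcar] at h1
    obtain ⟨l', rfl⟩ := hlo
    have h8 : 7 ≤ 2 * l' + 1 := by omega
    rcases char_dich (F := F) hp hodd' with h | ⟨r, hr, hrK, hrF, hr8⟩
    · rw [coe_plusForm] at f
      exact Or.inr (Or.inr (Or.inl ⟨K, inferInstance, inferInstance, 2 * l' + 1, h, h8, ⟨f⟩⟩))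
    · exact (fin r hr hrF hr8 ((bigE_pomega hG (by rw [hcar]; omega)).congr f)).elim
  · have hodd' : Odd (Nat.card K) := by rw [Nat.card_eq_fintype_card]; exact hodd
    have hcar : Fintype.card ((Fin (l - 1) ⊕ Fin (l - 1)) ⊕ Fin 2) = (l - 1) + (l - 1) + 2 := by
      rw [Fintype.card_sum, Fintype.card_sum, Fintype.card_fin, Fintype.card_fin]
    have hG : Good (minusForm (l - 1) K a b) := good_of_finite (nondeg_minusForm (l - 1) K a b hab) (by
      rw [Module.finrank_fintype_fun_eq_card, hcar]; omega)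
    rw [← coe_minusForm] at f
    have h1 := hB K ((Fin (l - 1) ⊕ Fin (l - 1)) ⊕ Fin 2) (two_ne_zero_of_odd hodd') (by rw [hcar]; omega)
      ((natRep_pomega hG).congr f)
    rw [hcar] at h1
    obtain ⟨l', rfl⟩ := hlo
    have h8 : 7 ≤ 2 * l' + 1 := by omega
    rcases char_dich (F := F) hp hodd' with h | ⟨r, hr, hrK, hrF, hr8⟩
    · rw [coe_minusForm] at f
      exact Or.inr (Or.inr (Or.inr ⟨K, inferInstance, inferInstance, 2 * l' + 1, a, b, h, h8, hab, ⟨f⟩⟩))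
    · exact (fin r hr hrF hr8 ((bigE_pomega hG (by rw [hcar]; omega)).congr f)).elim

end

end Cfsg.Agent.H917
end

-- part: H918/Order8
section
/-!
# Simple groups of Lie type in characteristic `p` inside `SL_8(p)` and `SU_8(p)`: orders

`P ≤ SL_8(p)` (`p ≡ 1 mod 4`) or `P ≤ SU_8(p)` (`p ≡ 3 mod 4`) perfect with `4 ∣ |P ∩ scalars|` and `P / scalars`
isomorphic to a group `PSL_m(K)`, `PSU_m(K)`, `m ≥ 8`, or `PΩ^±_2l(K)`, `l ≥ 7`, `K` of characteristic `p`.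
Then `P` is the whole group.
-/

set_option autoImplicit false

namespace Cfsg.Agent.H918.Order8

open Cfsg Cfsg.Geo Cfsg.Agent.H918
open scoped MatrixGroups

/-! ### Arithmetic -/

theorem pow_dvd_of_mul {p : ℕ} (hp : p.Prime) {a N e : ℕ} (h : p ^ e ∣ a * N) (ha : ¬ p ∣ a) : p ^ e ∣ N :=
  (Nat.Coprime.pow_left e ((Nat.Prime.coprime_iff_not_dvd hp).2 ha)).dvd_of_dvd_mul_left h

theorem not_dvd_pow_sub_one {p : ℕ} (hp : p.Prime) {j : ℕ} (hj : j ≠ 0) : ¬ p ∣ p ^ j - 1 := by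
  intro h
  have h1 : p ∣ p ^ j := dvd_pow_self p hj
  have h2 : 1 ≤ p ^ j := Nat.one_le_pow _ _ hp.pos
  have h3 : p ∣ 1 := by
    have := (Nat.dvd_sub h1 h)
    rwa [Nat.sub_sub_self h2] at this
  exact hp.one_lt.ne' (Nat.dvd_one.1 h3)

theorem not_dvd_pow_add_one {p : ℕ} (hp : p.Prime) {j : ℕ} (hj : j ≠ 0) : ¬ p ∣ p ^ j + 1 := by
  intro h
  have h1 : p ∣ p ^ j := dvd_pow_self p hj
  have h3 : p ∣ 1 := (Nat.dvd_add_right h1).1 h
  exact hp.one_lt.ne' (Nat.dvd_one.1 h3)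

theorem not_dvd_of_dvd {p a b : ℕ} (h : ¬ p ∣ b) (hab : a ∣ b) : ¬ p ∣ a := fun h' => h (h'.trans hab)

theorem not_dvd_mul {p : ℕ} (hp : p.Prime) {a b : ℕ} (ha : ¬ p ∣ a) (hb : ¬ p ∣ b) : ¬ p ∣ a * b := by
  intro h
  rcases (hp.dvd_mul).1 h with h | h
  · exact ha h
  · exact hb h

/-- the order of `SL_8(p)` -/
theorem card_sl_eight {F : Type*} [Field F] [Fintype F] {p : ℕ} (hp : p.Prime) (hF : Fintype.card F = p) :
    Nat.card (specialLinear (Fin 8) F) = p ^ 28 * ((p ^ 2 - 1) * (p ^ 3 - 1) * (p ^ 4 - 1) * (p ^ 5 - 1) * (p ^ 6 - 1) *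
      (p ^ 7 - 1) * (p ^ 8 - 1)) := by
  rw [Cfsg.Agent.H956.OrthIndex.card_sl]
  have h := Cfsg.Agent.S0242.result hF 8 (by norm_num)
  have h1 : 1 ≤ p := hp.pos
  have key : ∀ i : ℕ, i ≤ 8 → p ^ 8 - p ^ i = p ^ i * (p ^ (8 - i) - 1) := by
    intro i hi
    rw [Nat.mul_sub, ← pow_add, mul_one, Nat.add_sub_cancel' hi]
  rw [Fin.prod_univ_eight] at h
  simp only [Fin.val_zero, Fin.val_one] at h
  have e2 : ((2 : Fin 8) : ℕ) = 2 := rfl
  have e3 : ((3 : Fin 8) : ℕ) = 3 := rfl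
  have e4 : ((4 : Fin 8) : ℕ) = 4 := rfl
  have e5 : ((5 : Fin 8) : ℕ) = 5 := rfl
  have e6 : ((6 : Fin 8) : ℕ) = 6 := rfl
  have e7 : ((7 : Fin 8) : ℕ) = 7 := rfl
  rw [e2, e3, e4, e5, e6, e7, key 0 (by norm_num), key 1 (by norm_num), key 2 (by norm_num), key 3 (by norm_num),
    key 4 (by norm_num), key 5 (by norm_num), key 6 (by norm_num), key 7 (by norm_num)] at h
  have hpos : 0 < p - 1 := Nat.sub_pos_of_lt hp.one_lt
  apply Nat.eq_of_mul_eq_mul_left hpos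
  rw [h]
  norm_num only [_root_.pow_zero, _root_.one_mul, _root_.pow_one]
  ring

/-- the order of `SU_8(p)` -/
theorem card_su_eight {F : Type*} [Field F] [Fintype F] {p : ℕ} (hF : Fintype.card F = p ^ 2) :
    Nat.card (SUg 8 F p) = p ^ 28 * ((p ^ 2 - 1) * (p ^ 3 + 1) * (p ^ 4 - 1) * (p ^ 5 + 1) * (p ^ 6 - 1) *
      (p ^ 7 + 1) * (p ^ 8 - 1)) := by
  have h1 := Cfsg.Agent.S0278.result hF 8 (by norm_num)
  have h2 : Nat.card (Cfsg.SU 8 F p) = Nat.card (SUg 8 F p) := by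
    rw [← range_suHom]
    exact Nat.card_congr (MonoidHom.ofInjective suHom_injective).toEquiv
  rw [h2] at h1
  apply Nat.eq_of_mul_eq_mul_left (show 0 < p + 1 by omega)
  rw [h1]
  simp only [Finset.prod_range_succ, Finset.prod_range_zero]
  norm_num only [Nat.even_iff, _root_.pow_one, _root_.ite_true, _root_.one_mul, _root_.ite_false]
  ring

theorem card_psl_eight {F : Type*} [Field F] [Fintype F] {p : ℕ} (hp : p.Prime) (hF : Fintype.card F = p) :
    Nat.gcd 8 (p - 1) * Nat.card (Matrix.ProjectiveSpecialLinearGroup (Fin 8) F) =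
      p ^ 28 * ((p ^ 2 - 1) * (p ^ 3 - 1) * (p ^ 4 - 1) * (p ^ 5 - 1) * (p ^ 6 - 1) * (p ^ 7 - 1) * (p ^ 8 - 1)) := by
  have h := Cfsg.Agent.S0243.result hF 8 (by norm_num)
  have h' := Cfsg.Agent.S0242.result hF 8 (by norm_num)
  have hpos : 0 < p - 1 := Nat.sub_pos_of_lt hp.one_lt
  rw [← card_sl_eight hp hF, Cfsg.Agent.H956.OrthIndex.card_sl]
  apply Nat.eq_of_mul_eq_mul_left hpos
  rw [h', ← h]
  ring

theorem card_psu_eight {F : Type*} [Field F] [Fintype F] {p : ℕ} (hF : Fintype.card F = p ^ 2) :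
    Nat.gcd 8 (p + 1) * Nat.card (Cfsg.PSU 8 F p) =
      p ^ 28 * ((p ^ 2 - 1) * (p ^ 3 + 1) * (p ^ 4 - 1) * (p ^ 5 + 1) * (p ^ 6 - 1) * (p ^ 7 + 1) * (p ^ 8 - 1)) := by
  have h := Cfsg.Agent.S0280.result hF 8 (by norm_num)
  apply Nat.eq_of_mul_eq_mul_left (show 0 < p + 1 by omega)
  have h' : (p + 1) * (Nat.gcd 8 (p + 1) * Nat.card (Cfsg.PSU 8 F p)) =
      Nat.gcd 8 (p + 1) * ((p + 1) * Nat.card (Cfsg.PSU 8 F p)) := by ring
  rw [h', h]
  simp only [Finset.prod_range_succ, Finset.prod_range_zero]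
  norm_num only [Nat.even_iff, _root_.pow_one, _root_.ite_true, _root_.one_mul, _root_.ite_false]
  ring

theorem not_dvd_sl {F : Type*} [Field F] [Fintype F] {p : ℕ} (hp : p.Prime) (hF : Fintype.card F = p) :
    ¬ p ^ 29 ∣ Nat.card (specialLinear (Fin 8) F) := by
  rw [card_sl_eight hp hF, pow_succ p 28]
  intro h
  have h1 := Nat.dvd_of_mul_dvd_mul_left (pow_pos hp.pos 28) h
  revert h1
  have a := fun j (hj : j ≠ 0) => not_dvd_pow_sub_one hp (j := j) hj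
  exact not_dvd_mul hp (not_dvd_mul hp (not_dvd_mul hp (not_dvd_mul hp (not_dvd_mul hp (not_dvd_mul hp
    (a 2 (by norm_num)) (a 3 (by norm_num))) (a 4 (by norm_num))) (a 5 (by norm_num))) (a 6 (by norm_num)))
    (a 7 (by norm_num))) (a 8 (by norm_num))

theorem not_dvd_su {F : Type*} [Field F] [Fintype F] {p : ℕ} (hp : p.Prime) (hF : Fintype.card F = p ^ 2) :
    ¬ p ^ 29 ∣ Nat.card (SUg 8 F p) := by
  rw [card_su_eight hF, pow_succ p 28]
  intro h
  have h1 := Nat.dvd_of_mul_dvd_mul_left (pow_pos hp.pos 28) h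
  revert h1
  have a := fun j (hj : j ≠ 0) => not_dvd_pow_sub_one hp (j := j) hj
  have b := fun j (hj : j ≠ 0) => not_dvd_pow_add_one hp (j := j) hj
  exact not_dvd_mul hp (not_dvd_mul hp (not_dvd_mul hp (not_dvd_mul hp (not_dvd_mul hp (not_dvd_mul hp
    (a 2 (by norm_num)) (b 3 (by norm_num))) (a 4 (by norm_num))) (b 5 (by norm_num))) (a 6 (by norm_num)))
    (b 7 (by norm_num))) (a 8 (by norm_num))

/-! ### `p`-parts of the orders of the simple groups -/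

variable {K : Type} [Field K] [Fintype K] {p : ℕ}

theorem exists_card_eq [CharP K p] (hp : p.Prime) : ∃ f, 1 ≤ f ∧ Fintype.card K = p ^ f := by
  have := Fact.mk hp
  obtain ⟨n, -, hn⟩ := FiniteField.card K p
  exact ⟨n, n.2, hn⟩

theorem pow_dvd_psl (hp : p.Prime) {f m : ℕ} (hf : 1 ≤ f) (hK : Fintype.card K = p ^ f) (hm : 2 ≤ m) :
    p ^ (f * (m * (m - 1) / 2)) ∣ Nat.card (Matrix.ProjectiveSpecialLinearGroup (Fin m) K) := by
  have h := Cfsg.Agent.S0243.result hK m hm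
  have hq1 : ¬ p ∣ p ^ f - 1 := not_dvd_pow_sub_one hp (by omega)
  apply pow_dvd_of_mul hp _ hq1
  apply pow_dvd_of_mul hp _ (not_dvd_of_dvd hq1 (Nat.gcd_dvd_right m _))
  rw [h, pow_mul]
  have h1 : (p ^ f) ^ (m * (m - 1) / 2) = ∏ i : Fin m, (p ^ f) ^ (i : ℕ) := by
    rw [Finset.prod_pow_eq_pow_sum, Fin.sum_univ_eq_sum_range (fun i => i) m, Finset.sum_range_id]
  rw [h1]
  apply Finset.prod_dvd_prod_of_dvd
  intro i _
  exact Nat.dvd_sub (pow_dvd_pow _ i.2.le) dvd_rfl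

theorem pow_dvd_psu (hp : p.Prime) {f m q : ℕ} (hf : 1 ≤ f) (hq : q = p ^ f) (hK : Fintype.card K = q ^ 2)
    (hm : 2 ≤ m) : p ^ (f * (m * (m - 1) / 2)) ∣ Nat.card (Cfsg.PSU m K q) := by
  have h := Cfsg.Agent.S0280.result hK m hm
  have hq1 : ¬ p ∣ q + 1 := by rw [hq]; exact not_dvd_pow_add_one hp (by omega)
  apply pow_dvd_of_mul hp _ hq1
  apply pow_dvd_of_mul hp _ (not_dvd_of_dvd hq1 (Nat.gcd_dvd_right m _))
  rw [h, pow_mul, hq]
  exact dvd_mul_right _ _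

theorem not_dvd_four (hp : p.Prime) (hp2 : p ≠ 2) (N : ℕ) : ¬ p ∣ Nat.gcd 4 N := by
  intro h
  have h1 : p ∣ 2 ^ 2 := h.trans ((Nat.gcd_dvd_left 4 N).trans (by norm_num))
  exact hp2 ((Nat.prime_dvd_prime_iff_eq hp Nat.prime_two).1 (hp.dvd_of_dvd_pow h1))

theorem pow_dvd_plus (hp : p.Prime) (hp2 : p ≠ 2) {f l : ℕ} (hK : Fintype.card K = p ^ f) (hl : 4 ≤ l) :
    p ^ (f * (l * (l - 1))) ∣ Nat.card (Cfsg.POmega K (Cfsg.quadFormPlus l K)) := by
  have h := Cfsg.Agent.S0293.result hK l hl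
  refine pow_dvd_of_mul (a := Nat.gcd 4 ((p ^ f) ^ l - 1)) hp ?_ (not_dvd_four hp hp2 _)
  rw [h, pow_mul, mul_assoc]
  exact dvd_mul_right _ _

theorem pow_dvd_minus (hp : p.Prime) (hp2 : p ≠ 2) {f l : ℕ} (hK : Fintype.card K = p ^ f) (hl : 4 ≤ l) (a b : K)
    (hab : ∀ z₁ z₂ : K, z₁ ^ 2 + a * z₁ * z₂ + b * z₂ ^ 2 = 0 → z₁ = 0 ∧ z₂ = 0) :
    p ^ (f * (l * (l - 1))) ∣ Nat.card (Cfsg.POmega K (Cfsg.quadFormMinus (l - 1) K a b)) := by
  have h := Cfsg.Agent.S0294.result hK l hl a b hab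
  refine pow_dvd_of_mul (a := Nat.gcd 4 ((p ^ f) ^ l + 1)) hp ?_ (not_dvd_four hp hp2 _)
  rw [h, pow_mul, mul_assoc]
  exact dvd_mul_right _ _

/-! ### A perfect subgroup of index at most 2 -/

theorem eq_of_card {G : Type*} [Group G] {P S : Subgroup G} [Finite S] (hle : P ≤ S) (hS : ⁅S, S⁆ = S)
    (hc : Nat.card S ≤ 2 * Nat.card P) : P = S := by
  have h1 : Nat.card (P.subgroupOf S) = Nat.card P := Nat.card_congr (Subgroup.subgroupOfEquivOfLe hle).toEquiv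
  have h2 := Subgroup.card_mul_index (P.subgroupOf S)
  rw [h1] at h2
  have : Finite P := Finite.of_injective (Subgroup.inclusion hle) (Subgroup.inclusion_injective _)
  have hpos : 0 < Nat.card P := Nat.card_pos
  have h3 : (P.subgroupOf S).index ≤ 2 := by
    by_contra hlt
    push Not at hlt
    have : Nat.card P * 3 ≤ Nat.card P * (P.subgroupOf S).index := Nat.mul_le_mul_left _ hlt
    omega
  have h0 : (P.subgroupOf S).index ≠ 0 := by
    intro h0
    rw [h0, mul_zero] at h2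
    exact (Nat.card_pos (α := S)).ne h2
  have h4 : (P.subgroupOf S).index = 1 ∨ (P.subgroupOf S).index = 2 := by omega
  rcases h4 with h4 | h4
  · rw [Subgroup.index_eq_one, Subgroup.subgroupOf_eq_top] at h4
    exact le_antisymm hle h4
  · refine le_antisymm hle ?_
    rw [← hS, Subgroup.commutator_le]
    intro a ha b hb
    have h5 : ((⟨a, ha⟩ : S) * ⟨b, hb⟩ * (⟨a, ha⟩ : S)⁻¹ * (⟨b, hb⟩ : S)⁻¹) ∈ P.subgroupOf S := by
      rw [Subgroup.mul_mem_iff_of_index_two h4, Subgroup.mul_mem_iff_of_index_two h4,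
        Subgroup.mul_mem_iff_of_index_two h4, Subgroup.inv_mem_iff, Subgroup.inv_mem_iff]
      (clear * -; tauto)
    rw [commutatorElement_def]
    exact Subgroup.mem_subgroupOf.1 h5

theorem card_facts {G : Type*} [Group G] {P S Z : Subgroup G} [(Z.subgroupOf P).Normal] [Finite S] (hle : P ≤ S)
    (hZ : 4 ∣ Nat.card (Z.subgroupOf P)) {T : Type*} [Group T] (e : Nonempty ((P ⧸ Z.subgroupOf P) ≃* T)) :
    4 * Nat.card T ∣ Nat.card S ∧ 4 * Nat.card T ≤ Nat.card P := by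
  obtain ⟨e⟩ := e
  have h1 := Subgroup.card_eq_card_quotient_mul_card_subgroup (Z.subgroupOf P)
  rw [Nat.card_congr e.toEquiv] at h1
  have : Finite P := Finite.of_injective (Subgroup.inclusion hle) (Subgroup.inclusion_injective _)
  have h2 : 4 * Nat.card T ∣ Nat.card P := by
    rw [h1, mul_comm]
    exact Nat.mul_dvd_mul_left _ hZ
  refine ⟨h2.trans (Subgroup.card_dvd_of_le hle), Nat.le_of_dvd Nat.card_pos h2⟩

theorem exp_cases {p N : ℕ} (hN : ¬ p ^ 29 ∣ N) {f m : ℕ} (hf : 1 ≤ f) (hm : 8 ≤ m)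
    (h : p ^ (f * (m * (m - 1) / 2)) ∣ N) : f = 1 ∧ m = 8 := by
  have h1 : f * (m * (m - 1) / 2) < 29 := by
    by_contra hlt
    push Not at hlt
    exact hN ((pow_dvd_pow p hlt).trans h)
  have hm8 : m = 8 := by
    by_contra hne
    have h9 : 9 ≤ m := by omega
    have h2 : 9 * 8 ≤ m * (m - 1) := Nat.mul_le_mul h9 (by omega)
    have h3 : 36 ≤ m * (m - 1) / 2 := by omega
    have h4 : 1 * 36 ≤ f * (m * (m - 1) / 2) := Nat.mul_le_mul hf h3
    omega
  subst hm8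
  refine ⟨?_, rfl⟩
  have h5 : 8 * (8 - 1) / 2 = 28 := by norm_num
  rw [h5] at h1
  omega

theorem exp_false {p N : ℕ} (hN : ¬ p ^ 29 ∣ N) {f l : ℕ} (hf : 1 ≤ f) (hl : 7 ≤ l)
    (h : p ^ (f * (l * (l - 1))) ∣ N) : False := by
  apply hN
  refine (pow_dvd_pow p ?_).trans h
  have h2 : 7 * 6 ≤ l * (l - 1) := Nat.mul_le_mul hl (by omega)
  have h4 : 1 * 42 ≤ f * (l * (l - 1)) := Nat.mul_le_mul hf h2
  omega

/-- if `q ^ 2` is a power of the prime `p` then so is `q` -/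
theorem exists_pow_of_sq {p q f : ℕ} (hp : p.Prime) (h : p ^ f = q ^ 2) (hf : 1 ≤ f) : ∃ b, 1 ≤ b ∧ q = p ^ b := by
  have h1 : q ∣ p ^ f := by rw [h, pow_two]; exact dvd_mul_right _ _
  obtain ⟨b, -, hb⟩ := (Nat.dvd_prime_pow hp).1 h1
  refine ⟨b, ?_, hb⟩
  by_contra hb0
  have : b = 0 := by omega
  subst this
  rw [pow_zero] at hb
  rw [hb, one_pow] at h
  exact (Nat.one_lt_pow (by omega) hp.one_lt).ne' h

theorem gcd_eight_le (N : ℕ) : Nat.gcd 8 N ≤ 8 := Nat.le_of_dvd (by norm_num) (Nat.gcd_dvd_left 8 N)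

theorem gcd_eight_two {N : ℕ} (h2 : N % 4 = 2) : Nat.gcd 8 N = 2 := by
  have h1 : Nat.gcd 8 N ∣ 8 := Nat.gcd_dvd_left 8 N
  have h3 : Nat.gcd 8 N ∣ N := Nat.gcd_dvd_right 8 N
  have h4 : Nat.gcd 8 N ≤ 8 := gcd_eight_le N
  have h5 : 2 ∣ Nat.gcd 8 N := Nat.dvd_gcd (by norm_num) (by omega)
  have h6 : ¬ 4 ∣ Nat.gcd 8 N := fun h => by
    have := h.trans h3
    omega
  have h7 : 0 < Nat.gcd 8 N := Nat.gcd_pos_of_pos_left _ (by norm_num)
  generalize Nat.gcd 8 N = d at *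
  interval_cases d <;> (clear * - h5 h1 h2 h3; omega)

section Linear

variable {F : Type*} [Field F] [Fintype F] {P : Subgroup (Matrix.GeneralLinearGroup (Fin 8) F)}

/-- (L1) -/
theorem lin_psl [CharP K p] (hp : p.Prime) (hF : Fintype.card F = p)
    (hle : P ≤ specialLinear (Fin 8) F) (hZ : 4 ∣ Nat.card ((scalars (Fin 8) F).subgroupOf P)) {m : ℕ} (hm : 8 ≤ m)
    (e : Nonempty ((P ⧸ (scalars (Fin 8) F).subgroupOf P) ≃* Matrix.ProjectiveSpecialLinearGroup (Fin m) K)) :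
    P = specialLinear (Fin 8) F := by
  obtain ⟨f, hf, hK⟩ := exists_card_eq (K := K) hp
  obtain ⟨h1, h2⟩ := card_facts hle hZ e
  obtain ⟨rfl, rfl⟩ := exp_cases (not_dvd_sl hp hF) hf hm
    ((pow_dvd_psl hp hf hK (by omega)).trans ((dvd_mul_left _ 4).trans h1))
  rw [pow_one] at hK
  refine eq_of_card hle (Cfsg.Agent.H908.perfect_specialLinear (by simp)) ?_
  rw [card_sl_eight hp hF, ← card_psl_eight hp hK]
  have h3 : Nat.gcd 8 (p - 1) * Nat.card (Matrix.ProjectiveSpecialLinearGroup (Fin 8) K) ≤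
      8 * Nat.card (Matrix.ProjectiveSpecialLinearGroup (Fin 8) K) := Nat.mul_le_mul_right _ (gcd_eight_le _)
  omega

/-- (L2) -/
theorem lin_psu [CharP K p] (hp : p.Prime) (hF : Fintype.card F = p) (h4 : p % 4 = 1)
    (hle : P ≤ specialLinear (Fin 8) F) (hZ : 4 ∣ Nat.card ((scalars (Fin 8) F).subgroupOf P)) {m q' : ℕ}
    (hm : 8 ≤ m) (hq' : Fintype.card K = q' ^ 2)
    (e : Nonempty ((P ⧸ (scalars (Fin 8) F).subgroupOf P) ≃* Cfsg.PSU m K q')) : False := by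
  obtain ⟨f, hf, hK⟩ := exists_card_eq (K := K) hp
  obtain ⟨b, hb, hb'⟩ := exists_pow_of_sq hp (hK.symm.trans hq') hf
  obtain ⟨h1, h2⟩ := card_facts hle hZ e
  obtain ⟨rfl, rfl⟩ := exp_cases (not_dvd_sl hp hF) hb hm
    ((pow_dvd_psu hp hb hb' hq' (by omega)).trans ((dvd_mul_left _ 4).trans h1))
  rw [pow_one] at hb'
  subst hb'
  have h3 := card_psu_eight hq'
  rw [gcd_eight_two (N := q' + 1) (by omega)] at h3
  have h5 := card_sl_eight hp hF
  have h6 : 4 * Nat.card (Cfsg.PSU 8 K q') ≤ Nat.card (specialLinear (Fin 8) F) := Nat.le_of_dvd Nat.card_pos h1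
  have h7 : 4 * Nat.card (Cfsg.PSU 8 K q') = 2 * (2 * Nat.card (Cfsg.PSU 8 K q')) := by ring
  rw [h7, h3, h5] at h6
  have hpow : 0 < q' ^ 28 := pow_pos hp.pos 28
  have h8 : q' ^ 28 * (2 * ((q' ^ 2 - 1) * (q' ^ 3 + 1) * (q' ^ 4 - 1) * (q' ^ 5 + 1) * (q' ^ 6 - 1) *
      (q' ^ 7 + 1) * (q' ^ 8 - 1))) ≤ q' ^ 28 * ((q' ^ 2 - 1) * (q' ^ 3 - 1) * (q' ^ 4 - 1) * (q' ^ 5 - 1) * (q' ^ 6 - 1) *
      (q' ^ 7 - 1) * (q' ^ 8 - 1)) := by
    refine le_trans (le_of_eq ?_) h6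
    ring
  have h9 := Nat.le_of_mul_le_mul_left h8 hpow
  have h10 : (q' ^ 2 - 1) * (q' ^ 3 - 1) * (q' ^ 4 - 1) * (q' ^ 5 - 1) * (q' ^ 6 - 1) *
      (q' ^ 7 - 1) * (q' ^ 8 - 1) ≤ (q' ^ 2 - 1) * (q' ^ 3 + 1) * (q' ^ 4 - 1) * (q' ^ 5 + 1) * (q' ^ 6 - 1) *
      (q' ^ 7 + 1) * (q' ^ 8 - 1) := by
    gcongr <;> (clear * -; omega)
  have hpos : ∀ j, 1 ≤ j → 0 < q' ^ j - 1 := fun j hj => Nat.sub_pos_of_lt (Nat.one_lt_pow (by omega) hp.one_lt)
  have h11 : 0 < (q' ^ 2 - 1) * (q' ^ 3 - 1) * (q' ^ 4 - 1) * (q' ^ 5 - 1) * (q' ^ 6 - 1) *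
      (q' ^ 7 - 1) * (q' ^ 8 - 1) := by
    have := hpos 2 (by norm_num)
    have := hpos 3 (by norm_num)
    have := hpos 4 (by norm_num)
    have := hpos 5 (by norm_num)
    have := hpos 6 (by norm_num)
    have := hpos 7 (by norm_num)
    have := hpos 8 (by norm_num)
    positivity
  omega

/-- (L3) -/
theorem lin_plus [CharP K p] (hp : p.Prime) (hF : Fintype.card F = p) (h4 : p % 4 = 1)
    (hle : P ≤ specialLinear (Fin 8) F) (hZ : 4 ∣ Nat.card ((scalars (Fin 8) F).subgroupOf P)) {l : ℕ}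
    (hl : 7 ≤ l) (e : Nonempty ((P ⧸ (scalars (Fin 8) F).subgroupOf P) ≃* Cfsg.POmega K (Cfsg.quadFormPlus l K))) :
    False := by
  obtain ⟨f, hf, hK⟩ := exists_card_eq (K := K) hp
  obtain ⟨h1, h2⟩ := card_facts hle hZ e
  exact exp_false (not_dvd_sl hp hF) hf hl
    ((pow_dvd_plus hp (by omega) hK (by omega)).trans ((dvd_mul_left _ 4).trans h1))

/-- (L4) -/
theorem lin_minus [CharP K p] (hp : p.Prime) (hF : Fintype.card F = p) (h4 : p % 4 = 1)
    (hle : P ≤ specialLinear (Fin 8) F) (hZ : 4 ∣ Nat.card ((scalars (Fin 8) F).subgroupOf P)) {l : ℕ}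
    (hl : 7 ≤ l) {a b : K} (hab : ∀ z₁ z₂ : K, z₁ ^ 2 + a * z₁ * z₂ + b * z₂ ^ 2 = 0 → z₁ = 0 ∧ z₂ = 0)
    (e : Nonempty ((P ⧸ (scalars (Fin 8) F).subgroupOf P) ≃* Cfsg.POmega K (Cfsg.quadFormMinus (l - 1) K a b))) :
    False := by
  obtain ⟨f, hf, hK⟩ := exists_card_eq (K := K) hp
  obtain ⟨h1, h2⟩ := card_facts hle hZ e
  exact exp_false (not_dvd_sl hp hF) hf hl
    ((pow_dvd_minus hp (by omega) hK (by omega) a b hab).trans ((dvd_mul_left _ 4).trans h1))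

end Linear

section Unitary

variable {F : Type*} [Field F] [Fintype F] {P : Subgroup (Matrix.GeneralLinearGroup (Fin 8) F)}

/-- (U1) -/
theorem uni_psl [CharP K p] (hp : p.Prime) (hF : Fintype.card F = p ^ 2) (h4 : p % 4 = 3)
    (hle : P ≤ Cfsg.GU 8 F p ⊓ specialLinear (Fin 8) F) (hZ : 4 ∣ Nat.card ((scalars (Fin 8) F).subgroupOf P)) {m : ℕ}
    (hm : 8 ≤ m)
    (e : Nonempty ((P ⧸ (scalars (Fin 8) F).subgroupOf P) ≃* Matrix.ProjectiveSpecialLinearGroup (Fin m) K)) :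
    False := by
  obtain ⟨f, hf, hK⟩ := exists_card_eq (K := K) hp
  obtain ⟨h1, h2⟩ := card_facts hle hZ e
  obtain ⟨rfl, rfl⟩ := exp_cases (not_dvd_su hp hF) hf hm
    ((pow_dvd_psl hp hf hK (by omega)).trans ((dvd_mul_left _ 4).trans h1))
  rw [pow_one] at hK
  have h3 := card_psl_eight hp hK
  have hp3 : 3 ≤ p := by omega
  rw [gcd_eight_two (N := p - 1) (by omega)] at h3
  have h5 := card_su_eight hF
  have h6 : 4 * Nat.card (Matrix.ProjectiveSpecialLinearGroup (Fin 8) K) ≤ Nat.card (SUg 8 F p) :=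
    Nat.le_of_dvd Nat.card_pos h1
  have h7 : 4 * Nat.card (Matrix.ProjectiveSpecialLinearGroup (Fin 8) K) =
      2 * (2 * Nat.card (Matrix.ProjectiveSpecialLinearGroup (Fin 8) K)) := by ring
  rw [h7, h3, h5] at h6
  have hpow : 0 < p ^ 28 := pow_pos hp.pos 28
  have hpos : ∀ j, 1 ≤ j → 0 < p ^ j - 1 := fun j hj => Nat.sub_pos_of_lt (Nat.one_lt_pow (by omega) hp.one_lt)
  have hbig : ∀ j, 3 ≤ j → 5 * (p ^ j + 1) ≤ 6 * (p ^ j - 1) := by
    intro j hj
    have h8 : 3 ^ 3 ≤ p ^ j := (Nat.pow_le_pow_right (by norm_num) hj).trans (Nat.pow_le_pow_left hp3 j)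
    omega
  have h8 : p ^ 28 * (2 * ((p ^ 2 - 1) * (p ^ 3 - 1) * (p ^ 4 - 1) * (p ^ 5 - 1) * (p ^ 6 - 1) *
      (p ^ 7 - 1) * (p ^ 8 - 1))) ≤ p ^ 28 * ((p ^ 2 - 1) * (p ^ 3 + 1) * (p ^ 4 - 1) * (p ^ 5 + 1) * (p ^ 6 - 1) *
      (p ^ 7 + 1) * (p ^ 8 - 1)) := by
    refine le_trans (le_of_eq ?_) h6
    ring
  have h9 := Nat.le_of_mul_le_mul_left h8 hpow
  have h10 : (p ^ 2 - 1) * (5 * (p ^ 3 + 1)) * (p ^ 4 - 1) * (5 * (p ^ 5 + 1)) * (p ^ 6 - 1) *
      (5 * (p ^ 7 + 1)) * (p ^ 8 - 1) ≤ (p ^ 2 - 1) * (6 * (p ^ 3 - 1)) * (p ^ 4 - 1) * (6 * (p ^ 5 - 1)) * (p ^ 6 - 1) *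
      (6 * (p ^ 7 - 1)) * (p ^ 8 - 1) := by
    have i3 := hbig 3 (by norm_num)
    have i5 := hbig 5 (by norm_num)
    have i7 := hbig 7 (by norm_num)
    gcongr
  have h11 : 0 < (p ^ 2 - 1) * (p ^ 3 - 1) * (p ^ 4 - 1) * (p ^ 5 - 1) * (p ^ 6 - 1) *
      (p ^ 7 - 1) * (p ^ 8 - 1) := by
    have := hpos 2 (by norm_num)
    have := hpos 3 (by norm_num)
    have := hpos 4 (by norm_num)
    have := hpos 5 (by norm_num)
    have := hpos 6 (by norm_num)
    have := hpos 7 (by norm_num)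
    have := hpos 8 (by norm_num)
    positivity
  have h12 : (p ^ 2 - 1) * (5 * (p ^ 3 + 1)) * (p ^ 4 - 1) * (5 * (p ^ 5 + 1)) * (p ^ 6 - 1) *
      (5 * (p ^ 7 + 1)) * (p ^ 8 - 1) = 125 * ((p ^ 2 - 1) * (p ^ 3 + 1) * (p ^ 4 - 1) * (p ^ 5 + 1) * (p ^ 6 - 1) *
      (p ^ 7 + 1) * (p ^ 8 - 1)) := by ring
  have h13 : (p ^ 2 - 1) * (6 * (p ^ 3 - 1)) * (p ^ 4 - 1) * (6 * (p ^ 5 - 1)) * (p ^ 6 - 1) *
      (6 * (p ^ 7 - 1)) * (p ^ 8 - 1) = 216 * ((p ^ 2 - 1) * (p ^ 3 - 1) * (p ^ 4 - 1) * (p ^ 5 - 1) * (p ^ 6 - 1) *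
      (p ^ 7 - 1) * (p ^ 8 - 1)) := by ring
  rw [h12, h13] at h10
  omega

/-- (U2) -/
theorem uni_psu [CharP K p] (hp : p.Prime) (hF : Fintype.card F = p ^ 2)
    (hle : P ≤ Cfsg.GU 8 F p ⊓ specialLinear (Fin 8) F) (hZ : 4 ∣ Nat.card ((scalars (Fin 8) F).subgroupOf P))
    {m q' : ℕ} (hm : 8 ≤ m) (hq' : Fintype.card K = q' ^ 2)
    (e : Nonempty ((P ⧸ (scalars (Fin 8) F).subgroupOf P) ≃* Cfsg.PSU m K q')) :
    P = Cfsg.GU 8 F p ⊓ specialLinear (Fin 8) F := by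
  obtain ⟨f, hf, hK⟩ := exists_card_eq (K := K) hp
  obtain ⟨b, hb, hb'⟩ := exists_pow_of_sq hp (hK.symm.trans hq') hf
  obtain ⟨h1, h2⟩ := card_facts hle hZ e
  obtain ⟨rfl, rfl⟩ := exp_cases (not_dvd_su hp hF) hb hm
    ((pow_dvd_psu hp hb hb' hq' (by omega)).trans ((dvd_mul_left _ 4).trans h1))
  rw [pow_one] at hb'
  subst hb'
  have h3 := card_psu_eight hq'
  refine eq_of_card hle (SUg_perfect hF (by norm_num) (by omega)) ?_
  have h5 : Nat.card (SUg 8 F q') = _ := card_su_eight hF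
  change Nat.card (SUg 8 F q') ≤ _
  rw [h5, ← h3]
  have h6 : Nat.gcd 8 (q' + 1) * Nat.card (Cfsg.PSU 8 K q') ≤
      8 * Nat.card (Cfsg.PSU 8 K q') := Nat.mul_le_mul_right _ (gcd_eight_le _)
  omega

/-- (U3) -/
theorem uni_plus [CharP K p] (hp : p.Prime) (hF : Fintype.card F = p ^ 2) (h4 : p % 4 = 3)
    (hle : P ≤ Cfsg.GU 8 F p ⊓ specialLinear (Fin 8) F) (hZ : 4 ∣ Nat.card ((scalars (Fin 8) F).subgroupOf P)) {l : ℕ}
    (hl : 7 ≤ l) (e : Nonempty ((P ⧸ (scalars (Fin 8) F).subgroupOf P) ≃* Cfsg.POmega K (Cfsg.quadFormPlus l K))) :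
    False := by
  obtain ⟨f, hf, hK⟩ := exists_card_eq (K := K) hp
  obtain ⟨h1, h2⟩ := card_facts hle hZ e
  exact exp_false (not_dvd_su hp hF) hf hl
    ((pow_dvd_plus hp (by omega) hK (by omega)).trans ((dvd_mul_left _ 4).trans h1))

/-- (U4) -/
theorem uni_minus [CharP K p] (hp : p.Prime) (hF : Fintype.card F = p ^ 2) (h4 : p % 4 = 3)
    (hle : P ≤ Cfsg.GU 8 F p ⊓ specialLinear (Fin 8) F) (hZ : 4 ∣ Nat.card ((scalars (Fin 8) F).subgroupOf P)) {l : ℕ}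
    (hl : 7 ≤ l) {a b : K} (hab : ∀ z₁ z₂ : K, z₁ ^ 2 + a * z₁ * z₂ + b * z₂ ^ 2 = 0 → z₁ = 0 ∧ z₂ = 0)
    (e : Nonempty ((P ⧸ (scalars (Fin 8) F).subgroupOf P) ≃* Cfsg.POmega K (Cfsg.quadFormMinus (l - 1) K a b))) :
    False := by
  obtain ⟨f, hf, hK⟩ := exists_card_eq (K := K) hp
  obtain ⟨h1, h2⟩ := card_facts hle hZ e
  exact exp_false (not_dvd_su hp hF) hf hl
    ((pow_dvd_minus hp (by omega) hK (by omega) a b hab).trans ((dvd_mul_left _ 4).trans h1))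

end Unitary

end Cfsg.Agent.H918.Order8
end

-- part: H920/CsMin
section
/-!
# Lemma Min for arbitrary fields (helper920)

`D : Aff r k Γ`, `K` a field in which `r ≠ 0`, `τ : Γ → GL κ K` multiplicative up to scalars, `τ (D.x v₀)` not scalar.
* `Aff.min` : `r ^ k ∣ card κ`, or `r` odd and `r ^ (2 k) - 1 ≤ card κ`, or `r = 2` and
  `2 (2 ^ (2 k) - 1) ≤ card κ (card κ - 1)`;
* `Aff.pow_le_card` : `r ^ k ≤ card κ`;
* `Aff.linear` : for a homomorphism `ρ : Γ →* GL κ K`, `ρ (D.x v₀) ≠ 1`: `r ^ (2 k) - 1 ≤ card κ`;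
* `Coord.Core.min`, `Coord.Core.pow_le_card`, `Coord.Core.linear` : the same for `Y`.
-/

set_option autoImplicit false

namespace Cfsg.Agent.H920

open Cfsg Cfsg.Geo Matrix Cfsg.Agent.ClassicalGeometry.SympBasic
open scoped commutatorElement

section Aff

variable {κ : Type} [Fintype κ] [DecidableEq κ] {K : Type*} [Field K] {Γ : Type*} [Group Γ] {r k : ℕ}

omit [Fintype κ] in
theorem smul_one_of_map {L : Type*} [Field L] [Nonempty κ] (f : K →+* L) {A : Matrix κ κ K} {c : L}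
    (h : A.map f = c • (1 : Matrix κ κ L)) : ∃ d : K, A = d • (1 : Matrix κ κ K) := by
  obtain ⟨i⟩ := (inferInstance : Nonempty κ)
  have hij : ∀ a b, f (A a b) = if a = b then c else 0 := by
    intro a b
    have := congrFun (congrFun h a) b
    rw [Matrix.map_apply, Matrix.smul_apply, Matrix.one_apply, smul_eq_mul, mul_ite, mul_one, mul_zero] at this
    exact this
  refine ⟨A i i, ?_⟩
  ext a b
  apply f.injective
  rw [hij, Matrix.smul_apply, Matrix.one_apply, smul_eq_mul, mul_ite, mul_one, mul_zero]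
  split_ifs
  · rw [hij, if_pos rfl]
  · rw [map_zero]

theorem IsProj.map {L : Type*} [Field L] (f : K →+* L) {τ : Γ → GL κ K} (h : IsProj τ) :
    IsProj (fun g => Matrix.GeneralLinearGroup.map f (τ g)) := by
  intro a b
  obtain ⟨c, hc, h1⟩ := h a b
  refine ⟨f c, (map_ne_zero f).2 hc, ?_⟩
  have h2 : ∀ g : GL κ K, ((Matrix.GeneralLinearGroup.map f g : GL κ L) : Matrix κ κ L) =
      (g : Matrix κ κ K).map f := fun g => rfl
  rw [h2, h2, h2, h1, ← Matrix.map_mul]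
  ext i j
  rw [Matrix.map_apply, Matrix.smul_apply, Matrix.smul_apply, Matrix.map_apply, smul_eq_mul, smul_eq_mul, _root_.map_mul]

variable [Nonempty κ] (D : Aff r k Γ)

/-- **Lemma Min.** -/
theorem Aff.min [hp : Fact r.Prime] (hrK : (r : K) ≠ 0) {τ : Γ → GL κ K} (hτ : IsProj τ) {v₀ : Vec r k}
    (hne : ∀ c : K, (τ (D.x v₀) : Matrix κ κ K) ≠ c • (1 : Matrix κ κ K)) :
    r ^ k ∣ Fintype.card κ ∨ (Odd r ∧ r ^ (2 * k) - 1 ≤ Fintype.card κ) ∨
      (r = 2 ∧ 2 * (2 ^ (2 * k) - 1) ≤ Fintype.card κ * (Fintype.card κ - 1)) := by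
  let L := AlgebraicClosure K
  let f : K →+* L := algebraMap K L
  have hrL : (r : L) ≠ 0 := by
    intro h
    apply hrK
    apply f.injective
    rw [map_natCast, h, map_zero]
  let τ' : Γ → GL κ L := fun g => Matrix.GeneralLinearGroup.map f (τ g)
  have hτ' : IsProj τ' := hτ.map f
  have hne' : ∀ c : L, (τ' (D.x v₀) : Matrix κ κ L) ≠ c • (1 : Matrix κ κ L) := by
    intro c hc
    obtain ⟨d, hd⟩ := smul_one_of_map f hc
    exact hne d hd
  by_cases hcomm : ∀ v w, (τ' (D.x v) : Matrix κ κ L) * (τ' (D.x w) : Matrix κ κ L) =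
      (τ' (D.x w) : Matrix κ κ L) * (τ' (D.x v) : Matrix κ κ L)
  · rcases hp.out.eq_two_or_odd' with rfl | hodd
    · right; right
      exact ⟨rfl, Aff.two_mul_le (by exact_mod_cast hrL) hτ' hcomm hne'⟩
    · right; left
      exact ⟨hodd, D.sq_sub_one_le hodd hrL hτ' hcomm hne'⟩
  · left
    push Not at hcomm
    obtain ⟨v, w, h⟩ := hcomm
    exact D.pow_dvd_card hrL hτ' h

end Aff

section Core

variable {ι : Type} [Fintype ι] [DecidableEq ι] {F : Type*} [Field F] {R : Subgroup (GL ι F)} {r k : ℕ}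
variable {C : Coord R r k} {Y : Subgroup (GL ι F)}
variable {κ : Type} [Fintype κ] [DecidableEq κ] [Nonempty κ] {K : Type*} [Field K]

/-- Descent of a projective representation of `Y` to `Y` modulo scalars. -/
theorem exists_descent {τ : Y → GL κ K} (hτ : IsProj τ)
    (hs : ∀ y : Y, (y : GL ι F) ∈ scalars ι F → ∃ c : K, (τ y : Matrix κ κ K) = c • (1 : Matrix κ κ K)) :
    ∃ τ' : (Y ⧸ (scalars ι F).subgroupOf Y) → GL κ K, IsProj τ' ∧
      ∀ y : Y, ∃ c : K, c ≠ 0 ∧ (τ y : Matrix κ κ K) = c • (τ' (QuotientGroup.mk y) : Matrix κ κ K) := by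
  let τ' : (Y ⧸ (scalars ι F).subgroupOf Y) → GL κ K := fun g => τ (Quotient.out g)
  have hne : ∀ (g : GL κ K) (c : K), (g : Matrix κ κ K) = c • (1 : Matrix κ κ K) → c ≠ 0 := by
    rintro g c h rfl
    rw [zero_smul] at h
    exact Units.ne_zero g h
  have key : ∀ y y' : Y, (QuotientGroup.mk y : Y ⧸ (scalars ι F).subgroupOf Y) = QuotientGroup.mk y' →
      ∃ c : K, c ≠ 0 ∧ (τ y : Matrix κ κ K) = c • (τ y' : Matrix κ κ K) := by
    intro y y' h
    have h1 : ((y'⁻¹ * y : Y) : GL ι F) ∈ scalars ι F := by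
      have := QuotientGroup.eq.1 h.symm
      exact this
    obtain ⟨c, hc⟩ := hs _ h1
    obtain ⟨d, hd, h2⟩ := hτ y' (y'⁻¹ * y)
    rw [mul_inv_cancel_left, hc, Matrix.mul_smul, Matrix.mul_one, smul_smul] at h2
    exact ⟨d * c, mul_ne_zero hd (hne _ _ hc), h2⟩
  have hout : ∀ g : Y ⧸ (scalars ι F).subgroupOf Y, QuotientGroup.mk (Quotient.out g) = g := fun g =>
    QuotientGroup.out_eq' g
  refine ⟨τ', ?_, ?_⟩
  · intro a b
    obtain ⟨c, hc, h1⟩ := key (Quotient.out (a * b)) (Quotient.out a * Quotient.out b) (by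
      rw [QuotientGroup.mk_mul, hout, hout, hout])
    obtain ⟨d, hd, h2⟩ := hτ (Quotient.out a) (Quotient.out b)
    refine ⟨c * d, mul_ne_zero hc hd, ?_⟩
    show (τ (Quotient.out (a * b)) : Matrix κ κ K) = _
    rw [h1, h2, smul_smul]
  · intro y
    exact key y _ (hout _).symm

variable [Finite F] [Nonempty ι] [Fact r.Prime] (hY : C.Core Y) (habs : ActsAbsolutelyIrreducibly (matrixSet R))

include hY habs

theorem Coord.Core.min (hrK : (r : K) ≠ 0) {τ : Y → GL κ K} (hτ : IsProj τ)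
    (hs : ∀ y : Y, (y : GL ι F) ∈ scalars ι F → ∃ c : K, (τ y : Matrix κ κ K) = c • (1 : Matrix κ κ K))
    {x : R} (hx : (x : GL ι F) ∈ Y) (hne : ∀ c : K, (τ ⟨x, hx⟩ : Matrix κ κ K) ≠ c • (1 : Matrix κ κ K)) :
    r ^ k ∣ Fintype.card κ ∨ (Odd r ∧ r ^ (2 * k) - 1 ≤ Fintype.card κ) ∨
      (r = 2 ∧ 2 * (2 ^ (2 * k) - 1) ≤ Fintype.card κ * (Fintype.card κ - 1)) := by
  obtain ⟨τ', h1, h2⟩ := exists_descent hτ hs
  refine (hY.aff habs).min hrK h1 (v₀ := C.φ x) ?_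
  intro c hc
  rw [hY.aff_x habs x hx] at hc
  obtain ⟨d, -, h3⟩ := h2 ⟨x, hx⟩
  rw [hc, smul_smul] at h3
  exact hne _ h3

end Core

end Cfsg.Agent.H920
end

-- part: H917/Res8Over
section
/-!
# The almost simple overgroups of `N(4∘2^{1+6})` in `SL_8(p)`, `p ≡ 1 mod 4`, and `SU_8(p)`, `p ≡ 3 mod 4` (helper917)
-/

set_option autoImplicit false

namespace Cfsg.Agent.H917

open Cfsg Cfsg.Geo Subgroup Matrix Cfsg.Agent.H920
open scoped MatrixGroups

universe u v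

theorem big8_of_aff {Γ : Type*} [Group Γ] (D : Aff 2 3 Γ) {T : Type v} [Group T] (ψ : Γ →* T)
    (hψ : Function.Injective ψ) : Big8 T := by
  rintro K _ κ _ _ h2 hκ ⟨θ, hθ⟩
  have hne : Nonempty κ := Fintype.card_pos_iff.1 (by omega)
  have : Fact (Nat.Prime 2) := ⟨Nat.prime_two⟩
  let τ : Γ → GL κ K := fun g => Quotient.out (θ (ψ g))
  have hτ : ∀ g, (QuotientGroup.mk (τ g) : GL κ K ⧸ center (GL κ K)) = θ (ψ g) := fun g => Quotient.out_eq' _
  have hscal : ∀ z ∈ center (GL κ K), ∃ c : K, c ≠ 0 ∧ (z : Matrix κ κ K) = c • 1 := by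
    intro z hz
    obtain ⟨c, hc⟩ := Matrix.GeneralLinearGroup.mem_center_iff_val_mem_range_scalar.1 hz
    have hc' : (z : Matrix κ κ K) = c • 1 := by
      rw [← hc, Matrix.scalar_apply, Matrix.smul_one_eq_diagonal]
    refine ⟨c, ?_, hc'⟩
    rintro rfl
    rw [zero_smul] at hc'
    exact Units.ne_zero z hc'
  have hproj : IsProj τ := by
    intro a b
    have h1 : (QuotientGroup.mk (τ (a * b)) : GL κ K ⧸ center (GL κ K)) = QuotientGroup.mk (τ a * τ b) := by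
      rw [hτ, map_mul, map_mul, QuotientGroup.mk_mul, hτ, hτ]
    rw [QuotientGroup.eq] at h1
    obtain ⟨c, hc, hz⟩ := hscal _ h1
    refine ⟨c⁻¹, inv_ne_zero hc, ?_⟩
    have h3 : τ a * τ b = τ (a * b) * ((τ (a * b))⁻¹ * (τ a * τ b)) := by group
    have h4 := congrArg (fun x : GL κ K => (x : Matrix κ κ K)) h3
    simp only [Units.val_mul] at h4
    rw [h4, ← Units.val_mul, ← Units.val_mul, hz, mul_smul_comm, mul_one, smul_smul, inv_mul_cancel₀ hc, one_smul]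
  obtain ⟨v₀, hv₀⟩ : ∃ v₀ : Vec 2 3, v₀ ≠ 0 := ⟨Pi.single (Sum.inl 0) 1, fun h => by
    have := congrFun h (Sum.inl 0)
    simp only [_root_.Fin.isValue, _root_.Pi.single_eq_same, _root_.Pi.zero_apply, _root_.one_ne_zero] at this⟩
  have hnsc : ∀ c : K, (τ (D.x v₀) : Matrix κ κ K) ≠ c • (1 : Matrix κ κ K) := by
    intro c hc
    have h1 : θ (ψ (D.x v₀)) = 1 := by
      rw [← hτ, QuotientGroup.eq_one_iff]
      exact mem_center_GL_of_smul hc
    have h3 : ψ (D.x v₀) = 1 := hθ (by rw [h1, map_one])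
    have h4 : D.x v₀ = 1 := hψ (by rw [h3, map_one])
    exact hv₀ (D.inj (h4.trans D.x_zero.symm))
  have h2' : ((2 : ℕ) : K) ≠ 0 := by exact_mod_cast h2
  rcases D.min h2' hproj hnsc with h | ⟨h, -⟩ | ⟨-, h⟩
  · left; exact h
  · exact absurd h (by decide)
  · right
    by_contra hcon
    push Not at hcon
    have h5 : Fintype.card κ * (Fintype.card κ - 1) ≤ 11 * 10 := Nat.mul_le_mul (by omega) (by omega)
    norm_num only [] at h
    omega

section

variable {F : Type u} [Field F] [Fintype F] {R : Subgroup (GL (Fin 8) F)} {k : ℕ} {C : Coord R 2 k}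
  {Y X P : Subgroup (GL (Fin 8) F)}

theorem over_k (h : IsOver C Y X P) : k = 3 := by
  have h1 := h.card_eq
  rw [Fintype.card_fin] at h1
  have h2 : (2 : ℕ) ^ 3 = 2 ^ k := by rw [← h1]; norm_num
  exact (Nat.pow_right_injective (le_refl 2) h2).symm

theorem over_scalar (h : IsOver C Y X P) : ∃ (z : GL (Fin 8) F) (c : F), z ∈ P ∧ c ^ 2 = -1 ∧
    (z : Matrix (Fin 8) (Fin 8) F) = c • 1 ∧ (2 : F) ≠ 0 := by
  have hfin : Finite (GL (Fin 8) F) := inferInstance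
  have hZ : Nat.card (Subgroup.center R) = 4 := by
    rcases h.type with ⟨h1, -⟩ | ⟨-, h1, -⟩
    · exact absurd h1 (by decide)
    · exact h1
  obtain ⟨z, i, hi, hz, hord, -⟩ := exists_i_of_type h.hR h.habs hZ
  refine ⟨z, i, h.R_le z.2, hi, hz, ?_⟩
  intro h2
  have h3 : z ^ 2 = 1 := by
    apply Subtype.ext
    apply Units.ext
    rw [Subgroup.coe_pow, Units.val_pow_eq_pow_val, hz, smul_pow, one_pow, hi]
    have h4 : (-1 : F) = 1 := by linear_combination -h2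
    rw [h4, one_smul]; rfl
  rw [h3, orderOf_one] at hord
  exact absurd hord (by norm_num)

/-- `Y` modulo scalars embeds in `P` modulo scalars -/
def overHom {Y P : Subgroup (GL (Fin 8) F)} (h : Y ≤ P) : (Y ⧸ (scalars (Fin 8) F).subgroupOf Y) →*
    (P ⧸ (scalars (Fin 8) F).subgroupOf P) :=
  QuotientGroup.map _ _ (Subgroup.inclusion h) (by
    intro x hx
    exact hx)

theorem overHom_injective {Y P : Subgroup (GL (Fin 8) F)} (h : Y ≤ P) : Function.Injective (overHom h) := by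
  rw [injective_iff_map_eq_one]
  intro x hx
  obtain ⟨y, rfl⟩ := QuotientGroup.mk_surjective x
  have h1 : (QuotientGroup.mk (Subgroup.inclusion h y) : P ⧸ (scalars (Fin 8) F).subgroupOf P) = 1 := hx
  rw [QuotientGroup.eq_one_iff] at h1
  rw [QuotientGroup.eq_one_iff]
  exact h1

theorem two_pow_dvd_affine : 2 ^ 15 ∣ 2 ^ (2 * 3) * Nat.card (Matrix.symplecticGroup (Fin 3) (ZMod 2)) := by
  rw [S0245.result (F := ZMod 2) (q := 2) (by simp) 3]
  have h1 : ∏ i ∈ Finset.range 3, ((2 : ℕ) ^ (2 * (i + 1)) - 1) = 2835 := by decide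
  rw [h1]
  norm_num

theorem over_fam {p : ℕ} [CharP F p] (hp : p.Prime)
    (hK : ∀ (T : Type u) [Group T] [Finite T] [IsSimpleGroup T], IsKnownSimple' T) (h : IsOver C Y X P) :
    Fam p (P ⧸ (scalars (Fin 8) F).subgroupOf P) := by
  have hfin : Finite (GL (Fin 8) F) := inferInstance
  have : Fact (Nat.Prime 2) := ⟨Nat.prime_two⟩
  obtain rfl := over_k h
  have D : Aff 2 3 (Y ⧸ (scalars (Fin 8) F).subgroupOf Y) := h.core.aff h.habs
  have hinj := overHom_injective h.le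
  have hB := big8_of_aff D (overHom h.le) hinj
  have h15 : 2 ^ 15 ∣ Nat.card (P ⧸ (scalars (Fin 8) F).subgroupOf P) := by
    refine two_pow_dvd_affine.trans ?_
    rw [← h.core.card_quotient h.habs]
    exact Subgroup.card_dvd_of_injective _ hinj
  have hsimple : IsSimpleGroup (P ⧸ (scalars (Fin 8) F).subgroupOf P) := h.isCore.simple
  obtain ⟨z, c, hz, hc, hzc, h2⟩ := over_scalar h
  have hna : ¬ ∀ a b : (P ⧸ (scalars (Fin 8) F).subgroupOf P), a * b = b * a := fun hab =>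
    h.isCore.nonabelian ⟨⟨hab⟩⟩
  refine fam8 hp h.isCore.perfect (MulEquiv.refl _) hB ?_
  rcases no_four.{u} (hK _) hna h15 with h1 | h1
  · exact (not_noFour h.isCore.perfect hc h2 hz hzc h1).elim
  · exact h1

theorem over_four_dvd (h : IsOver C Y X P) : 4 ∣ Nat.card ((scalars (Fin 8) F).subgroupOf P) := by
  have hfin : Finite (GL (Fin 8) F) := inferInstance
  obtain ⟨z, c, hz, hc, hzc, h2⟩ := over_scalar h
  have hc0 : c ≠ 0 := by
    rintro rfl
    rw [zero_pow two_ne_zero] at hc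
    exact one_ne_zero (neg_eq_zero.1 hc.symm)
  have hzs : z ∈ scalars (Fin 8) F := (mem_scalars_iff _).2 ⟨Units.mk0 c hc0, hzc⟩
  have h4 : z ^ 4 = 1 := by
    apply Units.ext
    rw [Units.val_pow_eq_pow_val, hzc, smul_pow, one_pow, Units.val_one, show c ^ 4 = (c ^ 2) ^ 2 by ring, hc]
    simp only [_root_.even_two, _root_.Even.neg_pow, _root_.one_pow, _root_.one_smul]
  have h5 : z ^ 2 ≠ 1 := by
    intro h6
    have h7 : (z : Matrix (Fin 8) (Fin 8) F) ^ 2 = 1 := by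
      rw [← Units.val_pow_eq_pow_val, h6, Units.val_one]
    rw [hzc, smul_pow, one_pow, hc] at h7
    have h8 := congrFun (congrFun h7 0) 0
    simp only [Matrix.smul_apply, Matrix.one_apply_eq, smul_eq_mul, mul_one] at h8
    exact h2 (by linear_combination -h8)
  have h6 : orderOf z = 2 ^ 2 := orderOf_eq_prime_pow (p := 2) (n := 1) (by rw [pow_one]; exact h5) (by norm_num only []; exact h4)
  have h7 : orderOf (⟨⟨z, hz⟩, hzs⟩ : (scalars (Fin 8) F).subgroupOf P) = 4 := by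
    rw [← Subgroup.orderOf_coe, ← Subgroup.orderOf_coe]
    exact h6
  rw [← h7]
  exact _root_.orderOf_dvd_natCard _

theorem over_sl {p : ℕ} (hp : p.Prime) (hF : Fintype.card F = p) (h4 : p % 4 = 1)
    (hK : ∀ (T : Type u) [Group T] [Finite T] [IsSimpleGroup T], IsKnownSimple' T)
    (hX : X ≤ specialLinear (Fin 8) F) (h : IsOver C Y X P) : specialLinear (Fin 8) F ≤ P := by
  have hch : CharP F p := by
    have : Fact p.Prime := ⟨hp⟩
    exact charP_of_card_eq_prime hF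
  have hle : P ≤ specialLinear (Fin 8) F := h.isCore.le.trans hX
  have hZ := over_four_dvd h
  rcases over_fam hp hK h with ⟨K, _, _, m, _, hm, e⟩ | ⟨K, _, _, m, q', _, hq', hm, e⟩ | ⟨K, _, _, l, _, hl, e⟩ |
    ⟨K, _, _, l, a, b, _, hl, hab, e⟩
  · exact (H918.Order8.lin_psl hp hF hle hZ hm e).ge
  · exact (H918.Order8.lin_psu hp hF h4 hle hZ hm hq' e).elim
  · exact (H918.Order8.lin_plus hp hF h4 hle hZ hl e).elim
  · exact (H918.Order8.lin_minus hp hF h4 hle hZ hl hab e).elim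

theorem over_su {p : ℕ} (hp : p.Prime) (hF : Fintype.card F = p ^ 2) (h4 : p % 4 = 3)
    (hK : ∀ (T : Type u) [Group T] [Finite T] [IsSimpleGroup T], IsKnownSimple' T)
    (hX : X ≤ GU 8 F p ⊓ specialLinear (Fin 8) F) (h : IsOver C Y X P) : GU 8 F p ⊓ specialLinear (Fin 8) F ≤ P := by
  have hch : CharP F p := by
    have : Fact p.Prime := ⟨hp⟩
    exact charP_of_card_eq_prime_pow hF
  have hle : P ≤ GU 8 F p ⊓ specialLinear (Fin 8) F := h.isCore.le.trans hX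
  have hZ := over_four_dvd h
  rcases over_fam hp hK h with ⟨K, _, _, m, _, hm, e⟩ | ⟨K, _, _, m, q', _, hq', hm, e⟩ | ⟨K, _, _, l, _, hl, e⟩ |
    ⟨K, _, _, l, a, b, _, hl, hab, e⟩
  · exact (H918.Order8.uni_psl hp hF h4 hle hZ hm e).elim
  · exact (H918.Order8.uni_psu hp hF hle hZ hm hq' e).ge
  · exact (H918.Order8.uni_plus hp hF h4 hle hZ hl e).elim
  · exact (H918.Order8.uni_minus hp hF h4 hle hZ hl hab e).elim

end

end Cfsg.Agent.H917
end

-- part: H917/C6Eight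
section
/-!
# The class 6 subgroups `4∘2^{1+6}.Sp_6(2)` are maximal in `SL_8(p)`, `p ≡ 1 mod 4`, and in `SU_8(p)`, `p ≡ 3 mod 4`
(helper917)

`hK` is the classification (`S0000.result`).
-/

set_option autoImplicit false

namespace Cfsg.Agent.H917

open Cfsg Cfsg.Geo Subgroup Matrix Cfsg.Agent.H920
open scoped MatrixGroups

universe u

variable {F : Type u} [Field F] [Fintype F]

theorem schAll (ι : Type) [Fintype ι] [DecidableEq ι]
    (hK : ∀ (T : Type u) [Group T] [Finite T] [IsSimpleGroup T], IsKnownSimple' T) : SchAll ι F := by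
  intro P hs hna
  have hfin : Finite (GL ι F) := inferInstance
  have hfin2 : Finite (H878.SQ P) := inferInstanceAs (Finite (P ⧸ (scalars ι F).subgroupOf P))
  exact Schreier.Assembly.known _ hna (hK _)

theorem c6_sl8 (hK : ∀ (T : Type u) [Group T] [Finite T] [IsSimpleGroup T], IsKnownSimple' T) {p : ℕ}
    (hp : p.Prime) (hF : Fintype.card F = p) (h4 : p % 4 = 1) {R : Subgroup (GL (Fin 8) F)}
    (hR : IsLinearSymplecticTypeData 2 R) :
    IsMaximalIn (specialLinear (Fin 8) F) (subgroupNormalizer R ⊓ specialLinear (Fin 8) F) :=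
  maximal_SL hR (by rw [Fintype.card_fin]; norm_num) (schAll (Fin 8) hK)
    fun _ _ _ _ _ hX hO _ => over_sl hp hF h4 hK hX hO

theorem c6_su8 (hK : ∀ (T : Type u) [Group T] [Finite T] [IsSimpleGroup T], IsKnownSimple' T) {p : ℕ}
    (hp : p.Prime) (hF : Fintype.card F = p ^ 2) (h4 : p % 4 = 3) {R : Subgroup (GL (Fin 8) F)}
    (hR : IsSymplecticTypeGroup 2 R) (hirr : ActsAbsolutelyIrreducibly (matrixSet R)) (hRD : R ≤ GU 8 F p)
    (hcard : Nat.card R = 256) (hZ : Nat.card (Subgroup.center R) = 4) :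
    IsMaximalIn (GU 8 F p ⊓ specialLinear (Fin 8) F)
      (subgroupNormalizer R ⊓ (GU 8 F p ⊓ specialLinear (Fin 8) F)) := by
  have hpF : Fact p.Prime := ⟨hp⟩
  have hch : CharP F p := charP_of_card_eq_prime_pow hF
  have hmin : IsMinimalFieldFor (Nat.card (Subgroup.center R)) p 2 F := by
    refine ⟨hp, hch, hF, ?_, ?_⟩
    · rw [hZ]
      obtain ⟨k, hk⟩ : ∃ k, p = 4 * k + 3 := ⟨p / 4, by omega⟩
      refine ⟨4 * k ^ 2 + 6 * k + 2, ?_⟩
      have : p ^ 2 = 4 * (4 * k ^ 2 + 6 * k + 2) + 1 := by rw [hk]; ring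
      omega
    · intro d hd hd2
      have : d = 1 := by omega
      subst this
      rw [hZ, pow_one]
      omega
  exact maximal_SU hF (by norm_num) hR hirr hRD hmin (k := 3) (Or.inr ⟨rfl, hZ, by rw [hcard]; norm_num⟩)
    (schAll (Fin 8) hK) fun _ _ _ _ hX hO => over_su hp hF h4 hK hX hO

end Cfsg.Agent.H917
end
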