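import Cfsg.Agent.H917.LinSplit
import Cfsg.Agent.H919.AschSplit
import Cfsg.Agent.H914.Sub2
import Cfsg.Agent.H914.Quad
set_option linter.all false

/-!
# The linear (form-free) Aschbacher theorem, fine version (helper917)

`lin_fine` : `H ≤ GL ι F`, `F` finite, `2 ≤ card ι`. Then `H` is contained in a member of one of the classes
C1–C5, C7, C8 or in the residual class, or normalises (with all the data) a non-scalar group with scalar
commutators (the input for the class C6).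
-/

set_option autoImplicit false
set_option linter.unusedSectionVars false
set_option linter.unusedVariables false

namespace Cfsg.Agent.H917

open Cfsg Cfsg.Geo Matrix
open Cfsg.Agent.H919 (C_split CoreNS WreathData)
open Cfsg.Agent.H914 (exists_le_subfieldSubgroup le_similarityGroup_of_fixes le_quadSimilarityGroup_of_fixes IsSesq)

variable {ι : Type} [Fintype ι] [DecidableEq ι] {F : Type*} [Field F]

/-- If `|F|` is even, the polar form of a non-degenerate quadratic form is symplectic. -/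
lemma polar_symplectic_of_two {Q : (ι → F) → F} (h2 : (2 : F) = 0) (hQ : IsNondegenerateQuadraticForm Q) :
    IsSymplecticForm (QuadraticMap.polar Q) := by
  refine ⟨hQ.polar_bilinear, fun v w => ?_, fun v => ?_, hQ.nondegenerate⟩
  · have h1 : QuadraticMap.polar Q v w = QuadraticMap.polar Q w v := QuadraticMap.polar_comm Q v w
    have h3 : QuadraticMap.polar Q w v + QuadraticMap.polar Q w v = 0 := by
      rw [← two_mul, h2, zero_mul]
    rw [h1]
    exact eq_neg_of_add_eq_zero_left h3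
  · have h1 : QuadraticMap.polar Q v v = (2 : F) * Q v := by
      unfold QuadraticMap.polar
      have h4 : Q (v + v) = 4 * Q v := by
        have := hQ.smul 2 v
        rw [two_smul] at this
        rw [this]; norm_num
      rw [h4]; ring
    rw [h1, h2, zero_mul]

lemma quadSimilarityGroup_le_polar' (Q : (ι → F) → F) :
    quadSimilarityGroup Q ≤ similarityGroup (QuadraticMap.polar Q) := by
  rintro g ⟨c, hc⟩
  refine ⟨c, fun u v => ?_⟩
  simp only [QuadraticMap.polar, ← Matrix.mulVec_add, hc]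
  ring

/-- The case of an absolutely irreducible normal subgroup `P` satisfying all core conditions except `no_subfield`. -/
theorem core_cases [Finite F] {H P : Subgroup (GL ι F)} (hP : CoreNS H P) :
    (∃ (F₀ : Subfield F) (r : ℕ) (B : GL ι F), r.Prime ∧ Nat.card F = Nat.card F₀ ^ r ∧
      H ≤ subfieldSubgroup F₀ B) ∨
    (∃ f : (ι → F) → (ι → F) → F, IsSymplecticForm f ∧ H ≤ similarityGroup f) ∨
    (∃ (σ : F ≃+* F) (f : (ι → F) → (ι → F) → F), IsUnitaryForm σ f ∧ H ≤ similarityGroup f) ∨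
    (∃ Q : (ι → F) → F, IsNondegenerateQuadraticForm Q ∧ (2 : F) ≠ 0 ∧ H ≤ quadSimilarityGroup Q) ∨
    InLinearResidualClass H := by
  by_cases hsub : ∀ F₀ : Subfield F, F₀ ≠ ⊤ → ¬ RealisableOver F₀ (matrixSet P)
  swap
  · push Not at hsub
    obtain ⟨F₀, h0, hreal⟩ := hsub
    obtain ⟨F₁, r, B, -, -, hr, hcard, -, hH⟩ := exists_le_subfieldSubgroup hP.normal hP.absIrred h0 hreal
    exact Or.inl ⟨F₁, r, B, hr, hcard, hH⟩
  right
  have hcore := hP.isResidualCore hsub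
  by_cases hsym : ∃ f : (ι → F) → (ι → F) → F, IsSymplecticForm f ∧ FixesForm (matrixSet P) f
  · obtain ⟨f, hf, hfP⟩ := hsym
    exact Or.inl ⟨f, hf, le_similarityGroup_of_fixes hP.normal hP.absIrred (IsSesq.of_bilinear hf.bilinear)
      hf.nondegenerate hfP⟩
  right
  by_cases hun : ∃ (σ : F ≃+* F) (f : (ι → F) → (ι → F) → F), IsUnitaryForm σ f ∧ FixesForm (matrixSet P) f
  · obtain ⟨σ, f, hf, hfP⟩ := hun
    exact Or.inl ⟨σ, f, hf, le_similarityGroup_of_fixes hP.normal hP.absIrred (IsSesq.of_unitary hf)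
      hf.nondegenerate hfP⟩
  right
  by_cases hq : ∃ Q : (ι → F) → F, IsNondegenerateQuadraticForm Q ∧ FixesQuadForm (matrixSet P) Q
  · obtain ⟨Q, hQ, hQP⟩ := hq
    have h2 : (2 : F) ≠ 0 := by
      intro h2
      apply hsym
      exact ⟨_, polar_symplectic_of_two h2 hQ, Cfsg.Agent.H914.fixesForm_polar hQP⟩
    exact Or.inl ⟨Q, hQ, h2, le_quadSimilarityGroup_of_fixes hP.normal hP.absIrred hQ hQP⟩
  · exact Or.inr ⟨P, hcore, hq, hsym, hun⟩

/-- The linear Aschbacher theorem, with the class C6 in raw form. -/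
theorem lin_fine_raw [Finite F] (hcard : 2 ≤ Fintype.card ι) (H : Subgroup (GL ι F)) :
    (∃ W : Submodule F (ι → F), W ≠ ⊥ ∧ W ≠ ⊤ ∧ H ≤ subspaceStabilizer W) ∨
    (∃ (t m : ℕ) (D : Fin t → Submodule F (ι → F)), IsMDecomposition m D ∧ H ≤ decompositionStabilizer D) ∨
    (∃ (r : ℕ) (K : Subalgebra F (Matrix ι ι F)), r.Prime ∧ IsFieldSubalgebra r K ∧
      H ≤ subalgebraNormalizer K) ∨
    (∃ (n₁ n₂ : ℕ) (e : ι ≃ Fin n₁ × Fin n₂) (P : GL ι F), 2 ≤ n₁ ∧ 2 ≤ n₂ ∧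
      H ≤ tensorProductSubgroup n₁ n₂ e P) ∨
    (∃ (m t : ℕ) (e : ι ≃ (Fin t → Fin m)) (P : GL ι F), 2 ≤ m ∧ 2 ≤ t ∧ H ≤ tensorWreathSubgroup m t e P) ∨
    (∃ (F₀ : Subfield F) (r : ℕ) (B : GL ι F), r.Prime ∧ Nat.card F = Nat.card F₀ ^ r ∧
      H ≤ subfieldSubgroup F₀ B) ∨
    (∃ f : (ι → F) → (ι → F) → F, IsSymplecticForm f ∧ H ≤ similarityGroup f) ∨
    (∃ (σ : F ≃+* F) (f : (ι → F) → (ι → F) → F), IsUnitaryForm σ f ∧ H ≤ similarityGroup f) ∨
    (∃ Q : (ι → F) → F, IsNondegenerateQuadraticForm Q ∧ (2 : F) ≠ 0 ∧ H ≤ quadSimilarityGroup Q) ∨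
    InLinearResidualClass H ∨
    ((∀ N : Subgroup (GL ι F), N ≤ H → (∀ h ∈ H, ∀ x ∈ N, h * x * h⁻¹ ∈ N) →
        N ≤ scalars ι F ∨ ActsAbsolutelyIrreducibly (matrixSet N)) ∧
      ∃ N : Subgroup (GL ι F), N ≤ H ∧ (∀ h ∈ H, ∀ x ∈ N, h * x * h⁻¹ ∈ N) ∧ ¬ N ≤ scalars ι F ∧
        ∀ x ∈ N, ∀ y ∈ N, x * y * x⁻¹ * y⁻¹ ∈ scalars ι F) := by
  rcases lin_split hcard H with h | h | h | h | ⟨hirr, hspan⟩
  · exact Or.inl h
  · exact Or.inr (Or.inl h)
  · exact Or.inr (Or.inr (Or.inl h))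
  · exact Or.inr (Or.inr (Or.inr (Or.inl h)))
  rcases C_split H hirr hcard hspan with h | ⟨m, t, e, P, E, hW⟩ | ⟨P, hP⟩
  · exact Or.inr (Or.inr (Or.inr (Or.inr (Or.inr (Or.inr (Or.inr (Or.inr (Or.inr (Or.inr ⟨hspan, h⟩)))))))))
  · exact Or.inr (Or.inr (Or.inr (Or.inr (Or.inl ⟨m, t, e, P, hW.two_le_m, hW.two_le_t, hW.wreath⟩))))
  · rcases core_cases hP with h | h | h | h | h
    · exact Or.inr (Or.inr (Or.inr (Or.inr (Or.inr (Or.inl h)))))
    · exact Or.inr (Or.inr (Or.inr (Or.inr (Or.inr (Or.inr (Or.inl h))))))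
    · exact Or.inr (Or.inr (Or.inr (Or.inr (Or.inr (Or.inr (Or.inr (Or.inl h)))))))
    · exact Or.inr (Or.inr (Or.inr (Or.inr (Or.inr (Or.inr (Or.inr (Or.inr (Or.inl h))))))))
    · exact Or.inr (Or.inr (Or.inr (Or.inr (Or.inr (Or.inr (Or.inr (Or.inr (Or.inr (Or.inl h)))))))))

end Cfsg.Agent.H917
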